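import Cfsg.Agent.Lib.DFour.CensusCrit

/-!
# Terminal groups and exceptional nodes from the certificates
-/

set_option autoImplicit false
set_option linter.unusedSectionVars false

namespace CfsgLib.DFour.Census

open Subgroup

universe u

variable {H : Type u} [Group H] [Finite H] {ι : Type*} {z : H} {S : Subgroup H}
  {R : ι → Subgroup H}

/-- An involution with a class-count certificate inverts. -/
theorem NodeFam.inverting (N : NodeFam z S R)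
    (hsyl : ∀ J : Subgroup H, IsPGroup 2 J → ∃ h : H, ∀ a ∈ J, h * a * h⁻¹ ∈ S)
    (E : H → Prop) (hE : ∀ h a : H, E (h * a * h⁻¹) ↔ E a) (P : ℕ → Prop)
    (hP : ∀ j, Nat.card (R j) = 16 → ∀ W : Subgroup H, W ≤ R j → Nat.card W = 8 →
      ¬ P (Nat.card {a : H // a ∈ W ∧ E a}))
    (h8node : ∀ i, Nat.card (R i) = 8 → Clean z (R i) → (∃ k, Ext z (R i) k) ∨ OddBound (R i))
    {J : Subgroup H} {y : H} (hy : y * y = 1) (hyJ : ∀ a ∈ J, y * a * y ∈ J)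
    {J' : Subgroup H} (hJ'S : J' ≤ S) (hJ' : Clean z J') (h8 : Nat.card J' = 8)
    (hsub : ∀ a ∈ J', a ∈ J ∨ y * a ∈ J) (hPJ : P (Nat.card {a : H // a ∈ J' ∧ E a})) :
    Inverting z J y := by
  refine ⟨hy, hyJ, J', ⟨hJ', N.no_ext hsyl E hE P hP hJ' h8 hPJ, ?_⟩, hsub⟩
  obtain ⟨i, s, -, hs⟩ := N.reach hJ'S hJ'
  rcases h8node i (by rw [← hs, card_cjS, h8]) (hs ▸ hJ'.cj s) with ⟨k, hk⟩ | hb
  · refine absurd ?_ (N.no_ext hsyl E hE P hP hJ' h8 hPJ (s⁻¹ * k * s⁻¹⁻¹))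
    have h := hk.cj s⁻¹
    rwa [← hs, cjS_inv_cjS] at h
  · have h := oddBound_cj hb s⁻¹
    rwa [← hs, cjS_inv_cjS] at h

/-- An exceptional node from its certificate. -/
theorem NodeFam.exceptional (N : NodeFam z S R)
    (hsyl : ∀ J : Subgroup H, IsPGroup 2 J → ∃ h : H, ∀ a ∈ J, h * a * h⁻¹ ∈ S)
    (hz : z * z = 1)
    (h32 : ∀ j, Nat.card (R j) = 16 → Nat.card {a : H // a ∈ S ∧ ∀ r ∈ R j, a * r = r * a} ≤ 32)
    {J : Subgroup H} (hJ : Clean z J) (h16 : Nat.card J = 16) (hJ2 : ∀ a ∈ J, a * a = 1)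
    (hodd : ∀ d : H, Odd (orderOf d) → (∀ a ∈ J, d * a = a * d) → d = 1)
    {x : H} (hx : IsConj z x) (hxJ : x ∉ J) (hxc : ∀ a ∈ J, x * a = a * x)
    {l : List H} (hlodd : Odd l.length) (hl : ∀ y ∈ l, y = x ∨ Inverting z J y)
    (hprod : l.prod ∈ J) : Exceptional z J := by
  obtain ⟨g, hg⟩ := isConj_iff.1 hx
  have hxx : x * x = 1 := by
    rw [← hg, show g * z * g⁻¹ * (g * z * g⁻¹) = g * (z * z) * g⁻¹ by group, hz, mul_one,
      mul_inv_cancel]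
  exact ⟨hJ2, x, hx, hxJ, hxc, fun c hc => N.cent_eq hsyl h32 hJ h16 hodd hxJ hxc hxx c hc,
    l, hlodd, hl, hprod⟩

end CfsgLib.DFour.Census
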