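import Cfsg.Agent.Lib.DFour.CensusTransport
import Cfsg.Agent.Lib.Fusion.WholeGroup

/-!
# The census criterion from a closed family of nodes
-/

set_option autoImplicit false
set_option linter.unusedSectionVars false

namespace CfsgLib.DFour.Census

open Subgroup

universe u

variable {H : Type u} [Group H] {ι : Type*}

/-- A family of subgroups of `S` closed under extensions, up to conjugation in `S`. -/
structure NodeFam (z : H) (S : Subgroup H) (R : ι → Subgroup H) : Prop where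
  le : ∀ i, R i ≤ S
  bot : ∃ i, R i = ⊥
  closed : ∀ i, ∀ k ∈ S, Ext z (R i) k → ∃ j, ∃ s ∈ S,
    (∀ a ∈ R i, s * a * s⁻¹ ∈ R j) ∧ s * k * s⁻¹ ∈ R j ∧ Nat.card (R j) ≤ 2 * Nat.card (R i)

namespace NodeFam

variable {z : H} {S : Subgroup H} {R : ι → Subgroup H} [Finite H] (N : NodeFam z S R)
include N

/-- Every clean subgroup of `S` is conjugate in `S` to a node. -/
theorem reach {J : Subgroup H} (hJS : J ≤ S) (hJ : Clean z J) :
    ∃ i, ∃ s ∈ S, cjS s J = R i := by
  classical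
  haveI : Fact (Nat.Prime 2) := ⟨Nat.prime_two⟩
  obtain ⟨n, hn⟩ := IsPGroup.iff_card.1 hJ.two
  induction n generalizing J with
  | zero =>
    obtain ⟨i, hi⟩ := N.bot
    refine ⟨i, 1, one_mem _, ?_⟩
    rw [cjS_one, hi]
    exact Subgroup.eq_bot_of_card_eq _ (by rw [hn]; rfl)
  | succ n ih =>
    obtain ⟨J0', h0⟩ := Sylow.exists_subgroup_card_pow_prime (G := J) 2 (n := n)
      (by rw [hn]; exact pow_dvd_pow 2 n.le_succ)
    set J0 := J0'.map J.subtype with hJ0
    have h0c : Nat.card J0 = 2 ^ n := by rw [hJ0, card_map_of_injective J.subtype_injective, h0]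
    have h0le : J0 ≤ J := map_subtype_le _
    have hidx : J0'.index = 2 := by
      have := J0'.card_mul_index
      rw [h0, hn, pow_succ] at this
      exact Nat.eq_of_mul_eq_mul_left (by positivity) this
    obtain ⟨i, s, hs, hsi⟩ := ih (le_trans h0le hJS)
      ⟨hJ.two.to_le h0le, fun a ha b hb => hJ.ab a (h0le ha) b (h0le hb),
        fun a ha => hJ.free a (h0le ha)⟩ h0c
    obtain ⟨k, hkJ, hk0⟩ : ∃ k ∈ J, k ∉ J0 := by
      by_contra h
      push Not at h
      have := Subgroup.card_le_card_group (J0' : Subgroup J)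
      have he : J0 = J := le_antisymm h0le h
      rw [he, hn, pow_succ] at h0c
      have : 0 < 2 ^ n := by positivity
      omega
    have hsq : k * k ∈ J0 :=
      ⟨⟨k, hkJ⟩ * ⟨k, hkJ⟩, Subgroup.mul_self_mem_of_index_two hidx _, rfl⟩
    have he : Ext z (R i) (s * k * s⁻¹) := hsi ▸
      (show Ext z J0 k from ⟨hk0, fun a ha => hJ.ab k hkJ a (h0le ha), hsq,
        fun a ha => hJ.free _ (mul_mem hkJ (h0le ha))⟩).cj s
    obtain ⟨j, t, ht, hta, htk, hcard⟩ :=
      N.closed i _ (mul_mem (mul_mem hs (hJS hkJ)) (inv_mem hs)) he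
    refine ⟨j, t * s, mul_mem ht hs, ?_⟩
    have hcov : ∀ a ∈ J, a ∈ J0 ∨ k * a ∈ J0 := fun a ha => by
      by_contra hne
      push Not at hne
      refine hne.2 ⟨⟨k, hkJ⟩ * ⟨a, ha⟩, ?_, rfl⟩
      rw [SetLike.mem_coe, mul_mem_iff_of_index_two hidx]
      refine iff_of_false (fun h => hk0 ⟨_, h, rfl⟩) (fun h => hne.1 ⟨_, h, rfl⟩)
    have h0' : ∀ a ∈ J0, t * s * a * (t * s)⁻¹ ∈ R j := fun a ha => by
      have := hta _ (hsi ▸ cj_mem_cjS s ha)
      rwa [show t * s * a * (t * s)⁻¹ = t * (s * a * s⁻¹) * t⁻¹ by group]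
    refine Subgroup.eq_of_le_of_card_ge ?_ ?_
    · rintro _ ⟨a, ha, rfl⟩
      simp only [MulEquiv.toMonoidHom_eq_coe, MonoidHom.coe_coe, MulAut.conj_apply]
      rcases hcov a ha with h | h
      · exact h0' a h
      · have hk' : t * s * k * (t * s)⁻¹ ∈ R j := by
          rwa [show t * s * k * (t * s)⁻¹ = t * (s * k * s⁻¹) * t⁻¹ by group]
        rw [show t * s * a * (t * s)⁻¹ =
          (t * s * k * (t * s)⁻¹)⁻¹ * (t * s * (k * a) * (t * s)⁻¹) by group]
        exact mul_mem (inv_mem hk') (h0' _ h)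
    · rw [card_cjS, hn, pow_succ]
      rw [← hsi, card_cjS, h0c] at hcard
      omega

/-- A clean subgroup of the whole group is conjugate to a node. -/
theorem reach' (hsyl : ∀ J : Subgroup H, IsPGroup 2 J → ∃ h : H, ∀ a ∈ J, h * a * h⁻¹ ∈ S)
    {J : Subgroup H} (hJ : Clean z J) : ∃ i h, cjS h J = R i := by
  obtain ⟨h, hh⟩ := hsyl J hJ.two
  obtain ⟨i, s, -, hs⟩ := N.reach (by rintro _ ⟨a, ha, rfl⟩; exact hh a ha) (hJ.cj h)
  exact ⟨i, s * h, by rw [← hs, cjS_cjS]⟩

/-- An exceptional node: no element of odd order in the centraliser, and small centralisers inside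
`S` of the nodes of that order. -/
theorem cent_eq (hsyl : ∀ J : Subgroup H, IsPGroup 2 J → ∃ h : H, ∀ a ∈ J, h * a * h⁻¹ ∈ S)
    (h32 : ∀ j, Nat.card (R j) = 16 → Nat.card {a : H // a ∈ S ∧ ∀ r ∈ R j, a * r = r * a} ≤ 32)
    {J : Subgroup H} (hJ : Clean z J) (h16 : Nat.card J = 16)
    (hodd : ∀ d : H, Odd (orderOf d) → (∀ a ∈ J, d * a = a * d) → d = 1)
    {x : H} (hxJ : x ∉ J) (hxc : ∀ a ∈ J, x * a = a * x) (hx : x * x = 1)
    (c : H) (hc : ∀ a ∈ J, c * a = a * c) : c ∈ J ∨ c * x ∈ J := by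
  classical
  set C := centralizer (J : Set H) with hC
  have hmC : ∀ g : H, g ∈ C ↔ ∀ a ∈ J, g * a = a * g := fun g =>
    ⟨fun h a ha => (mem_centralizer_iff.1 h a ha).symm,
      fun h => mem_centralizer_iff.2 fun a ha => (h a ha).symm⟩
  have hC2 : IsPGroup 2 C := by
    intro g
    obtain ⟨k, m, hm, hkm⟩ := Nat.exists_eq_two_pow_mul_odd (orderOf_pos g).ne'
    refine ⟨k, Subtype.ext (hodd _ ?_ ((hmC _).1 (g ^ 2 ^ k).2))⟩
    refine hm.of_dvd_nat (orderOf_dvd_of_pow_eq_one ?_)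
    rw [← SubgroupClass.coe_pow, ← pow_mul, ← hkm, pow_orderOf_eq_one, OneMemClass.coe_one]
  obtain ⟨h, hh⟩ := hsyl C hC2
  have hJC : J ≤ C := fun a ha => (hmC a).2 fun b hb => hJ.ab a ha b hb
  obtain ⟨j, s, hs, hsj⟩ := N.reach (by rintro _ ⟨a, ha, rfl⟩; exact hh a (hJC ha)) (hJ.cj h)
  have hjc : Nat.card (R j) = 16 := by rw [← hsj, card_cjS, card_cjS, h16]
  have hle : Nat.card C ≤ 32 := by
    refine le_trans (Nat.card_le_card_of_injective
      (fun a : C => (⟨s * h * a * (s * h)⁻¹, ?_, fun r hr => ?_⟩ :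
        {a : H // a ∈ S ∧ ∀ r ∈ R j, a * r = r * a})) ?_) (h32 j hjc)
    · rw [show s * h * (a : H) * (s * h)⁻¹ = s * (h * a * h⁻¹) * s⁻¹ by group]
      exact mul_mem (mul_mem hs (hh a a.2)) (inv_mem hs)
    · rw [← hsj, cjS_cjS] at hr
      obtain ⟨b, hb, rfl⟩ := mem_cjS.1 hr
      calc s * h * (a : H) * (s * h)⁻¹ * (s * h * b * (s * h)⁻¹)
          = s * h * ((a : H) * b) * (s * h)⁻¹ := by group
        _ = s * h * (b * a) * (s * h)⁻¹ := by rw [(hmC a).1 a.2 b hb]
        _ = _ := by group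
    · intro a b e
      exact Subtype.ext (mul_left_cancel (mul_right_cancel (congrArg Subtype.val e :)))
  let f : J × Fin 2 → C := fun p => if p.2 = 0 then ⟨p.1, hJC p.1.2⟩
    else ⟨x * p.1, mul_mem ((hmC x).2 hxc) (hJC p.1.2)⟩
  have hf : Function.Injective f := by
    rintro ⟨a, i⟩ ⟨b, j⟩ e
    have key : ∀ a b : J, (a : H) ≠ x * b := fun a b e => hxJ (by
      have := mul_mem a.2 (inv_mem b.2)
      rwa [e, mul_inv_cancel_right] at this)
    fin_cases i <;> fin_cases j <;> simp [f] at e ⊢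
    · exact e
    · exact key a b e
    · exact key b a e.symm
    · exact e
  have hsur := (Nat.bijective_iff_injective_and_card f).2 ⟨hf, le_antisymm
    (Nat.card_le_card_of_injective f hf) (by rw [Nat.card_prod, h16, Nat.card_fin]; omega)⟩
  obtain ⟨⟨a, i⟩, e⟩ := hsur.2 ⟨c, (hmC c).2 hc⟩
  fin_cases i
  · left
    have : (a : H) = c := congrArg Subtype.val e
    exact this ▸ a.2
  · right
    have : x * (a : H) = c := congrArg Subtype.val e
    rw [← this, hxc a a.2, mul_assoc, hx, mul_one]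
    exact a.2

/-- A node of order eight whose class count avoids every node of order sixteen is maximal. -/
theorem no_ext (hsyl : ∀ J : Subgroup H, IsPGroup 2 J → ∃ h : H, ∀ a ∈ J, h * a * h⁻¹ ∈ S)
    (E : H → Prop) (hE : ∀ h a : H, E (h * a * h⁻¹) ↔ E a) (P : ℕ → Prop)
    (hP : ∀ j, Nat.card (R j) = 16 → ∀ W : Subgroup H, W ≤ R j → Nat.card W = 8 →
      ¬ P (Nat.card {a : H // a ∈ W ∧ E a}))
    {J : Subgroup H} (hJ : Clean z J) (h8 : Nat.card J = 8)
    (hPJ : P (Nat.card {a : H // a ∈ J ∧ E a})) (k : H) : ¬ Ext z J k := by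
  classical
  intro hk
  obtain ⟨J', hle, hkJ', h2, hab, hcases⟩ :=
    CfsgLib.Fusion.WholeGroup.adjoin_abelian hJ.two hJ.ab hk.comm hk.sq
  have hclean : Clean z J' := ⟨h2, hab, fun a ha => by
    rcases hcases a ha with h | ⟨d, hd, rfl⟩
    · exact hJ.free a h
    · exact hk.free d hd⟩
  let f : J × Fin 2 → J' := fun p => if p.2 = 0 then ⟨p.1, hle p.1.2⟩
    else ⟨k * p.1, mul_mem hkJ' (hle p.1.2)⟩
  have hf : Function.Bijective f := by
    refine ⟨?_, fun c => ?_⟩
    · rintro ⟨a, i⟩ ⟨b, j⟩ e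
      have key : ∀ a b : J, (a : H) ≠ k * b := fun a b e => hk.notMem (by
        have := mul_mem a.2 (inv_mem b.2)
        rwa [e, mul_inv_cancel_right] at this)
      fin_cases i <;> fin_cases j <;> simp [f] at e ⊢
      · exact e
      · exact key a b e
      · exact key b a e.symm
      · exact e
    · rcases hcases c c.2 with h | ⟨d, hd, e⟩
      · exact ⟨(⟨c, h⟩, 0), by simp [f]⟩
      · exact ⟨(⟨d, hd⟩, 1), Subtype.ext (by simp [f, ← e])⟩
  have h16 : Nat.card J' = 16 := by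
    rw [← Nat.card_eq_of_bijective f hf, Nat.card_prod, h8, Nat.card_fin]
  obtain ⟨i, h, hi⟩ := N.reach' hsyl hclean
  refine hP i (by rw [← hi, card_cjS, h16]) (cjS h J) (hi ▸ map_mono hle) (by rw [card_cjS, h8]) ?_
  have e : Nat.card {a : H // a ∈ J ∧ E a} = Nat.card {a : H // a ∈ cjS h J ∧ E a} :=
    Nat.card_congr ((MulAut.conj h).toEquiv.subtypeEquiv fun a => by
      simp only [MulEquiv.toEquiv_eq_coe, MulEquiv.coe_toEquiv, MulAut.conj_apply]
      rw [cj_mem_iff, hE])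
  exact e ▸ hPJ

/-- The criterion at every clean subgroup of `S`. -/
theorem crit
    (hnode : ∀ i, Clean z (R i) → (∃ k, Ext z (R i) k) ∨ OddBound (R i) ∨
      ∃ h, Exceptional z (cjS h (R i)))
    (J : Subgroup H) (hJS : J ≤ S) (hJ : Clean z J) :
    (∃ k, Ext z J k) ∨ OddBound J ∨ ∃ h, Exceptional z (cjS h J) := by
  obtain ⟨i, s, -, hs⟩ := N.reach hJS hJ
  rcases hnode i (hs ▸ hJ.cj s) with ⟨k, hk⟩ | hb | ⟨h, he⟩
  · exact Or.inl ⟨s⁻¹ * k * s⁻¹⁻¹, (cjS_inv_cjS (J := J) s) ▸ hs.symm ▸ hk.cj s⁻¹⟩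
  · exact Or.inr (Or.inl ((cjS_inv_cjS (J := J) s) ▸ hs.symm ▸ oddBound_cj hb s⁻¹))
  · exact Or.inr (Or.inr ⟨h * s, by rw [← cjS_cjS, hs]; exact he⟩)

end NodeFam

/-- A subgroup of exponent two and order eight is given by three of its elements. -/
theorem exists_triple [Finite H] {W : Subgroup H} (h8 : Nat.card W = 8)
    (h2 : ∀ a ∈ W, a * a = 1) :
    ∃ a ∈ W, ∃ b ∈ W, ∃ c ∈ W, [1, a, b, a * b, c, a * c, b * c, a * b * c].Nodup ∧
      ∀ x : H, x ∈ W ↔ x ∈ [1, a, b, a * b, c, a * c, b * c, a * b * c] := by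
  classical
  have hi : ∀ a ∈ W, a⁻¹ = a := fun a ha => inv_eq_of_mul_eq_one_right (h2 a ha)
  have hcomm : ∀ a ∈ W, ∀ b ∈ W, a * b = b * a := fun a ha b hb => by
    rw [← hi _ (mul_mem ha hb), mul_inv_rev, hi a ha, hi b hb]
  have pick : ∀ l : List H, l.length < 8 → ∃ a ∈ W, a ∉ l := by
    intro l hl
    by_contra h
    push Not at h
    have := Nat.card_le_card_of_injective (fun a : W => (⟨a, List.mem_toFinset.2 (h a a.2)⟩ : l.toFinset))
      fun a b e => Subtype.ext (congrArg Subtype.val e :)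
    rw [Nat.card_eq_finsetCard, h8] at this
    have := l.toFinset_card_le
    omega
  obtain ⟨a, ha, ha'⟩ := pick [1] (by simp)
  obtain ⟨b, hb, hb'⟩ := pick [1, a] (by simp)
  obtain ⟨c, hc, hc'⟩ := pick [1, a, b, a * b] (by simp)
  simp only [List.mem_cons, List.not_mem_nil, or_false, not_or] at ha' hb' hc'
  have cancel : ∀ x ∈ W, ∀ y : H, x * (x * y) = y := fun x hx y => by
    rw [← mul_assoc, h2 x hx, one_mul]
  have hnd : [1, a, b, a * b].Nodup := by
    simp only [List.nodup_cons, List.mem_cons, List.not_mem_nil, List.nodup_nil, not_or, or_false,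
      and_true, not_false_eq_true]
    refine ⟨⟨Ne.symm ha', Ne.symm hb'.1, fun e => hb'.2 ?_⟩, ⟨Ne.symm hb'.2, fun e => hb'.1 ?_⟩,
      fun e => ha' ?_⟩
    · simpa [cancel a ha] using (congrArg (fun y => a * y) e).symm
    · simpa [cancel a ha, h2 a ha] using (congrArg (fun y => a * y) e).symm
    · simpa using e
  set L : List H := [1, a, b, a * b] with hL
  have hLW : ∀ x ∈ L, x ∈ W := by simp [L, ha, hb, mul_mem ha hb, one_mem]
  have hall : [1, a, b, a * b, c, a * c, b * c, a * b * c] = L ++ L.map (· * c) := by simp [L]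
  refine ⟨a, ha, b, hb, c, hc, ?_⟩
  rw [hall]
  have hnd' : (L ++ L.map (· * c)).Nodup := by
    rw [List.nodup_append]
    refine ⟨hnd, hnd.map (mul_left_injective c), fun x hx y hy e => ?_⟩
    obtain ⟨y, hy', rfl⟩ := List.mem_map.1 hy
    have hyc : y * x = c := by rw [e, cancel y (hLW y hy')]
    have hmem : y * x ∈ L := by
      have hba : b * a = a * b := hcomm b hb a ha
      have haa := h2 a ha
      have hbb := h2 b hb
      have h1 : a * (a * b) = b := cancel a ha b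
      have h2' : b * (a * b) = a := by rw [← hba, cancel b hb]
      have h3 : a * b * a = b := by rw [mul_assoc, hba, h1]
      have h4 : a * b * b = a := by rw [mul_assoc, hbb, mul_one]
      have h5 : a * b * (a * b) = 1 := h2 _ (mul_mem ha hb)
      simp only [L, List.mem_cons, List.not_mem_nil, or_false] at hx hy'
      rcases hx with rfl | rfl | rfl | rfl <;> rcases hy' with rfl | rfl | rfl | rfl <;>
        simp [L, haa, hbb, hba, h1, h2', h3, h4, h5]
    rw [hyc] at hmem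
    simp only [L, List.mem_cons, List.not_mem_nil, or_false] at hmem
    exact hmem.elim hc'.1 (Or.elim · hc'.2.1 (Or.elim · hc'.2.2.1 hc'.2.2.2))
  have hsub : ∀ x ∈ L ++ L.map (· * c), x ∈ W := by
    intro x hx
    rcases List.mem_append.1 hx with h | h
    · exact hLW x h
    · obtain ⟨y, hy, rfl⟩ := List.mem_map.1 h
      exact mul_mem (hLW y hy) hc
  refine ⟨hnd', fun x => ⟨fun hx => ?_, hsub x⟩⟩
  by_contra hnot
  have h := Nat.card_le_card_of_injective
    (fun q : (insert x (L ++ L.map (· * c)).toFinset : Finset H) => (⟨q, by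
      rcases Finset.mem_insert.1 q.2 with e | e
      · rw [e]; exact hx
      · exact hsub _ (List.mem_toFinset.1 e)⟩ : W))
    fun p q e => Subtype.ext (congrArg Subtype.val e :)
  rw [Nat.card_eq_finsetCard, Finset.card_insert_of_notMem (by simpa using hnot),
    List.toFinset_card_of_nodup hnd', h8] at h
  simp [L] at h

end CfsgLib.DFour.Census
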