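import Cfsg.Agent.Lib.DFour.Defs

/-!
# The census of statement S3345: the facts about the model

`StmtCensusModel` collects what the census needs to know about `Ω⁺₈(2)`; the passage to the whole
group only uses these facts.
-/

set_option autoImplicit false
set_option linter.unusedVariables false

namespace CfsgLib.DFour.Census

open Subgroup

universe u

variable {H : Type u} [Group H]

/-- An abelian two-subgroup without a root involution. -/
structure Clean (z : H) (J : Subgroup H) : Prop where
  two : IsPGroup 2 J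
  ab : ∀ a ∈ J, ∀ b ∈ J, a * b = b * a
  free : ∀ a ∈ J, ¬ IsConj z a

/-- An involution modulo `J` whose coset has no root involution. -/
structure Ext (z : H) (J : Subgroup H) (k : H) : Prop where
  notMem : k ∉ J
  comm : ∀ a ∈ J, k * a = a * k
  sq : k * k ∈ J
  free : ∀ a ∈ J, ¬ IsConj z (k * a)

/-- Subgroups of odd order of the centraliser are smaller than the set of involutions modulo `J`. -/
def OddBound (J : Subgroup H) : Prop :=
  ∀ K : Subgroup H, K ≤ centralizer (J : Set H) → Odd (Nat.card K) →
    Nat.card K * Nat.card J <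
      Nat.card {x : H // x ∈ centralizer (J : Set H) ∧ x ∉ J ∧ x * x ∈ J}

/-- A maximal one with few elements of odd order. -/
structure Terminal (z : H) (J : Subgroup H) : Prop where
  clean : Clean z J
  max : ∀ k : H, ¬ Ext z J k
  small : OddBound J

/-- An involution normalising `J` that fixes no element of odd order of the centraliser. -/
def Inverting (z : H) (J : Subgroup H) (y : H) : Prop :=
  y * y = 1 ∧ (∀ a ∈ J, y * a * y ∈ J) ∧
    ∃ J' : Subgroup H, Terminal z J' ∧ ∀ a ∈ J', a ∈ J ∨ y * a ∈ J

/-- The groups of order sixteen for which counting is not enough: the centraliser is `J × ⟨x⟩`, and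
an odd number of inverting involutions multiplies into `J`. -/
def Exceptional (z : H) (J : Subgroup H) : Prop :=
  (∀ a ∈ J, a * a = 1) ∧ ∃ x : H, IsConj z x ∧ x ∉ J ∧ (∀ a ∈ J, x * a = a * x) ∧
    (∀ c : H, (∀ a ∈ J, c * a = a * c) → c ∈ J ∨ c * x ∈ J) ∧
    ∃ l : List H, Odd l.length ∧ (∀ y ∈ l, y = x ∨ Inverting z J y) ∧ l.prod ∈ J

/-- What the census uses about the model. -/
structure Facts (z : H) (S : Subgroup H) : Prop where
  order_z : orderOf z = 2
  card : Nat.card S = 4096
  mem : z ∈ S
  central : ∀ a ∈ S, z * a = a * z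
  center : ∀ a ∈ S, (∀ b ∈ S, a * b = b * a) → a = 1 ∨ a = z
  sylow : ∀ J : Subgroup H, IsPGroup 2 J → ∃ h : H, ∀ a ∈ J, h * a * h⁻¹ ∈ S
  /-- every other involution has a conjugate in `C(z)` fixing two noncommuting core elements -/
  fusion : ∀ x : H, x * x = 1 → x ≠ 1 → IsConj z x ∨ ∃ m : H,
    z * (m * x * m⁻¹) = m * x * m⁻¹ * z ∧
    ∃ u ∈ (Cfsg.pCore 2 ↥(centralizer ({z} : Set H))).map (centralizer ({z} : Set H)).subtype,
      ∃ v ∈ (Cfsg.pCore 2 ↥(centralizer ({z} : Set H))).map (centralizer ({z} : Set H)).subtype,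
        m * x * m⁻¹ * u = u * (m * x * m⁻¹) ∧ m * x * m⁻¹ * v = v * (m * x * m⁻¹) ∧ u * v ≠ v * u
  crit : ∀ J : Subgroup H, J ≤ S → Clean z J →
    (∃ k : H, Ext z J k) ∨ OddBound J ∨
      ∃ h : H, Exceptional z (J.map (MulAut.conj h).toMonoidHom)

/-- Piece: the facts about the concrete group. -/
def StmtCensusModel : Prop :=
  ∃ (z : CfsgLib.DFour.Model) (S : Subgroup CfsgLib.DFour.Model), Facts z S

/-- Piece: from the facts to the whole group. -/
def StmtCensusGeneric : Prop := StmtCensusModel → CfsgLib.DFour.CensusStmt.{u}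

end CfsgLib.DFour.Census
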