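import Mathlib

/-!
# An involution centralised by nothing else, and inverting involutions
-/

set_option autoImplicit false
set_option linter.unusedSectionVars false

namespace CfsgLib.DFour.Census

open Subgroup

variable {Q : Type*} [Group Q] [Finite Q]

/-- A self-centralising involution inverts an abelian normal complement of odd order. -/
theorem selfCentral {x : Q} (hx : x * x = 1) (hx1 : x ≠ 1)
    (hc : ∀ c : Q, c * x = x * c → c = 1 ∨ c = x) :
    ∃ D : Subgroup Q, Odd (Nat.card D) ∧ x ∉ D ∧ (∀ d ∈ D, x * d * x = d⁻¹) ∧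
      (∀ d ∈ D, ∀ e ∈ D, d * e = e * d) ∧ (∀ q : Q, q ∈ D ∨ x * q ∈ D) ∧
      ∀ q : Q, q ∈ D ↔ q ^ Nat.card D = 1 := by
  classical
  haveI : Fact (Nat.Prime 2) := ⟨Nat.prime_two⟩
  have hord : orderOf x = 2 := orderOf_eq_prime (by rw [pow_two, hx]) hx1
  have hz : IsPGroup 2 (zpowers x) := IsPGroup.of_card (n := 1) (by rw [Nat.card_zpowers, hord]; rfl)
  obtain ⟨P, hP⟩ := hz.exists_le_sylow
  have hxP : x ∈ (P : Subgroup Q) := hP (mem_zpowers x)
  have hsub : ∀ p ∈ (P : Subgroup Q), p = 1 ∨ p = x := by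
    haveI : Nontrivial (P : Subgroup Q) := ⟨⟨⟨x, hxP⟩, 1, fun h => hx1 (congrArg Subtype.val h)⟩⟩
    haveI := P.isPGroup'.center_nontrivial
    obtain ⟨⟨⟨c, hcP⟩, hcc⟩, hne⟩ := exists_ne (1 : center (P : Subgroup Q))
    have hcen : ∀ p ∈ (P : Subgroup Q), c * p = p * c := fun p hp =>
      (congrArg Subtype.val (mem_center_iff.1 hcc ⟨p, hp⟩)).symm
    rcases hc c (hcen x hxP) with rfl | rfl
    · exact absurd rfl hne
    · exact fun p hp => hc p (hcen p hp).symm
  have hPeq : (P : Subgroup Q) = zpowers x := le_antisymm (fun p hp => by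
    rcases hsub p hp with rfl | rfl
    · exact one_mem _
    · exact mem_zpowers _) hP
  have heven : 2 ∣ Nat.card Q := hord ▸ orderOf_dvd_natCard x
  have hmin : (Nat.card Q).minFac = 2 :=
    le_antisymm (Nat.minFac_le_of_dvd le_rfl heven)
      (Nat.minFac_prime (by intro h; rw [h] at heven; omega)).two_le
  have hcyc : IsCyclic (P : Subgroup Q) := by rw [hPeq]; infer_instance
  obtain ⟨D, hD, hcompl⟩ : ∃ D : Subgroup Q, D.Normal ∧ D.IsComplement' (P : Subgroup Q) :=
    ⟨_, inferInstance, IsCyclic.isComplement' (P := P) hmin hcyc⟩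
  have hPc : Nat.card (P : Subgroup Q) = 2 := by rw [hPeq, Nat.card_zpowers, hord]
  have hxD : x ∉ D := fun h => hx1 (by
    simpa using hcompl.disjoint.le_bot (show x ∈ D ⊓ (P : Subgroup Q) from ⟨h, hxP⟩))
  have hodd : Odd (Nat.card D) := by
    have hidx : (P : Subgroup Q).index = Nat.card D := hcompl.index_eq_card
    rw [← hidx, ← Nat.not_even_iff_odd, even_iff_two_dvd]
    exact P.not_dvd_index
  have hfix : ∀ d ∈ D, x * d * x = d → d = 1 := by
    intro d hd he
    rcases hc d (by
      calc d * x = x * d * x * x := by rw [he]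
        _ = x * d * (x * x) := by group
        _ = x * d := by rw [hx, mul_one]) with h | h
    · exact h
    · exact absurd (h ▸ hd) hxD
  have hxi : x⁻¹ = x := inv_eq_of_mul_eq_one_right hx
  have hmem : ∀ d ∈ D, x * d * x ∈ D := fun d hd => by
    simpa [hxi] using hD.conj_mem d hd x
  let φ : D →* D := MonoidHom.mk' (fun d => ⟨x * d * x, hmem d d.2⟩) fun a b => Subtype.ext (by
    simp only [Subgroup.coe_mul]
    calc x * (a * b) * x = x * a * (x * x) * b * x := by rw [hx, mul_one]; group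
      _ = _ := by group)
  have hφ : MonoidHom.FixedPointFree φ := fun d hd =>
    Subtype.ext (hfix d d.2 (congrArg Subtype.val hd))
  have h2 : Function.Involutive φ := fun d => Subtype.ext (by
    show x * (x * d * x) * x = d
    calc x * (x * d * x) * x = x * x * d * (x * x) := by group
      _ = d := by rw [hx, one_mul, mul_one])
  have hinv : ∀ d ∈ D, x * d * x = d⁻¹ := fun d hd =>
    congrArg Subtype.val (congrFun (hφ.coe_eq_inv_of_involutive h2) ⟨d, hd⟩)
  have hsplit : ∀ q : Q, q ∈ D ∨ x * q ∈ D := by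
    intro q
    obtain ⟨⟨⟨d, hd⟩, ⟨p, hp⟩⟩, rfl⟩ := hcompl.2 q
    rcases hsub p hp with rfl | rfl
    · left; simpa using hd
    · right
      simpa [hxi, mul_assoc] using hD.conj_mem d hd p
  refine ⟨D, hodd, hxD, hinv, fun d hd e he =>
    congrArg Subtype.val (hφ.commute_all_of_involutive h2 ⟨d, hd⟩ ⟨e, he⟩).eq, hsplit,
    fun q => ⟨fun hq => ?_, fun hq => ?_⟩⟩
  · have h1 : ((⟨q, hq⟩ : D) : Q) ^ Nat.card D = 1 := by
      rw [← SubgroupClass.coe_pow, pow_card_eq_one']; rfl
    exact h1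
  · rcases hsplit q with h | h
    · exact h
    · exfalso
      have hxq : QuotientGroup.mk' D q = QuotientGroup.mk' D x := by
        have h1 : QuotientGroup.mk' D (x * q) = 1 := (QuotientGroup.eq_one_iff _).2 h
        rw [map_mul, mul_eq_one_iff_inv_eq] at h1
        rw [← h1, ← map_inv, hxi]
      have h2' := congrArg (QuotientGroup.mk' D) hq
      rw [map_pow, map_one, hxq, ← map_pow] at h2'
      obtain ⟨k, hk⟩ := hodd
      rw [hk, pow_succ, pow_mul, pow_two, hx, one_pow, one_mul] at h2'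
      exact hxD ((QuotientGroup.eq_one_iff _).1 h2')

variable {G : Type*} [Group G] [Finite G]

/-- The centraliser of `J` is `J × ⟨x⟩` when an odd number of inverting involutions multiplies
into `J`. -/
theorem exceptional_cent {M J : Subgroup G} {x : G} (hJM : J ≤ M) (hJ2 : ∀ a ∈ J, a * a = 1)
    (hxM : x ∈ M) (hxJ : x ∉ J) (hx : x * x = 1) (hxc : ∀ a ∈ J, x * a = a * x)
    (hmove : ∀ g : G, g * x * g⁻¹ ∈ M → g ∈ M)
    (hcentM : ∀ c ∈ M, (∀ a ∈ J, c * a = a * c) → c ∈ J ∨ c * x ∈ J)
    {l : List G} (hodd : Odd l.length) (hprod : l.prod ∈ J)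
    (hl : ∀ y ∈ l, y = x ∨ (y * y = 1 ∧ (∀ a ∈ J, y * a * y ∈ J) ∧
      ∀ o : G, (∀ a ∈ J, o * a = a * o) → o * y = y * o → o ∈ M)) :
    centralizer (J : Set G) ≤ M := by
  classical
  have hab : ∀ a ∈ J, ∀ b ∈ J, a * b = b * a := fun a ha b hb => by
    have ia : ∀ c ∈ J, c⁻¹ = c := fun c hc => inv_eq_of_mul_eq_one_right (hJ2 c hc)
    calc a * b = (a * b)⁻¹ := (ia _ (mul_mem ha hb)).symm
      _ = b * a := by rw [mul_inv_rev, ia b hb, ia a ha]
  set N := centralizer (J : Set G) with hN
  have hmN : ∀ g : G, g ∈ N ↔ ∀ a ∈ J, g * a = a * g := fun g =>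
    ⟨fun h a ha => (mem_centralizer_iff.1 h a ha).symm,
      fun h => mem_centralizer_iff.2 fun a ha => (h a ha).symm⟩
  have hJN : J ≤ N := fun a ha => (hmN a).2 fun b hb => hab a ha b hb
  let JN : Subgroup N := J.subgroupOf N
  haveI : JN.Normal := ⟨fun a ha n => by
    rw [mem_subgroupOf] at ha ⊢
    simp only [Subgroup.coe_mul, Subgroup.coe_inv]
    rw [(hmN n).1 n.2 a ha, mul_inv_cancel_right]
    exact ha⟩
  set π := QuotientGroup.mk' JN
  have hπ : ∀ a b : N, π a = π b ↔ (a : G)⁻¹ * b ∈ J := fun a b => by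
    show ((a : N ⧸ JN) = b) ↔ _
    rw [QuotientGroup.eq, mem_subgroupOf]; simp
  have hπ1 : ∀ a : N, π a = 1 ↔ (a : G) ∈ J := fun a => by
    show ((a : N ⧸ JN) = 1) ↔ _
    rw [QuotientGroup.eq_one_iff, mem_subgroupOf]
  let x' : N := ⟨x, (hmN x).2 hxc⟩
  have hX : π x' * π x' = 1 := by rw [← map_mul, hπ1]; simp [x', hx, one_mem]
  have hX1 : π x' ≠ 1 := fun h => hxJ ((hπ1 x').1 h)
  have hC : ∀ c : N ⧸ JN, c * π x' = π x' * c → c = 1 ∨ c = π x' := by
    intro c hc
    obtain ⟨g, rfl⟩ := QuotientGroup.mk'_surjective JN c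
    rw [← map_mul, ← map_mul, hπ] at hc
    have hgc := (hmN g).1 g.2
    have hm : (g : G) * x * (g : G)⁻¹ ∈ M := by
      obtain ⟨j, hj, he⟩ : ∃ j ∈ J, ((g : G) * x)⁻¹ * (x * g) = j := ⟨_, by simpa [x'] using hc, rfl⟩
      have e : (g : G) * x * (g : G)⁻¹ = x * j⁻¹ := by
        calc (g : G) * x * (g : G)⁻¹ = x * g * (((g : G) * x)⁻¹ * (x * g))⁻¹ * (g : G)⁻¹ := by group
          _ = x * ((g : G) * j⁻¹) * (g : G)⁻¹ := by rw [he]; group
          _ = _ := by rw [hgc _ (inv_mem hj)]; group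
      rw [e]; exact mul_mem hxM (inv_mem (hJM hj))
    rcases hcentM g (hmove g hm) hgc with h | h
    · exact Or.inl ((hπ1 g).2 h)
    · right
      have h1 : π g * π x' = 1 := by rw [← map_mul, hπ1]; simpa [x'] using h
      calc π g = π g * π x' * π x' := by rw [mul_assoc, hX, mul_one]
        _ = π x' := by rw [h1, one_mul]
  obtain ⟨D, hDodd, hxD, hDinv, hDab, hDsplit, hDiff⟩ := selfCentral hX hX1 hC
  suffices hD : ∀ g : N, π g ∈ D → (g : G) ∈ J by
    intro g hg
    rcases hDsplit (π ⟨g, hg⟩) with h | h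
    · exact hJM (hD _ h)
    · rw [← map_mul] at h
      have := hJM (hD _ h)
      have h' := mul_mem hxM this
      simp only [Subgroup.coe_mul, x', ← mul_assoc, hx, one_mul] at h'
      exact h'
  -- each involution of the list inverts `D`
  have key : ∀ y ∈ l, ∀ g : N, π g ∈ D →
      ∃ g' : N, (g' : G) = y * g * y⁻¹ ∧ π g' = (π g)⁻¹ := by
    intro y hy g hg
    rcases hl y hy with rfl | ⟨hy2, hyJ, hyfix⟩
    · refine ⟨x' * g * x', by simp [x', inv_eq_of_mul_eq_one_right hx], ?_⟩
      rw [map_mul, map_mul]; exact hDinv _ hg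
    · have hyi : y⁻¹ = y := inv_eq_of_mul_eq_one_right hy2
      have act : ∀ a : G, a ∈ N → y * a * y ∈ N := fun a ha => (hmN _).2 fun b hb => by
        have h := (hmN a).1 ha _ (hyJ b hb)
        calc y * a * y * b = y * (a * (y * b * y)) * y⁻¹ := by group
          _ = y * (y * b * y * a) * y⁻¹ := by rw [h]
          _ = (y * y) * b * (y * a * y⁻¹) := by group
          _ = b * (y * a * y) := by rw [hy2, one_mul, hyi]
      have hconj : ∀ (a : N) (n : ℕ),
          ((⟨_, act a a.2⟩ : N) ^ n : N).1 = y * ((a ^ n : N) : G) * y := by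
        intro a n
        simp only [SubgroupClass.coe_pow]
        have e := conj_pow (a := y) (b := (a : G)) (i := n)
        rw [hyi] at e
        exact e
      have hmem : ∀ a : N, π a ∈ D → π ⟨_, act a a.2⟩ ∈ D := fun a ha => by
        rw [hDiff, ← map_pow, hπ1] at ha ⊢
        rw [hconj]
        exact hyJ _ ha
      set g' : N := ⟨_, act g g.2⟩ with hg'
      set e : N := g * g' with he
      have hfixed : π ⟨_, act e e.2⟩ = π e := by
        have e1 : (⟨_, act e e.2⟩ : N) = g' * g := Subtype.ext (by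
          simp only [he, hg', Subgroup.coe_mul]
          calc y * (g * (y * g * y)) * y = y * g * y * g * (y * y) := by group
            _ = _ := by rw [hy2, mul_one])
        rw [e1, he, map_mul, map_mul]
        exact hDab _ (hmem g hg) _ hg
      have heD : π e ∈ D := by rw [he, map_mul]; exact mul_mem hg (hmem g hg)
      obtain ⟨k, hk⟩ := hDodd
      have hem : (π e) ^ Nat.card D = 1 := (hDiff _).1 heD
      -- a representative of odd order
      set o : N := e ^ (Nat.card D + 1) with ho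
      have hoJ : ∀ a : N, (a : G) ∈ J → (a : G) ^ (Nat.card D + 1) = 1 := fun a ha => by
        rw [hk, show 2 * k + 1 + 1 = 2 * (k + 1) by ring, pow_mul, pow_two, hJ2 _ ha, one_pow]
      have hoy : (o : G) * y = y * o := by
        obtain ⟨j, hj, hej⟩ : ∃ j ∈ J, y * (e : G) * y = (e : G) * j := by
          refine ⟨(e : G)⁻¹ * (y * e * y), ?_, by group⟩
          exact (hπ e ⟨_, act e e.2⟩).1 hfixed.symm
        have hc : Commute (e : G) j := (hmN e).1 e.2 j hj
        have h1 : y * (o : G) * y = o := by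
          have h2 := hconj e (Nat.card D + 1)
          simp only [SubgroupClass.coe_pow] at h2
          simp only [ho, SubgroupClass.coe_pow]
          rw [← h2, hej, hc.mul_pow, hoJ ⟨j, hJN hj⟩ hj, mul_one]
        calc (o : G) * y = y * o * y * y := by rw [h1]
          _ = y * o := by rw [mul_assoc, hy2, mul_one]
      have hoM : (o : G) ∈ M := hyfix o ((hmN o).1 o.2) hoy
      have hπo : π o = π e := by rw [ho, map_pow, pow_succ, hem, one_mul]
      have hoD : π o ∈ D := hπo ▸ heD
      have heJ : (e : G) ∈ J := by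
        refine (hπ1 e).1 (hπo ▸ ?_)
        rcases hcentM o hoM ((hmN o).1 o.2) with h | h
        · exact (hπ1 o).2 h
        · exfalso
          have h1 : π o * π x' = 1 := by rw [← map_mul, hπ1]; simpa [x'] using h
          have h2 : π o = π x' := by
            calc π o = π o * π x' * π x' := by rw [mul_assoc, hX, mul_one]
              _ = π x' := by rw [h1, one_mul]
          exact hxD (h2 ▸ hoD)
      refine ⟨g', by simp [hg', hyi], ?_⟩
      have := (hπ1 e).2 heJ
      rw [he, map_mul] at this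
      exact (inv_eq_of_mul_eq_one_right this).symm
  have signs : ∀ l' : List G, (∀ y ∈ l', y ∈ l) → ∀ g : N, π g ∈ D →
      ∃ g' : N, (g' : G) = l'.prod * g * l'.prod⁻¹ ∧
        π g' = if Odd l'.length then (π g)⁻¹ else π g := by
    intro l'
    induction l' with
    | nil => intro _ g _; exact ⟨g, by simp, by simp⟩
    | cons y t ih =>
      intro hsub g hg
      obtain ⟨g₁, h₁, h₁'⟩ := ih (fun a ha => hsub a (by simp [ha])) g hg
      have hg₁ : π g₁ ∈ D := by rw [h₁']; split_ifs; exacts [inv_mem hg, hg]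
      obtain ⟨g₂, h₂, h₂'⟩ := key y (hsub y (by simp)) g₁ hg₁
      refine ⟨g₂, by rw [h₂, h₁, List.prod_cons]; group, ?_⟩
      rw [h₂', h₁', List.length_cons]
      by_cases h : Odd t.length
      · rw [if_pos h, if_neg (by rw [Nat.odd_add_one]; simpa using h), inv_inv]
      · rw [if_neg h, if_pos (by rw [Nat.odd_add_one]; exact h)]
  intro g hg
  obtain ⟨g', h1, h2⟩ := signs l (fun _ h => h) g hg
  rw [if_pos hodd] at h2
  have hgg : g' = g := Subtype.ext (by
    rw [h1, ← (hmN g).1 g.2 _ hprod, mul_inv_cancel_right])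
  rw [hgg] at h2
  obtain ⟨k, hk⟩ := hDodd
  have hp : (π g) ^ Nat.card D = 1 := (hDiff _).1 hg
  have hsq : π g * π g = 1 := by nth_rewrite 1 [h2]; exact inv_mul_cancel _
  rw [hk, pow_succ, pow_mul, pow_two, hsq, one_pow, one_mul] at hp
  exact (hπ1 g).1 hp

end CfsgLib.DFour.Census
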