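import Mathlib

/-!
# An element of odd order is determined by the fixed space of a two-group it centralises
-/

set_option autoImplicit false
set_option linter.unusedSectionVars false

namespace CfsgLib.DFour.Census

open Subgroup MulAction

variable {H V : Type*} [Group H] [AddCommGroup V] [Finite V] [DistribMulAction H V]

/-- Coprime action in characteristic two. -/
theorem smul_eq_of_fix (hV : ∀ v : V, v + v = 0) {J : Subgroup H} (hJ : IsPGroup 2 J) {d : H}
    (hd : Odd (orderOf d)) (hc : ∀ a ∈ J, d * a = a * d)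
    (hfix : ∀ v : V, (∀ a ∈ J, a • v = v) → d • v = v) (v : V) : d • v = v := by
  classical
  obtain ⟨k, hk⟩ := hd
  haveI : Fact (Nat.Prime 2) := ⟨Nat.prime_two⟩
  -- an element fixed by the square is fixed
  have sq : ∀ w : V, d • d • w = w → d • w = w := fun w hw => by
    have hev : ∀ n : ℕ, d ^ (2 * n) • w = w := by
      intro n
      induction n with
      | zero => simp
      | succ n ih =>
        rw [Nat.mul_succ, pow_add, mul_smul, pow_two, mul_smul, hw, ih]
    have h : d ^ (2 * k + 1) • w = w := by rw [← hk, pow_orderOf_eq_one, one_smul]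
    rwa [pow_succ', mul_smul, hev] at h
  let W : AddSubgroup V := (AddMonoidHom.mk' (fun x : V => d • x + x)
    (fun a b => by rw [smul_add]; abel)).range
  have hW0 : ∀ w ∈ W, d • w = w → w = 0 := by
    rintro _ ⟨x, rfl⟩ hw
    simp only [AddMonoidHom.mk'_apply, smul_add] at hw ⊢
    have h2 : d • d • x = x := by
      calc d • d • x = d • d • x + d • x - d • x := by abel
        _ = d • x + x - d • x := by rw [hw]
        _ = x := by abel
    rw [sq x h2]; exact hV x
  have hinv : ∀ a ∈ J, ∀ w ∈ W, a • w ∈ W := by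
    rintro a ha _ ⟨x, rfl⟩
    exact ⟨a • x, by simp only [AddMonoidHom.mk'_apply, smul_add, ← mul_smul, hc a ha]⟩
  by_cases hbot : ∀ w ∈ W, w = 0
  · have h := hbot (d • v + v) ⟨v, rfl⟩
    calc d • v = d • v + (v + v) := by rw [hV, add_zero]
      _ = (d • v + v) + v := by abel
      _ = v := by rw [h, zero_add]
  exfalso
  push Not at hbot
  obtain ⟨w₀, hw₀, hne⟩ := hbot
  letI : MulAction J W :=
    { smul := fun a w => ⟨(a : H) • (w : V), hinv a a.2 w w.2⟩
      one_smul := fun w => Subtype.ext (one_smul H (w : V))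
      mul_smul := fun a b w => Subtype.ext (mul_smul (a : H) b (w : V)) }
  have hexp : ∀ g : W, 2 • g = 0 := fun g => Subtype.ext (by
    rw [two_nsmul, AddSubgroup.coe_add, hV]; rfl)
  have h2 : 2 ∣ Nat.card W := by
    have h : addOrderOf (⟨w₀, hw₀⟩ : W) = 2 :=
      addOrderOf_eq_prime (hexp _) fun e => hne (congrArg Subtype.val e)
    exact h ▸ addOrderOf_dvd_natCard _
  obtain ⟨w, hwf, hw0⟩ := hJ.exists_fixed_point_of_prime_dvd_card_of_fixed_point W h2
    (a := (0 : W)) (fun a => Subtype.ext (smul_zero (a : H)))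
  exact hw0 (Subtype.ext (hW0 w w.2 (hfix w fun a ha =>
    congrArg Subtype.val (mem_fixedPoints.1 hwf ⟨a, ha⟩)))).symm

/-- An element of odd order centralising `J` and fixing its fixed space is trivial. -/
theorem eq_one_of_fix [FaithfulSMul H V] (hV : ∀ v : V, v + v = 0) {J : Subgroup H}
    (hJ : IsPGroup 2 J) {d : H} (hd : Odd (orderOf d)) (hc : ∀ a ∈ J, d * a = a * d)
    (hfix : ∀ v : V, (∀ a ∈ J, a • v = v) → d • v = v) : d = 1 :=
  FaithfulSMul.eq_of_smul_eq_smul (α := V) fun v => by
    rw [smul_eq_of_fix hV hJ hd hc hfix v, one_smul]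

/-- A subgroup of odd order is embedded into the tuples of images of vectors generating the fixed
space. -/
theorem card_le_images [Finite H] [FaithfulSMul H V] (hV : ∀ v : V, v + v = 0) {J : Subgroup H}
    (hJ : IsPGroup 2 J) {K : Subgroup H} (hK : K ≤ centralizer (J : Set H))
    (hodd : Odd (Nat.card K)) {n : ℕ} (b : Fin n → V)
    (hb : ∀ d : H, (∀ i, d • b i = b i) → ∀ v : V, (∀ a ∈ J, a • v = v) → d • v = v)
    (T : Finset (Fin n → V)) (hT : ∀ d ∈ K, (fun i => d • b i) ∈ T) : Nat.card K ≤ T.card := by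
  classical
  rw [show T.card = Nat.card T from (Nat.card_eq_finsetCard T).symm]
  refine Nat.card_le_card_of_injective
    (fun d : K => (⟨fun i => (d : H) • b i, hT d d.2⟩ : T)) fun d e h => Subtype.ext ?_
  have h' := congrArg Subtype.val h
  have hm : (e : H)⁻¹ * d ∈ K := mul_mem (inv_mem e.2) d.2
  have h1 : (e : H)⁻¹ * d = 1 := eq_one_of_fix hV hJ
    (hodd.of_dvd_nat (by rw [← Subgroup.orderOf_mk (a := (e : H)⁻¹ * d) hm]; exact orderOf_dvd_natCard _))
    (fun a ha => (mem_centralizer_iff.1 (hK hm) a ha).symm)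
    (hb _ fun i => by rw [mul_smul, show (d : H) • b i = (e : H) • b i from congrFun h' i, inv_smul_smul])
  exact (inv_mul_eq_one.1 h1).symm

end CfsgLib.DFour.Census
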