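import Cfsg.Agent.Lib.DFour.CensusDefs
import Cfsg.Agent.Lib.DFour.CensusExceptional
import Cfsg.Agent.Lib.Fusion.WholeGroupSylow
import Cfsg.Agent.Lib.Base.Cores

/-!
# The census of statement S3345: from the facts about the model to the whole group
-/

set_option autoImplicit false
set_option linter.unusedSectionVars false
set_option linter.style.haveILetI false

namespace CfsgLib.DFour.Census

open Subgroup CfsgLib.Fusion.WholeGroup

universe u v

variable {H : Type v} [Group H] {G : Type u} [Group G] [Finite G]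

/-- A larger subgroup without root involution gives an involution modulo `J`. -/
theorem exists_ext {z : H} {J J' : Subgroup H} (hlt : J < J') (hJ' : Clean z J') :
    ∃ k, Ext z J k := by
  classical
  obtain ⟨g, hg, hgJ⟩ := SetLike.exists_of_lt hlt
  obtain ⟨n, hn⟩ := hJ'.two ⟨g, hg⟩
  have hex : ∃ i, g ^ (2 ^ i) ∈ J := ⟨n, by
    have h := congrArg Subtype.val hn
    simp only [SubgroupClass.coe_pow, OneMemClass.coe_one] at h
    rw [h]; exact one_mem _⟩
  have h0 : Nat.find hex ≠ 0 := fun h => hgJ (by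
    have := Nat.find_spec hex
    rw [h] at this
    simpa using this)
  obtain ⟨i, hi⟩ := Nat.exists_eq_succ_of_ne_zero h0
  refine ⟨g ^ (2 ^ i), Nat.find_min hex (by omega), fun a ha =>
    hJ'.ab _ (pow_mem hg _) a (hlt.le ha), ?_, fun a ha =>
    hJ'.free _ (mul_mem (pow_mem hg _) (hlt.le ha))⟩
  have := Nat.find_spec hex
  rw [hi, pow_succ, pow_mul, pow_two] at this
  exact this

/-- The embedding of the model with its facts. -/
structure Emb (ι : H →* G) (z : H) (S : Subgroup H) (M : Subgroup G) : Prop where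
  inj : Function.Injective ι
  range : ι.range = M
  facts : Facts z S
  cent : centralizer ({ι z} : Set G) ≤ M
  fusion : ∀ a ∈ centralizer ({ι z} : Set G), IsConj (ι z) a →
    (∃ u ∈ (Cfsg.pCore 2 ↥(centralizer ({ι z} : Set G))).map
        (centralizer ({ι z} : Set G)).subtype,
      ∃ v ∈ (Cfsg.pCore 2 ↥(centralizer ({ι z} : Set G))).map
        (centralizer ({ι z} : Set G)).subtype,
        a * u = u * a ∧ a * v = v * a ∧ u * v ≠ v * u) →
    ∃ m ∈ M, m * ι z * m⁻¹ = a

namespace Emb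

variable {ι : H →* G} {z : H} {S : Subgroup H} {M : Subgroup G} (X : Emb ι z S M)
include X

theorem mem (h : H) : ι h ∈ M := X.range ▸ ⟨h, rfl⟩

theorem exists_pre {g : G} (hg : g ∈ M) : ∃ h, ι h = g := by
  rw [← X.range] at hg; exact hg

theorem zz : z * z = 1 := by rw [← pow_two, ← X.facts.order_z, pow_orderOf_eq_one]

theorem finite : Finite H := Finite.of_injective _ X.inj

theorem pCore_le : ∀ u ∈ (Cfsg.pCore 2 ↥(centralizer ({z} : Set H))).map
    (centralizer ({z} : Set H)).subtype,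
    ι u ∈ (Cfsg.pCore 2 ↥(centralizer ({ι z} : Set G))).map
      (centralizer ({ι z} : Set G)).subtype := by
  haveI := X.finite
  let f : ↥(centralizer ({z} : Set H)) →* ↥(centralizer ({ι z} : Set G)) :=
    MonoidHom.mk' (fun c => ⟨ι c, mem_centralizer_singleton_iff.2 (by
      rw [← map_mul, ← map_mul, mem_centralizer_singleton_iff.1 c.2])⟩)
      fun a b => Subtype.ext (by simp)
  have hf : Function.Bijective f := by
    refine ⟨fun a b h => Subtype.ext (X.inj (congrArg Subtype.val h)), fun c => ?_⟩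
    obtain ⟨h, hh⟩ := X.exists_pre (X.cent c.2)
    refine ⟨⟨h, mem_centralizer_singleton_iff.2 (X.inj ?_)⟩, Subtype.ext hh⟩
    rw [map_mul, map_mul, hh, mem_centralizer_singleton_iff.1 c.2]
  rintro _ ⟨u, hu, rfl⟩
  exact ⟨f u, CfsgLib.Base.map_pCore_mulEquiv (p := 2) (MulEquiv.ofBijective f hf) ▸ ⟨u, hu, rfl⟩,
    rfl⟩

/-- Conjugates of the root involution inside `M` are conjugate in `M`. -/
theorem isConj_iff' (x : H) : IsConj (ι z) (ι x) ↔ IsConj z x := by
  refine ⟨fun hc => ?_, fun hc => ι.map_isConj hc⟩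
  obtain ⟨g, hg⟩ := isConj_iff.1 hc
  have hxx : x * x = 1 := X.inj (by
    rw [map_mul, map_one, ← hg,
      show g * ι z * g⁻¹ * (g * ι z * g⁻¹) = g * (ι z * ι z) * g⁻¹ by group, ← map_mul, X.zz,
      map_one, mul_one, mul_inv_cancel])
  have hx1 : x ≠ 1 := fun h => by
    rw [h, map_one, conj_eq_one_iff, ← map_one ι] at hg
    have := X.facts.order_z
    rw [X.inj hg, orderOf_one] at this
    omega
  rcases X.facts.fusion x hxx hx1 with h | ⟨m, hzi, u, hu, v, hv, hiu, hiv, huv⟩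
  · exact h
  · obtain ⟨k, hk, hk'⟩ := X.fusion (ι (m * x * m⁻¹))
      (mem_centralizer_singleton_iff.2 (by rw [← map_mul, ← map_mul, hzi]))
      (hc.trans (ι.map_isConj (isConj_iff.2 ⟨m, rfl⟩)))
      ⟨ι u, X.pCore_le u hu, ι v, X.pCore_le v hv, by rw [← map_mul, ← map_mul, hiu],
        by rw [← map_mul, ← map_mul, hiv], fun e => huv (X.inj (by rw [map_mul, map_mul, e]))⟩
    obtain ⟨h, rfl⟩ := X.exists_pre hk
    have e : h * z * h⁻¹ = m * x * m⁻¹ := X.inj (by rw [← hk', map_mul, map_mul, map_inv])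
    exact (isConj_iff.2 ⟨h, e⟩).trans (isConj_iff.2 ⟨m⁻¹, by group⟩)

theorem base : Base M (ι z) := by
  refine ⟨by rw [← map_mul, X.zz, map_one], X.mem z, X.cent, fun x hx hc => ?_,
    fun J hJM hJ hab => ?_⟩
  · obtain ⟨y, rfl⟩ := X.exists_pre hx
    obtain ⟨h, hh⟩ := isConj_iff.1 ((X.isConj_iff' y).1 hc)
    exact ⟨ι h, X.mem h, by rw [← map_inv, ← map_mul, ← map_mul, hh]⟩
  · obtain ⟨h, hh⟩ := X.facts.sylow (J.comap ι) (hJ.comap_of_injective ι X.inj)
    refine ⟨ι (h⁻¹ * z * h), X.mem _, ι.map_isConj (isConj_iff.2 ⟨h⁻¹, by group⟩), fun a ha => ?_⟩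
    obtain ⟨b, rfl⟩ := X.exists_pre (hJM ha)
    rw [← map_mul, ← map_mul]
    congr 1
    calc h⁻¹ * z * h * b = h⁻¹ * (z * (h * b * h⁻¹)) * h := by group
      _ = h⁻¹ * (h * b * h⁻¹ * z) * h := by rw [X.facts.central _ (hh b ha)]
      _ = b * (h⁻¹ * z * h) := by group

theorem map_comap {J : Subgroup G} (hJ : J ≤ M) : (J.comap ι).map ι = J :=
  map_comap_eq_self (X.range.symm ▸ hJ)

theorem clean_comap {J : Subgroup G} (hJ : IsPGroup 2 J)
    (hab : ∀ c ∈ J, ∀ d ∈ J, c * d = d * c) (hfree : Free (ι z) J) : Clean z (J.comap ι) where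
  two := hJ.comap_of_injective ι X.inj
  ab a ha b hb := X.inj (by rw [map_mul, map_mul, hab _ ha _ hb])
  free a ha hc := hfree _ ha (ι.map_isConj hc)

theorem hasOther {J : Subgroup H} {k : H} (hk : Ext z J k) :
    HasOther M (ι z) (J.map ι) := by
  refine ⟨ι k, X.mem k, fun ⟨a, ha, e⟩ => hk.notMem (X.inj e ▸ ha), ?_, ⟨k * k, hk.sq, map_mul _ _ _⟩,
    ?_⟩
  · rintro _ ⟨a, ha, rfl⟩
    rw [← map_mul, ← map_mul, hk.comm a ha]
  · rintro _ ⟨a, ha, rfl⟩ hc
    rw [← map_mul] at hc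
    exact hk.free a ha ((X.isConj_iff' _).1 hc)

theorem oddSmall {J : Subgroup H} (hJ : OddBound J) : OddSmall M (J.map ι) := by
  intro K hK hodd
  have hKM : K ≤ M := fun a ha => (hK ha).1
  have hc : Nat.card (K.comap ι) = Nat.card K := by
    conv_rhs => rw [← X.map_comap hKM]
    exact (card_map_of_injective X.inj).symm
  have hcen : ∀ a : H, a ∈ centralizer (J : Set H) ↔ ι a ∈ centralizer ((J.map ι : Subgroup G) : Set G) := by
    refine fun a => ⟨fun ha => mem_centralizer_iff.2 ?_, fun ha => mem_centralizer_iff.2 fun b hb => ?_⟩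
    · rintro _ ⟨b, hb, rfl⟩
      rw [← map_mul, ← map_mul, mem_centralizer_iff.1 ha b hb]
    · exact X.inj (by rw [map_mul, map_mul, mem_centralizer_iff.1 ha _ ⟨b, hb, rfl⟩])
  have h := hJ (K.comap ι) (fun a ha => (hcen a).2 (hK ha).2) (hc ▸ hodd)
  rw [hc, ← card_map_of_injective (K := J) X.inj] at h
  refine lt_of_lt_of_le h (Nat.card_le_card_of_injective
    (fun a => ⟨ι a.1, ⟨X.mem _, (hcen _).1 a.2.1⟩,
      fun ⟨b, hb, e⟩ => a.2.2.1 (X.inj e ▸ hb), ⟨a.1 * a.1, a.2.2.2, map_mul _ _ _⟩⟩) ?_)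
  exact fun a b e => Subtype.ext (X.inj (congrArg Subtype.val e :))

theorem terminal {J : Subgroup H} (hJ : Terminal z J) :
    centralizer ((J.map ι : Subgroup G) : Set G) ≤ M := by
  have hle : J.map ι ≤ M := fun _ ⟨a, _, e⟩ => e ▸ X.mem a
  have hab : ∀ c ∈ J.map ι, ∀ d ∈ J.map ι, c * d = d * c := by
    rintro _ ⟨a, ha, rfl⟩ _ ⟨b, hb, rfl⟩
    rw [← map_mul, ← map_mul, hJ.clean.ab a ha b hb]
  have hfree : Free (ι z) (J.map ι) := by
    rintro _ ⟨a, ha, rfl⟩ hc
    exact hJ.clean.free a ha ((X.isConj_iff' a).1 hc)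
  refine step X.base hle (hJ.clean.two.map ι) hab hfree (fun J' hlt h1 h2 h3 => ?_)
    (Or.inr (X.oddSmall hJ.small))
  by_cases hf : Free (ι z) J'
  · exfalso
    have hlt' : J < J'.comap ι := by
      refine lt_of_le_of_ne (map_le_iff_le_comap.1 hlt.le) fun e => hlt.ne ?_
      rw [e, X.map_comap h1]
    obtain ⟨k, hk⟩ := exists_ext hlt' (X.clean_comap h2 h3 hf)
    exact hJ.max k hk
  · simp only [Free, not_forall, not_not] at hf
    obtain ⟨x, hxJ, hx⟩ := hf
    exact le_trans (centralizer_le (Set.singleton_subset_iff.2 hxJ))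
      (X.base.cent_le (h1 hxJ) hx)

theorem exceptional {J : Subgroup H} (hJ : Exceptional z J) :
    centralizer ((J.map ι : Subgroup G) : Set G) ≤ M := by
  obtain ⟨hJ2, x, hxc, hxJ, hxcomm, hcen, l, hlodd, hl, hprod⟩ := hJ
  have hx2 : x * x = 1 := X.inj (by
    rw [map_mul, map_one]; exact X.base.conj_sq ((X.isConj_iff' x).2 hxc))
  refine exceptional_cent (x := ι x) (l := l.map ι) (fun _ ⟨a, _, e⟩ => e ▸ X.mem a) ?_ (X.mem x)
    (fun ⟨a, ha, e⟩ => hxJ (X.inj e ▸ ha)) (by rw [← map_mul, hx2, map_one]) ?_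
    (fun g hg => X.base.mem_of_move (X.mem x) ((X.isConj_iff' x).2 hxc) hg) ?_
    (by rwa [List.length_map]) ⟨l.prod, hprod, map_list_prod ι l⟩ ?_
  · rintro _ ⟨a, ha, rfl⟩
    rw [← map_mul, hJ2 a ha, map_one]
  · rintro _ ⟨a, ha, rfl⟩
    rw [← map_mul, ← map_mul, hxcomm a ha]
  · intro c hc hcc
    obtain ⟨d, rfl⟩ := X.exists_pre hc
    rcases hcen d (fun a ha => X.inj (by rw [map_mul, map_mul, hcc _ ⟨a, ha, rfl⟩])) with h | h
    · exact Or.inl ⟨d, h, rfl⟩
    · exact Or.inr ⟨d * x, h, map_mul _ _ _⟩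
  · intro y hy
    obtain ⟨y, hyl, rfl⟩ := List.mem_map.1 hy
    rcases hl y hyl with rfl | ⟨hy2, hyJ, J', hJ', hsub⟩
    · exact Or.inl rfl
    · refine Or.inr ⟨by rw [← map_mul, hy2, map_one], ?_, fun o ho hoy => X.terminal hJ' ?_⟩
      · rintro _ ⟨a, ha, rfl⟩
        exact ⟨y * a * y, hyJ a ha, by rw [map_mul, map_mul]⟩
      · rw [mem_centralizer_iff]
        rintro _ ⟨a, ha, rfl⟩
        rcases hsub a ha with h | h
        · exact (ho _ ⟨a, h, rfl⟩).symm
        · have h1 : Commute o (ι (y * a)) := ho _ ⟨_, h, rfl⟩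
          have h2 : Commute o (ι y) := hoy
          have h3 := h2.mul_right h1
          rw [← map_mul, ← mul_assoc, hy2, one_mul] at h3
          exact h3.eq.symm

theorem crit_cases {J : Subgroup G} (hJM : J ≤ M) (hJ : IsPGroup 2 J)
    (hab : ∀ c ∈ J, ∀ d ∈ J, c * d = d * c) (hfree : Free (ι z) J) :
    HasOther M (ι z) J ∨ OddSmall M J ∨ centralizer (J : Set G) ≤ M := by
  obtain ⟨h, hh⟩ := X.facts.sylow (J.comap ι) (hJ.comap_of_injective ι X.inj)
  set J₁ := (J.comap ι).map (MulAut.conj h).toMonoidHom with hJ₁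
  have hmap : J₁.map ι = J.map (MulAut.conj (ι h)).toMonoidHom := by
    rw [hJ₁, map_map, show ι.comp (MulAut.conj h).toMonoidHom =
      (MulAut.conj (ι h)).toMonoidHom.comp ι from MonoidHom.ext fun a => by simp, ← map_map,
      X.map_comap hJM]
  have hclean : Clean z J₁ := by
    have h0 := X.clean_comap hJ hab hfree
    refine ⟨h0.two.map _, ?_, ?_⟩
    · rintro _ ⟨a, ha, rfl⟩ _ ⟨b, hb, rfl⟩
      rw [← map_mul, ← map_mul, h0.ab a ha b hb]
    · rintro _ ⟨a, ha, rfl⟩ hc
      exact h0.free a ha (hc.trans (isConj_iff.2 ⟨h⁻¹, by simp [mul_assoc]⟩))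
  rcases X.facts.crit J₁ (by rintro _ ⟨a, ha, rfl⟩; exact hh a ha) hclean with
    ⟨k, hk⟩ | hs | ⟨g, hg⟩
  · exact Or.inl (hasOther_of_conj (X.mem h) (hmap ▸ X.hasOther hk))
  · exact Or.inr (Or.inl (oddSmall_of_conj (X.mem h) (hmap ▸ X.oddSmall hs)))
  · refine Or.inr (Or.inr fun c hc => ?_)
    have hc' : ι (g * h) * c * (ι (g * h))⁻¹ ∈ M := by
      refine X.exceptional hg (mem_centralizer_iff.2 ?_)
      rintro _ ⟨_, ⟨_, ⟨a, ha, rfl⟩, rfl⟩, rfl⟩
      have e : ι ((MulAut.conj g).toMonoidHom ((MulAut.conj h).toMonoidHom a)) =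
          ι (g * h) * ι a * (ι (g * h))⁻¹ := by simp [mul_assoc]
      rw [e]
      have := mem_centralizer_iff.1 hc (ι a) ha
      calc ι (g * h) * ι a * (ι (g * h))⁻¹ * (ι (g * h) * c * (ι (g * h))⁻¹)
          = ι (g * h) * (ι a * c) * (ι (g * h))⁻¹ := by group
        _ = ι (g * h) * (c * ι a) * (ι (g * h))⁻¹ := by rw [this]
        _ = _ := by group
    have := mul_mem (mul_mem (inv_mem (X.mem (g * h))) hc') (X.mem (g * h))
    rwa [show (ι (g * h))⁻¹ * (ι (g * h) * c * (ι (g * h))⁻¹) * ι (g * h) = c by group] at this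

theorem eq_top : M = ⊤ := by
  classical
  haveI : Fintype (Subgroup G) := Fintype.ofFinite _
  have B := X.base
  have key : ∀ J : Subgroup G, J ≤ M → IsPGroup 2 J → (∀ c ∈ J, ∀ d ∈ J, c * d = d * c) →
      centralizer (J : Set G) ≤ M := by
    intro J
    induction J using WellFoundedGT.induction with
    | _ J ih =>
    intro hJH hJ hab
    by_cases hfree : Free (ι z) J
    · rcases X.crit_cases hJH hJ hab hfree with h | h | h
      · exact step B hJH hJ hab hfree (fun J' hlt h1 h2 h3 => ih J' hlt h1 h2 h3) (Or.inl h)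
      · exact step B hJH hJ hab hfree (fun J' hlt h1 h2 h3 => ih J' hlt h1 h2 h3) (Or.inr h)
      · exact h
    · simp only [Free, not_forall, not_not] at hfree
      obtain ⟨x, hxJ, hx⟩ := hfree
      exact le_trans (centralizer_le (Set.singleton_subset_iff.2 hxJ)) (B.cent_le (hJH hxJ) hx)
  refine top_le_iff.1 (le_trans ?_ (key ⊥ bot_le IsPGroup.of_bot ?_))
  · intro g _
    rw [mem_centralizer_iff]
    intro c hc
    rw [mem_bot.1 hc]; simp
  · intro c hc d hd
    rw [mem_bot.1 hc, mem_bot.1 hd]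

end Emb

/-- The census, given the facts about the model. -/
theorem censusGeneric : StmtCensusGeneric.{u} := by
  rintro ⟨z, S, F⟩ G _ _ t M ht hcent h4096 ⟨e⟩ hfus
  classical
  haveI : Fact (Nat.Prime 2) := ⟨Nat.prime_two⟩
  set ι : CfsgLib.DFour.Model →* G := M.subtype.comp e.toMonoidHom with hι
  have hinj : Function.Injective ι := M.subtype_injective.comp e.injective
  have hrange : ι.range = M := by
    rw [hι, MonoidHom.range_comp, MonoidHom.range_eq_top.2 e.surjective, ← MonoidHom.range_eq_map,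
      range_subtype]
  haveI : Finite CfsgLib.DFour.Model := Finite.of_injective _ hinj
  -- a Sylow subgroup of the centralizer
  obtain ⟨P⟩ : Nonempty (Sylow 2 (centralizer ({t} : Set G))) := inferInstance
  set P' : Subgroup G := (P : Subgroup (centralizer ({t} : Set G))).map
    (centralizer ({t} : Set G)).subtype with hP'
  have hP'p : IsPGroup 2 P' := P.isPGroup'.map _
  have hP'le : P' ≤ centralizer ({t} : Set G) := map_subtype_le _
  have htP : t ∈ P' := by
    have htt : t ∈ centralizer ({t} : Set G) := mem_centralizer_singleton_iff.2 rfl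
    let Z : Subgroup (centralizer ({t} : Set G)) := zpowers ⟨t, htt⟩
    haveI hZn : Z.Normal := ⟨fun a ha g => by
      obtain ⟨n, rfl⟩ := mem_zpowers_iff.1 ha
      have hc : Commute g (⟨t, htt⟩ : centralizer ({t} : Set G)) :=
        Subtype.ext (mem_centralizer_singleton_iff.1 g.2)
      rw [(hc.zpow_right n).eq, mul_inv_cancel_right]
      exact zpow_mem (mem_zpowers _) n⟩
    have hZp : IsPGroup 2 Z := IsPGroup.of_card (n := 1) (by
      rw [Nat.card_zpowers, ← Subgroup.orderOf_coe, ht]; rfl)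
    exact ⟨⟨t, htt⟩, (hZp.le_sylow_of_normal P) (mem_zpowers _), rfl⟩
  have hcard : 4096 ≤ Nat.card P' := by
    have h : 2 ^ 12 ∣ Nat.card (centralizer ({t} : Set G)) := by simpa using h4096
    rw [hP', card_map_of_injective (subtype_injective _)]
    exact Nat.le_of_dvd Nat.card_pos (by simpa using P.pow_dvd_card_of_pow_dvd_card h)
  have hP'M : P' ≤ ι.range := by rw [hrange]; exact le_trans hP'le hcent
  obtain ⟨h, hh⟩ := F.sylow (P'.comap ι) (hP'p.comap_of_injective ι hinj)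
  have hsur : (P'.comap ι).map (MulAut.conj h).toMonoidHom = S := by
    refine Subgroup.eq_of_le_of_card_ge (by rintro _ ⟨a, ha, rfl⟩; exact hh a ha) ?_
    rw [F.card, card_map_of_injective (MulAut.conj h).injective,
      ← card_map_of_injective (K := P'.comap ι) hinj, map_comap_eq_self hP'M]
    exact hcard
  obtain ⟨t₀, ht₀⟩ := hP'M htP
  have hconj : h * t₀ * h⁻¹ = z := by
    have hmem : h * t₀ * h⁻¹ ∈ S := hh t₀ (show ι t₀ ∈ P' from ht₀.symm ▸ htP)
    refine (F.center _ hmem fun b hb => ?_).resolve_left fun e1 => ?_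
    · rw [← hsur] at hb
      obtain ⟨a, ha, rfl⟩ := hb
      have hc : t₀ * a = a * t₀ := hinj (by
        rw [map_mul, map_mul, ht₀]
        exact (mem_centralizer_singleton_iff.1 (hP'le ha)).symm)
      simp only [MulEquiv.toMonoidHom_eq_coe, MonoidHom.coe_coe, MulAut.conj_apply]
      calc h * t₀ * h⁻¹ * (h * a * h⁻¹) = h * (t₀ * a) * h⁻¹ := by group
        _ = h * (a * t₀) * h⁻¹ := by rw [hc]
        _ = _ := by group
    · rw [conj_eq_one_iff] at e1
      rw [e1, map_one] at ht₀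
      rw [← ht₀, orderOf_one] at ht
      omega
  -- the conjugated embedding
  set κ : CfsgLib.DFour.Model →* G := ι.comp (MulAut.conj h⁻¹).toMonoidHom with hκ
  have hκz : κ z = t := by
    simp only [hκ, MonoidHom.comp_apply, MulEquiv.toMonoidHom_eq_coe, MonoidHom.coe_coe,
      MulAut.conj_apply, inv_inv]
    rw [← hconj, show h⁻¹ * (h * t₀ * h⁻¹) * h = t₀ by group, ht₀]
  refine Emb.eq_top (ι := κ) (z := z) (S := S) ⟨hinj.comp (MulAut.conj h⁻¹).injective, ?_, F, ?_, ?_⟩
  · rw [hκ, MonoidHom.range_comp, MonoidHom.range_eq_top.2 (MulAut.conj h⁻¹).surjective,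
      ← MonoidHom.range_eq_map, hrange]
  · rw [hκz]; exact hcent
  · rw [hκz]; exact hfus

end CfsgLib.DFour.Census
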