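import Mathlib

/-!
Certificates for the centralizers of the maximal representatives.
-/

set_option autoImplicit false
set_option maxRecDepth 100000

namespace CfsgLib.DFour.CensusModel

/-- node, common fixed vectors, steps, a word of one more element -/
def boundW : List (ℕ × List ℕ × List (ℕ × ℕ × List (ℕ × ℕ × ℕ)) × List (Fin 24)) :=
  [(51, [0, 1, 2, 3, 4, 5, 6, 7, 8, 9, 10, 11, 12, 13, 14, 15], [(1, 15, []), (8, 1, [(3, 18, 1), (3, 35, 1)]), (2, 1, [(3, 18, 1)]), (4, 1, [])], [22, 7]),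
   (53, [0, 1, 2, 3], [(1, 3, []), (2, 1, [])], []),
   (57, [0, 1, 2, 3], [(1, 3, []), (2, 1, [])], []),
   (70, [0, 1, 8, 9, 38, 39, 46, 47, 68, 69, 76, 77, 98, 99, 106, 107, 128, 129, 136, 137, 166, 167, 174, 175, 196, 197, 204, 205, 226, 227, 234, 235], [(1, 1, [(5, 65, 0)]), (8, 5, [(0, 0, 0)]), (38, 3, [(1, 0, 8)]), (128, 1, [(1, 0, 38)]), (68, 1, [])], [23, 5]),
   (94, [0, 1, 2, 3, 8, 9, 10, 11, 68, 69, 70, 71, 76, 77, 78, 79, 128, 129, 130, 131, 136, 137, 138, 139, 196, 197, 198, 199, 204, 205, 206, 207], [(1, 1, [(2, 130, 0)]), (2, 1, [(2, 520, 0)]), (68, 1, [(5, 130, 0)]), (8, 3, []), (128, 1, [])], []),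
   (97, [0, 1, 8, 9, 70, 71, 78, 79, 128, 129, 136, 137, 198, 199, 206, 207], [(1, 1, [(5, 130, 0)]), (70, 1, [(5, 586, 0)]), (8, 3, []), (128, 1, [])], []),
   (183, [0, 1, 2, 3], [(1, 3, []), (2, 1, [])], []),
   (236, [0, 1, 2, 3, 4, 5, 6, 7, 128, 129, 130, 131, 132, 133, 134, 135], [(1, 15, []), (128, 1, [(3, 1026, 1), (3, 2051, 1)]), (2, 1, [(3, 1026, 1)]), (4, 1, [])], [19, 4]),
   (237, [0, 1, 2, 3], [(1, 3, []), (2, 1, [])], []),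
   (256, [0, 1, 4, 5], [(1, 1, [(2, 2380, 0)]), (4, 1, [])], []),
   (257, [0, 1, 2, 3], [(1, 1, [(5, 260, 0)]), (2, 1, [])], []),
   (258, [0, 1, 2, 3], [(1, 1, [(5, 260, 0)]), (2, 1, [])], []),
   (259, [0, 1, 4, 5], [(1, 1, [(5, 260, 0)]), (4, 1, [])], []),
   (260, [0, 1, 2, 3], [(1, 1, [(2, 1154, 0)]), (2, 1, [])], []),
   (261, [0, 1, 2, 3], [(1, 1, [(2, 1691, 0)]), (2, 1, [])], []),
   (262, [0, 1, 2, 3], [(1, 1, [(2, 1410, 0)]), (2, 1, [])], []),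
   (266, [0, 1], [(1, 1, [])], []),
   (267, [0, 1], [(1, 1, [])], []),
   (268, [0, 1], [(1, 1, [])], []),
   (269, [0, 1], [(1, 1, [])], []),
   (270, [0, 1], [(1, 1, [])], []),
   (271, [0, 1], [(1, 1, [])], []),
   (272, [0, 1], [(1, 1, [])], []),
   (273, [0, 1], [(1, 1, [])], []),
   (274, [0, 1], [(1, 1, [])], []),
   (275, [0, 1], [(1, 1, [])], []),
   (276, [0, 1], [(1, 1, [])], []),
   (277, [0, 1], [(1, 1, [])], []),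
   (278, [0, 1], [(1, 1, [])], []),
   (279, [0, 1], [(1, 1, [])], []),
   (280, [0, 1], [(1, 1, [])], []),
   (281, [0, 1], [(1, 1, [])], []),
   (282, [0, 1], [(1, 1, [])], []),
   (283, [0, 1, 2, 3], [(1, 1, [(5, 130, 0)]), (2, 1, [])], []),
   (284, [0, 1, 2, 3], [(1, 1, [(5, 130, 0)]), (2, 1, [])], []),
   (285, [0, 1, 2, 3], [(1, 1, [(5, 130, 0)]), (2, 1, [])], []),
   (286, [0, 1, 2, 3], [(1, 1, [(5, 130, 0)]), (2, 1, [])], []),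
   (287, [0, 1, 2, 3], [(1, 1, [(2, 772, 0)]), (2, 1, [])], []),
   (288, [0, 1, 2, 3], [(1, 1, [(2, 772, 0)]), (2, 1, [])], []),
   (289, [0, 1, 2, 3], [(1, 1, [(2, 1154, 0)]), (2, 1, [])], []),
   (290, [0, 1, 2, 3], [(1, 1, [(2, 1821, 0)]), (2, 1, [])], []),
   (291, [0, 1, 2, 3], [(1, 1, [(2, 914, 0)]), (2, 1, [])], []),
   (296, [0, 1, 4, 5], [(1, 1, [(5, 65, 0)]), (4, 1, [])], []),
   (297, [0, 1, 4, 5, 136, 137, 140, 141], [(1, 1, [(5, 65, 0)]), (4, 1, [(0, 0, 0)]), (136, 1, [])], []),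
   (298, [0, 1], [(1, 1, [])], []),
   (299, [0, 1], [(1, 1, [])], []),
   (300, [0, 1], [(1, 1, [])], []),
   (301, [0, 1], [(1, 1, [])], []),
   (302, [0, 1], [(1, 1, [])], []),
   (303, [0, 1], [(1, 1, [])], []),
   (304, [0, 1], [(1, 1, [])], []),
   (305, [0, 1], [(1, 1, [])], []),
   (306, [0, 1], [(1, 1, [])], []),
   (307, [0, 1], [(1, 1, [])], []),
   (308, [0, 1], [(1, 1, [])], []),
   (309, [0, 1], [(1, 1, [])], []),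
   (310, [0, 1], [(1, 1, [])], []),
   (311, [0, 1], [(1, 1, [])], []),
   (312, [0, 1], [(1, 1, [])], []),
   (313, [0, 1], [(1, 1, [])], []),
   (314, [0, 1, 4, 5], [(1, 1, [(2, 363, 0)]), (4, 1, [])], []),
   (315, [0, 1], [(1, 1, [])], []),
   (316, [0, 1], [(1, 1, [])], []),
   (317, [0, 1, 4, 5], [(1, 1, [(2, 268, 0)]), (4, 1, [])], []),
   (318, [0, 1, 4, 5], [(1, 1, [(2, 269, 0)]), (4, 1, [])], []),
   (319, [0, 1, 4, 5], [(1, 1, [(2, 269, 0)]), (4, 1, [])], []),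
   (320, [0, 1], [(1, 1, [])], []),
   (321, [0, 1], [(1, 1, [])], []),
   (322, [0, 1], [(1, 1, [])], []),
   (323, [0, 1], [(1, 1, [])], []),
   (324, [0, 1], [(1, 1, [])], []),
   (325, [0, 1, 4, 5], [(1, 1, [(2, 97, 0)]), (4, 1, [])], []),
   (326, [0, 1, 4, 5], [(1, 1, [(2, 97, 0)]), (4, 1, [])], []),
   (327, [0, 1], [(1, 1, [])], []),
   (328, [0, 1], [(1, 1, [])], []),
   (331, [0, 1, 2, 3], [(1, 1, [(5, 130, 0)]), (2, 1, [])], []),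
   (332, [0, 1, 2, 3], [(1, 1, [(5, 130, 0)]), (2, 1, [])], []),
   (334, [0, 1, 2, 3], [(1, 1, [(5, 130, 0)]), (2, 1, [])], []),
   (336, [0, 1, 2, 3], [(1, 1, [(5, 130, 0)]), (2, 1, [])], []),
   (337, [0, 1, 2, 3], [(1, 1, [(5, 130, 0)]), (2, 1, [])], []),
   (341, [0, 1], [(1, 1, [])], []),
   (342, [0, 1], [(1, 1, [])], []),
   (344, [0, 1], [(1, 1, [])], []),
   (345, [0, 1], [(1, 1, [])], []),
   (346, [0, 1, 2, 3], [(1, 1, [(2, 411, 0)]), (2, 1, [])], []),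
   (348, [0, 1], [(1, 1, [])], []),
   (349, [0, 1], [(1, 1, [])], []),
   (350, [0, 1, 2, 3], [(1, 1, [(2, 268, 0)]), (2, 1, [])], []),
   (351, [0, 1, 2, 3], [(1, 1, [(2, 268, 0)]), (2, 1, [])], []),
   (353, [0, 1], [(1, 1, [])], []),
   (354, [0, 1], [(1, 1, [])], []),
   (355, [0, 1, 2, 3], [(1, 1, [(2, 270, 0)]), (2, 1, [])], []),
   (357, [0, 1], [(1, 1, [])], []),
   (358, [0, 1], [(1, 1, [])], []),
   (361, [0, 1, 2, 3], [(1, 1, [(2, 1154, 0)]), (2, 1, [])], []),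
   (362, [0, 1, 2, 3], [(1, 1, [(2, 1670, 0)]), (2, 1, [])], []),
   (365, [0, 1, 2, 3], [(1, 1, [(2, 146, 0)]), (2, 1, [])], []),
   (368, [0, 1], [(1, 1, [])], []),
   (369, [0, 1], [(1, 1, [])], []),
   (372, [0, 1], [(1, 1, [])], []),
   (373, [0, 1], [(1, 1, [])], []),
   (374, [0, 1, 2, 3], [(1, 1, [(2, 146, 0)]), (2, 1, [])], []),
   (375, [0, 1, 2, 3], [(1, 1, [(2, 146, 0)]), (2, 1, [])], []),
   (379, [0, 1, 2, 3], [(1, 1, [(2, 146, 0)]), (2, 1, [])], []),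
   (380, [0, 1, 2, 3], [(1, 1, [(2, 146, 0)]), (2, 1, [])], []),
   (384, [0, 1, 2, 3], [(1, 1, [(5, 260, 0)]), (2, 1, [])], []),
   (385, [0, 1, 2, 3], [(1, 1, [(5, 260, 0)]), (2, 1, [])], []),
   (386, [0, 1, 2, 3], [(1, 1, [(5, 260, 0)]), (2, 1, [])], []),
   (390, [0, 1, 2, 3, 4, 5, 6, 7, 136, 137, 138, 139, 140, 141, 142, 143], [(1, 1, [(2, 260, 0)]), (2, 1, [(2, 1040, 0)]), (4, 1, [(0, 0, 0)]), (136, 1, [])], []),
   (391, [0, 1, 2, 3, 4, 5, 6, 7, 136, 137, 138, 139, 140, 141, 142, 143], [(1, 1, [(2, 260, 0)]), (2, 1, [(2, 1040, 0)]), (4, 1, [(0, 0, 0)]), (136, 1, [])], []),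
   (392, [0, 1, 2, 3, 4, 5, 6, 7, 136, 137, 138, 139, 140, 141, 142, 143], [(1, 1, [(2, 260, 0)]), (2, 1, [(2, 1042, 0)]), (4, 1, [(0, 0, 0)]), (136, 1, [])], []),
   (393, [0, 1, 2, 3, 4, 5, 6, 7, 136, 137, 138, 139, 140, 141, 142, 143], [(1, 1, [(2, 260, 0)]), (2, 1, [(2, 1042, 0)]), (4, 1, [(0, 0, 0)]), (136, 1, [])], []),
   (394, [0, 1, 2, 3, 4, 5, 6, 7, 136, 137, 138, 139, 140, 141, 142, 143], [(1, 1, [(2, 260, 0)]), (2, 1, [(2, 1048, 0)]), (4, 1, [(0, 0, 0)]), (136, 1, [])], []),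
   (395, [0, 1, 2, 3, 4, 5, 6, 7, 136, 137, 138, 139, 140, 141, 142, 143], [(1, 1, [(2, 260, 0)]), (2, 1, [(2, 1048, 0)]), (4, 1, [(0, 0, 0)]), (136, 1, [])], []),
   (396, [0, 1, 2, 3, 4, 5, 6, 7, 136, 137, 138, 139, 140, 141, 142, 143], [(1, 1, [(2, 260, 0)]), (2, 1, [(2, 1048, 0)]), (4, 1, [(0, 0, 0)]), (136, 1, [])], []),
   (397, [0, 1, 2, 3, 4, 5, 6, 7, 136, 137, 138, 139, 140, 141, 142, 143], [(1, 1, [(2, 260, 0)]), (2, 1, [(2, 1048, 0)]), (4, 1, [(0, 0, 0)]), (136, 1, [])], []),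
   (398, [0, 1, 2, 3, 4, 5, 6, 7, 136, 137, 138, 139, 140, 141, 142, 143], [(1, 1, [(2, 260, 0)]), (2, 1, [(2, 1048, 0)]), (4, 1, [(0, 0, 0)]), (136, 1, [])], []),
   (399, [0, 1, 2, 3, 140, 141, 142, 143], [(1, 1, [(5, 260, 0)]), (2, 1, [(0, 0, 0)]), (140, 1, [])], []),
   (400, [0, 1, 2, 3, 140, 141, 142, 143], [(1, 1, [(5, 260, 0)]), (2, 1, [(0, 0, 0)]), (140, 1, [])], []),
   (401, [0, 1, 2, 3, 136, 137, 138, 139], [(1, 1, [(2, 260, 0)]), (2, 1, [(0, 0, 0)]), (136, 1, [])], []),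
   (402, [0, 1, 2, 3, 136, 137, 138, 139], [(1, 1, [(2, 260, 0)]), (2, 1, [(0, 0, 0)]), (136, 1, [])], []),
   (403, [0, 1, 2, 3], [(1, 1, [(5, 260, 0)]), (2, 1, [])], []),
   (404, [0, 1, 2, 3], [(1, 1, [(5, 260, 0)]), (2, 1, [])], []),
   (405, [0, 1, 4, 5, 138, 139, 142, 143], [(1, 1, [(5, 260, 0)]), (4, 1, [(0, 0, 0)]), (138, 1, [])], []),
   (406, [0, 1, 4, 5, 138, 139, 142, 143], [(1, 1, [(5, 260, 0)]), (4, 1, [(0, 0, 0)]), (138, 1, [])], []),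
   (409, [0, 1, 2, 3], [(1, 1, [(2, 1691, 0)]), (2, 1, [])], []),
   (410, [0, 1, 2, 3], [(1, 1, [(2, 268, 0)]), (2, 1, [])], []),
   (412, [0, 1, 2, 3], [(1, 1, [(2, 268, 0)]), (2, 1, [])], []),
   (418, [0, 1, 2, 3, 4, 5, 6, 7, 136, 137, 138, 139, 140, 141, 142, 143], [(1, 1, [(2, 268, 0)]), (2, 1, [(2, 1040, 0)]), (4, 1, [(0, 0, 0)]), (136, 1, [])], []),
   (419, [0, 1, 2, 3, 4, 5, 6, 7, 136, 137, 138, 139, 140, 141, 142, 143], [(1, 1, [(2, 268, 0)]), (2, 1, [(2, 1040, 0)]), (4, 1, [(0, 0, 0)]), (136, 1, [])], []),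
   (420, [0, 1, 2, 3, 4, 5, 6, 7, 136, 137, 138, 139, 140, 141, 142, 143], [(1, 1, [(2, 268, 0)]), (2, 1, [(2, 1048, 0)]), (4, 1, [(0, 0, 0)]), (136, 1, [])], []),
   (421, [0, 1, 2, 3, 4, 5, 6, 7, 136, 137, 138, 139, 140, 141, 142, 143], [(1, 1, [(2, 268, 0)]), (2, 1, [(2, 1048, 0)]), (4, 1, [(0, 0, 0)]), (136, 1, [])], []),
   (422, [0, 1, 2, 3, 4, 5, 6, 7, 136, 137, 138, 139, 140, 141, 142, 143], [(1, 1, [(2, 268, 0)]), (2, 1, [(2, 1048, 0)]), (4, 1, [(0, 0, 0)]), (136, 1, [])], []),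
   (423, [0, 1, 2, 3, 4, 5, 6, 7, 136, 137, 138, 139, 140, 141, 142, 143], [(1, 1, [(2, 268, 0)]), (2, 1, [(2, 1048, 0)]), (4, 1, [(0, 0, 0)]), (136, 1, [])], []),
   (424, [0, 1, 2, 3], [(1, 1, [(2, 268, 0)]), (2, 1, [])], []),
   (425, [0, 1, 2, 3], [(1, 1, [(2, 268, 0)]), (2, 1, [])], []),
   (426, [0, 1, 2, 3, 136, 137, 138, 139], [(1, 1, [(2, 268, 0)]), (2, 1, [(0, 0, 0)]), (136, 1, [])], []),
   (427, [0, 1, 2, 3, 136, 137, 138, 139], [(1, 1, [(2, 268, 0)]), (2, 1, [(0, 0, 0)]), (136, 1, [])], []),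
   (428, [0, 1, 2, 3, 4, 5, 6, 7, 136, 137, 138, 139, 140, 141, 142, 143], [(1, 1, [(2, 268, 0)]), (2, 1, [(2, 1050, 0)]), (4, 1, [(0, 0, 0)]), (136, 1, [])], []),
   (429, [0, 1, 2, 3, 4, 5, 6, 7, 136, 137, 138, 139, 140, 141, 142, 143], [(1, 1, [(2, 268, 0)]), (2, 1, [(2, 1050, 0)]), (4, 1, [(0, 0, 0)]), (136, 1, [])], []),
   (430, [0, 1, 2, 3, 4, 5, 6, 7, 136, 137, 138, 139, 140, 141, 142, 143], [(1, 1, [(2, 268, 0)]), (2, 1, [(2, 1050, 0)]), (4, 1, [(0, 0, 0)]), (136, 1, [])], []),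
   (431, [0, 1, 2, 3, 4, 5, 6, 7, 136, 137, 138, 139, 140, 141, 142, 143], [(1, 1, [(2, 268, 0)]), (2, 1, [(2, 1050, 0)]), (4, 1, [(0, 0, 0)]), (136, 1, [])], []),
   (432, [0, 1, 2, 3], [(1, 1, [(2, 268, 0)]), (2, 1, [])], []),
   (433, [0, 1, 2, 3], [(1, 1, [(2, 268, 0)]), (2, 1, [])], []),
   (434, [0, 1, 2, 3], [(1, 1, [(2, 268, 0)]), (2, 1, [])], []),
   (435, [0, 1, 2, 3], [(1, 1, [(2, 268, 0)]), (2, 1, [])], []),
   (436, [0, 1, 4, 5], [(1, 1, [(2, 268, 0)]), (4, 1, [])], []),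
   (437, [0, 1, 4, 5], [(1, 1, [(2, 268, 0)]), (4, 1, [])], []),
   (438, [0, 1, 4, 5], [(1, 1, [(2, 268, 0)]), (4, 1, [])], []),
   (439, [0, 1, 4, 5], [(1, 1, [(2, 268, 0)]), (4, 1, [])], []),
   (440, [0, 1], [(1, 1, [])], []),
   (441, [0, 1], [(1, 1, [])], []),
   (442, [0, 1], [(1, 1, [])], []),
   (443, [0, 1], [(1, 1, [])], []),
   (444, [0, 1], [(1, 1, [])], []),
   (445, [0, 1], [(1, 1, [])], []),
   (446, [0, 1], [(1, 1, [])], []),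
   (447, [0, 1], [(1, 1, [])], []),
   (448, [0, 1], [(1, 1, [])], []),
   (449, [0, 1], [(1, 1, [])], []),
   (450, [0, 1], [(1, 1, [])], []),
   (451, [0, 1], [(1, 1, [])], []),
   (452, [0, 1], [(1, 1, [])], []),
   (453, [0, 1], [(1, 1, [])], []),
   (454, [0, 1], [(1, 1, [])], []),
   (455, [0, 1], [(1, 1, [])], []),
   (456, [0, 1], [(1, 1, [])], []),
   (457, [0, 1], [(1, 1, [])], []),
   (458, [0, 1], [(1, 1, [])], []),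
   (459, [0, 1], [(1, 1, [])], []),
   (460, [0, 1], [(1, 1, [])], []),
   (461, [0, 1], [(1, 1, [])], [])]

/-- node, word, conjugate node, root, inverting involutions -/
def excW : List (ℕ × List (Fin 24) × ℕ × ℕ × List ℕ) :=
  [(462, [7, 17, 6, 1], 467, 1, [103, 2091, 2126]),
   (463, [18, 9], 466, 1, [103, 2088, 2125]),
   (464, [23, 9], 465, 1, [100, 2091, 2125]),
   (465, [], 465, 1, [100, 2091, 2125]),
   (466, [], 466, 1, [103, 2088, 2125]),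
   (467, [], 467, 1, [103, 2091, 2126])]

end CfsgLib.DFour.CensusModel
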