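import Cfsg.Agent.Lib.DFour.CensusModelTreeDefs

/-!
The cosets of the census tree are covered.
-/

set_option autoImplicit false
set_option maxRecDepth 100000
set_option Elab.async false

namespace CfsgLib.DFour.CensusModel

theorem covers_ok0 : coversOK 0 1 = true := by decide +kernel
theorem covers_ok1 : coversOK 1 6 = true := by decide +kernel
theorem covers_ok2 : coversOK 7 4 = true := by decide +kernel
theorem covers_ok3 : coversOK 11 5 = true := by decide +kernel
theorem covers_ok4 : coversOK 16 6 = true := by decide +kernel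
theorem covers_ok5 : coversOK 22 7 = true := by decide +kernel
theorem covers_ok6 : coversOK 29 13 = true := by decide +kernel
theorem covers_ok7 : coversOK 42 20 = true := by decide +kernel
theorem covers_ok8 : coversOK 62 24 = true := by decide +kernel
theorem covers_ok9 : coversOK 86 20 = true := by decide +kernel
theorem covers_ok10 : coversOK 106 16 = true := by decide +kernel
theorem covers_ok11 : coversOK 122 17 = true := by decide +kernel
theorem covers_ok12 : coversOK 139 18 = true := by decide +kernel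
theorem covers_ok13 : coversOK 157 17 = true := by decide +kernel
theorem covers_ok14 : coversOK 174 18 = true := by decide +kernel
theorem covers_ok15 : coversOK 192 18 = true := by decide +kernel
theorem covers_ok16 : coversOK 210 18 = true := by decide +kernel
theorem covers_ok17 : coversOK 228 26 = true := by decide +kernel
theorem covers_ok18 : coversOK 254 41 = true := by decide +kernel
theorem covers_ok19 : coversOK 295 40 = true := by decide +kernel
theorem covers_ok20 : coversOK 335 44 = true := by decide +kernel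
theorem covers_ok21 : coversOK 379 40 = true := by decide +kernel
theorem covers_ok22 : coversOK 419 46 = true := by decide +kernel
theorem covers_ok23 : coversOK 465 3 = true := by decide +kernel

/-- All chunks together. -/
theorem covers_all {i : ℕ} (hi : i < 468) : ∃ a m, coversOK a m = true ∧ i ∈ List.range' a m := by
  rcases Nat.lt_or_ge i 1 with h0 | h0
  · exact ⟨0, 1, covers_ok0, List.mem_range'_1.2 ⟨by omega, h0⟩⟩
  rcases Nat.lt_or_ge i 7 with h1 | h1
  · exact ⟨1, 6, covers_ok1, List.mem_range'_1.2 ⟨by omega, h1⟩⟩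
  rcases Nat.lt_or_ge i 11 with h2 | h2
  · exact ⟨7, 4, covers_ok2, List.mem_range'_1.2 ⟨by omega, h2⟩⟩
  rcases Nat.lt_or_ge i 16 with h3 | h3
  · exact ⟨11, 5, covers_ok3, List.mem_range'_1.2 ⟨by omega, h3⟩⟩
  rcases Nat.lt_or_ge i 22 with h4 | h4
  · exact ⟨16, 6, covers_ok4, List.mem_range'_1.2 ⟨by omega, h4⟩⟩
  rcases Nat.lt_or_ge i 29 with h5 | h5
  · exact ⟨22, 7, covers_ok5, List.mem_range'_1.2 ⟨by omega, h5⟩⟩
  rcases Nat.lt_or_ge i 42 with h6 | h6
  · exact ⟨29, 13, covers_ok6, List.mem_range'_1.2 ⟨by omega, h6⟩⟩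
  rcases Nat.lt_or_ge i 62 with h7 | h7
  · exact ⟨42, 20, covers_ok7, List.mem_range'_1.2 ⟨by omega, h7⟩⟩
  rcases Nat.lt_or_ge i 86 with h8 | h8
  · exact ⟨62, 24, covers_ok8, List.mem_range'_1.2 ⟨by omega, h8⟩⟩
  rcases Nat.lt_or_ge i 106 with h9 | h9
  · exact ⟨86, 20, covers_ok9, List.mem_range'_1.2 ⟨by omega, h9⟩⟩
  rcases Nat.lt_or_ge i 122 with h10 | h10
  · exact ⟨106, 16, covers_ok10, List.mem_range'_1.2 ⟨by omega, h10⟩⟩
  rcases Nat.lt_or_ge i 139 with h11 | h11
  · exact ⟨122, 17, covers_ok11, List.mem_range'_1.2 ⟨by omega, h11⟩⟩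
  rcases Nat.lt_or_ge i 157 with h12 | h12
  · exact ⟨139, 18, covers_ok12, List.mem_range'_1.2 ⟨by omega, h12⟩⟩
  rcases Nat.lt_or_ge i 174 with h13 | h13
  · exact ⟨157, 17, covers_ok13, List.mem_range'_1.2 ⟨by omega, h13⟩⟩
  rcases Nat.lt_or_ge i 192 with h14 | h14
  · exact ⟨174, 18, covers_ok14, List.mem_range'_1.2 ⟨by omega, h14⟩⟩
  rcases Nat.lt_or_ge i 210 with h15 | h15
  · exact ⟨192, 18, covers_ok15, List.mem_range'_1.2 ⟨by omega, h15⟩⟩
  rcases Nat.lt_or_ge i 228 with h16 | h16
  · exact ⟨210, 18, covers_ok16, List.mem_range'_1.2 ⟨by omega, h16⟩⟩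
  rcases Nat.lt_or_ge i 254 with h17 | h17
  · exact ⟨228, 26, covers_ok17, List.mem_range'_1.2 ⟨by omega, h17⟩⟩
  rcases Nat.lt_or_ge i 295 with h18 | h18
  · exact ⟨254, 41, covers_ok18, List.mem_range'_1.2 ⟨by omega, h18⟩⟩
  rcases Nat.lt_or_ge i 335 with h19 | h19
  · exact ⟨295, 40, covers_ok19, List.mem_range'_1.2 ⟨by omega, h19⟩⟩
  rcases Nat.lt_or_ge i 379 with h20 | h20
  · exact ⟨335, 44, covers_ok20, List.mem_range'_1.2 ⟨by omega, h20⟩⟩
  rcases Nat.lt_or_ge i 419 with h21 | h21
  · exact ⟨379, 40, covers_ok21, List.mem_range'_1.2 ⟨by omega, h21⟩⟩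
  rcases Nat.lt_or_ge i 465 with h22 | h22
  · exact ⟨419, 46, covers_ok22, List.mem_range'_1.2 ⟨by omega, h22⟩⟩
  exact ⟨465, 3, covers_ok23, List.mem_range'_1.2 ⟨by omega, by omega⟩⟩

end CfsgLib.DFour.CensusModel
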