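import Cfsg.Agent.Lib.DFour.CensusModelClass
import Cfsg.Agent.Lib.DFour.CensusModelFusionData

/-!
The involutions of the Sylow subgroup and the fusion field of the census facts.
-/

set_option autoImplicit false
set_option maxRecDepth 100000
set_option linter.style.haveILetI false

namespace CfsgLib.DFour.CensusModel

open CfsgLib.KnownB.O8Mult
open CfsgLib.DFour (Model)

/-! ### The involutions of the Sylow subgroup -/

/-- The representative of a table index. -/
def repOf (n : ℕ) : ℕ :=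
  if n < 12 then (rootReps.getD n (0, [])).1 else (freeReps.getD (n - 12) (0, [], 0, 0, 0)).1

/-- The table of involutions. -/
def invListOK : Bool :=
  invList.all fun e =>
    Nat.blt e.1 4096 && Nat.blt e.2.1 43 && Nat.blt e.2.2 4096 && Nat.blt (repOf e.2.1) 4096 &&
      Nat.beq (mm e.2.2 (repOf e.2.1)) (mm e.1 e.2.2) &&
      (rootMask.testBit e.1 == Nat.blt e.2.1 12)

theorem invList_ok : invListOK = true := by decide +kernel

/-- The codes of the table as a mask. -/
def invMask : ℕ := invList.foldl (fun m e => m ||| (1 <<< e.1)) 0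

theorem invMask_ok : ∀ c < 4096,
    (Nat.beq c 0 || !Nat.beq (mm c c) 0 || invMask.testBit c) = true ∧
    (!rootMask.testBit c || invMask.testBit c) = true := by decide +kernel

theorem foldl_mask (l : List (ℕ × ℕ × ℕ)) (m c : ℕ) :
    (l.foldl (fun m e => m ||| (1 <<< e.1)) m).testBit c = true →
      m.testBit c = true ∨ ∃ e ∈ l, e.1 = c := by
  induction l generalizing m with
  | nil => exact Or.inl
  | cons a l ih =>
    intro h
    rcases ih _ h with h | ⟨e, he, hec⟩
    · rw [Nat.testBit_or, Bool.or_eq_true, Nat.shiftLeft_eq, one_mul, Nat.testBit_two_pow,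
        decide_eq_true_eq] at h
      exact h.imp id fun e => ⟨a, by simp, e⟩
    · exact Or.inr ⟨e, by simp [he], hec⟩

theorem inv_entry {c : ℕ} (h : invMask.testBit c = true) :
    ∃ n < 43, ∃ s < 4096, repOf n < 4096 ∧ c < 4096 ∧ phi c = phi s * phi (repOf n) * (phi s)⁻¹ ∧
      (rootMask.testBit c = true ↔ n < 12) := by
  rcases foldl_mask invList 0 c h with h0 | ⟨e, he, rfl⟩
  · simp at h0
  · have h1 := List.all_eq_true.1 invList_ok e he
    simp only [Bool.and_eq_true, Nat.blt_eq, Nat.beq_eq, beq_iff_eq] at h1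
    obtain ⟨⟨⟨⟨⟨hc, hn⟩, hs⟩, hr⟩, hm⟩, hroot⟩ := h1
    refine ⟨_, hn, _, hs, hr, hc, ?_, by rw [hroot, Nat.blt_eq]⟩
    rw [eq_mul_inv_iff_mul_eq, phi_mul hc hs, phi_mul hs hr, hm]

/-- The root representatives. -/
def rootRepsOK : Bool :=
  Nat.beq rootReps.length 12 && rootReps.all fun e =>
    Nat.blt e.1 4096 && eqB (mulB (wdB e.2) (phiB e.1)) (mulB (phiB 1) (wdB e.2))

theorem rootReps_ok : rootRepsOK = true := by decide +kernel

/-- The other representatives. -/
def freeRepsOK : Bool :=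
  Nat.beq freeReps.length 31 && freeReps.all fun e =>
    Nat.blt e.1 4096 && Nat.blt e.2.2.1 4096 && Nat.blt e.2.2.2.1 4096 && Nat.blt e.2.2.2.2 4096 &&
      eqB (mulB (wdB e.2.1) (phiB e.1)) (mulB (phiB e.2.2.1) (wdB e.2.1)) &&
      (anisoB (phiB e.1) || wideB (phiB e.1)) &&
      uniB (phiB e.2.2.2.1) && uniB (phiB e.2.2.2.2) &&
      Nat.beq (mm e.2.2.1 e.2.2.2.1) (mm e.2.2.2.1 e.2.2.1) &&
      Nat.beq (mm e.2.2.1 e.2.2.2.2) (mm e.2.2.2.2 e.2.2.1) &&
      !Nat.beq (mm e.2.2.2.1 e.2.2.2.2) (mm e.2.2.2.2 e.2.2.2.1)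

theorem freeReps_ok : freeRepsOK = true := by decide +kernel

theorem z_class : (anisoB (phiB 1) || wideB (phiB 1)) = false := by decide +kernel

theorem cj_of_eqB {w : List (Fin 24)} {r i : ℕ} (hr : r < 4096) (hi : i < 4096)
    (h : eqB (mulB (wdB w) (phiB r)) (mulB (phiB i) (wdB w)) = true) :
    wd w * phi r * (wd w)⁻¹ = phi i := by
  rw [mul_inv_eq_iff_eq_mul]
  refine mt_inj ?_
  rw [mt_mul, mt_mul, (rep_wd w).1, (rep_phi hr).1, (rep_phi hi).1, ← decB_mul, ← decB_mul]
  exact eqB_iff.1 h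

theorem rootRep_conj {n : ℕ} (hn : n < 12) : IsConj zM (phi (repOf n)) := by
  have h := rootReps_ok
  simp only [rootRepsOK, Bool.and_eq_true, Nat.beq_eq, List.all_eq_true] at h
  obtain ⟨hlen, hall⟩ := h
  have h1 := hall (rootReps.getD n (0, [])) (by
    rw [List.getD_eq_getElem _ _ (by omega)]; exact List.getElem_mem _)
  simp only [Bool.and_eq_true, Nat.blt_eq] at h1
  rw [repOf, if_pos hn]
  exact (isConj_iff.2 ⟨_, cj_of_eqB h1.1 (by norm_num) h1.2⟩).symm

/-- The fusion witness of a representative. -/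
theorem freeRep_spec {n : ℕ} (h1 : 12 ≤ n) (h2 : n < 43) :
    ¬ IsConj zM (phi (repOf n)) ∧ ∃ m : Model,
      zM * (m * phi (repOf n) * m⁻¹) = m * phi (repOf n) * m⁻¹ * zM ∧
      ∃ u ∈ (Cfsg.pCore 2 ↥(Subgroup.centralizer ({zM} : Set Model))).map
          (Subgroup.centralizer ({zM} : Set Model)).subtype,
        ∃ v ∈ (Cfsg.pCore 2 ↥(Subgroup.centralizer ({zM} : Set Model))).map
          (Subgroup.centralizer ({zM} : Set Model)).subtype,
          m * phi (repOf n) * m⁻¹ * u = u * (m * phi (repOf n) * m⁻¹) ∧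
          m * phi (repOf n) * m⁻¹ * v = v * (m * phi (repOf n) * m⁻¹) ∧ u * v ≠ v * u := by
  have h := freeReps_ok
  simp only [freeRepsOK, Bool.and_eq_true, Nat.beq_eq, List.all_eq_true] at h
  obtain ⟨hlen, hall⟩ := h
  set e := freeReps.getD (n - 12) (0, [], 0, 0, 0) with he
  have hm : e ∈ freeReps := by
    rw [he, List.getD_eq_getElem _ _ (by omega)]; exact List.getElem_mem _
  have h' := hall e hm
  simp only [Bool.and_eq_true, Bool.not_eq_true', Nat.blt_eq, ← Bool.not_eq_true,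
    Nat.beq_eq] at h'
  obtain ⟨⟨⟨⟨⟨⟨⟨⟨⟨⟨hr, hi⟩, hu⟩, hv⟩, hcj⟩, hcls⟩, huU⟩, hvU⟩, hiu⟩, hiv⟩, huv⟩ := h'
  have hrep : repOf n = e.1 := by rw [repOf, if_neg (by omega)]
  rw [hrep]
  refine ⟨fun hc => ?_, wd e.2.1, ?_⟩
  · obtain ⟨g, hg⟩ := isConj_iff.1 hc.symm
    have hz := z_class
    rw [Bool.or_eq_false_iff, ← Bool.not_eq_true, ← Bool.not_eq_true,
      aniso_iff (rep_phi (by norm_num)), wide_iff (rep_phi (by norm_num))] at hz
    rw [Bool.or_eq_true, aniso_iff (rep_phi hr), wide_iff (rep_phi hr)] at hcls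
    rcases hcls with hc' | hc'
    · exact hz.1 (show Aniso zM from hg ▸ hc'.cj g)
    · exact hz.2 (show Wide zM from hg ▸ hc'.cj g)
  rw [cj_of_eqB hr hi hcj]
  have hcz : ∀ {c : ℕ}, c < 4096 → phi c ∈ Subgroup.centralizer ({zM} : Set Model) := fun hc =>
    Subgroup.mem_centralizer_singleton_iff.2 (zM_central _ (mem_phi hc)).symm
  exact ⟨zM_central _ (mem_phi hi), phi e.2.2.2.1,
    mem_core (hcz hu) (uni_of_uniB (rep_phi hu) huU), phi e.2.2.2.2,
    mem_core (hcz hv) (uni_of_uniB (rep_phi hv) hvU), (phi_comm_iff hi hu).2 hiu,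
    (phi_comm_iff hi hv).2 hiv, fun e' => huv ((phi_comm_iff hu hv).1 e')⟩

/-- A root code is a conjugate of the root. -/
theorem root_conj {c : ℕ} (hc : c < 4096) (h : rootMask.testBit c = true) :
    IsConj zM (phi c) := by
  have hin := (invMask_ok c hc).2
  rw [h] at hin
  obtain ⟨n, -, s, -, -, -, he, hroot⟩ := inv_entry (c := c) (by simpa using hin)
  rw [he]
  exact (rootRep_conj (hroot.1 h)).trans (isConj_iff.2 ⟨phi s, rfl⟩)

/-- The other codes are not. -/
theorem not_root_conj {c : ℕ} (hc : c < 4096) (h : rootMask.testBit c = false) :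
    ¬ IsConj zM (phi c) := by
  intro hconj
  obtain ⟨g, hg⟩ := isConj_iff.1 hconj
  have hsq : mm c c = 0 := phi_inj (mm_lt _ _) (by norm_num) (by
    rw [← phi_mul hc hc, phi_zero, ← hg,
      show g * zM * g⁻¹ * (g * zM * g⁻¹) = g * (zM * zM) * g⁻¹ by group, zM_sq, mul_one,
      mul_inv_cancel])
  by_cases h0 : c = 0
  · subst h0
    rw [phi_zero, conj_eq_one_iff] at hg
    have := order_zM
    rw [hg, orderOf_one] at this
    omega
  · have hin := (invMask_ok c hc).1
    simp only [hsq, Bool.or_eq_true, Bool.not_eq_true', Nat.beq_eq, ← Bool.not_eq_true] at hin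
    obtain ⟨n, hn, s, -, -, -, he, hroot⟩ :=
      inv_entry (c := c) ((hin.resolve_left fun e => e.elim h0 fun e => e trivial))
    have h12 : 12 ≤ n := by
      by_contra hlt
      rw [hroot.2 (by omega)] at h
      exact Bool.noConfusion h
    refine (freeRep_spec h12 hn).1 ?_
    rw [he] at hconj
    exact hconj.trans (isConj_iff.2 ⟨(phi s)⁻¹, by group⟩)

/-- The fusion field of the census facts. -/
theorem fusion : ∀ x : Model, x * x = 1 → x ≠ 1 → IsConj zM x ∨ ∃ m : Model,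
    zM * (m * x * m⁻¹) = m * x * m⁻¹ * zM ∧
    ∃ u ∈ (Cfsg.pCore 2 ↥(Subgroup.centralizer ({zM} : Set Model))).map
        (Subgroup.centralizer ({zM} : Set Model)).subtype,
      ∃ v ∈ (Cfsg.pCore 2 ↥(Subgroup.centralizer ({zM} : Set Model))).map
        (Subgroup.centralizer ({zM} : Set Model)).subtype,
        m * x * m⁻¹ * u = u * (m * x * m⁻¹) ∧ m * x * m⁻¹ * v = v * (m * x * m⁻¹) ∧
          u * v ≠ v * u := by
  intro x hx hx1
  haveI : Fact (Nat.Prime 2) := ⟨Nat.prime_two⟩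
  obtain ⟨h, hh⟩ := sylow_conj (Subgroup.zpowers x) (IsPGroup.of_card (n := 1) (by
    rw [Nat.card_zpowers, orderOf_eq_prime (by rw [pow_two, hx]) hx1]; rfl))
  obtain ⟨c, hc, hce⟩ := hh x (Subgroup.mem_zpowers x)
  have hsq : mm c c = 0 := phi_inj (mm_lt _ _) (by norm_num) (by
    rw [← phi_mul hc hc, phi_zero, hce,
      show h * x * h⁻¹ * (h * x * h⁻¹) = h * (x * x) * h⁻¹ by group, hx, mul_one, mul_inv_cancel])
  have hin := (invMask_ok c hc).1
  simp only [hsq, Bool.or_eq_true, Bool.not_eq_true', Nat.beq_eq, ← Bool.not_eq_true] at hin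
  have hc0 : c ≠ 0 := fun e => by
    rw [e, phi_zero, eq_comm, conj_eq_one_iff] at hce
    exact hx1 hce
  obtain ⟨n, hn, s, -, -, -, he, hroot⟩ :=
    inv_entry (c := c) ((hin.resolve_left fun e => e.elim hc0 fun e => e trivial))
  have hx' : x = (h⁻¹ * phi s) * phi (repOf n) * (h⁻¹ * phi s)⁻¹ := by
    calc x = h⁻¹ * (h * x * h⁻¹) * h := by group
      _ = h⁻¹ * (phi s * phi (repOf n) * (phi s)⁻¹) * h := by rw [← hce, he]
      _ = _ := by group
  rcases Nat.lt_or_ge n 12 with h12 | h12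
  · left
    rw [hx']
    exact (rootRep_conj h12).trans (isConj_iff.2 ⟨h⁻¹ * phi s, rfl⟩)
  · right
    obtain ⟨m, hm⟩ := (freeRep_spec h12 hn).2
    refine ⟨m * (h⁻¹ * phi s)⁻¹, ?_⟩
    rw [show m * (h⁻¹ * phi s)⁻¹ * x * (m * (h⁻¹ * phi s)⁻¹)⁻¹ = m * phi (repOf n) * m⁻¹ by
      rw [hx']; group]
    exact hm

end CfsgLib.DFour.CensusModel
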