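import Cfsg.Agent.Lib.DFour.CensusModelTreeDefs

/-!
The nodes of the census tree against their parents.
-/

set_option autoImplicit false
set_option maxRecDepth 100000
set_option Elab.async false

namespace CfsgLib.DFour.CensusModel

theorem root_ok : rootOK = true := by decide +kernel

theorem children_ok0 : childrenOK 0 4 = true := by decide +kernel
theorem children_ok1 : childrenOK 4 3 = true := by decide +kernel
theorem children_ok2 : childrenOK 7 3 = true := by decide +kernel
theorem children_ok3 : childrenOK 10 3 = true := by decide +kernel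
theorem children_ok4 : childrenOK 13 3 = true := by decide +kernel
theorem children_ok5 : childrenOK 16 3 = true := by decide +kernel
theorem children_ok6 : childrenOK 19 3 = true := by decide +kernel
theorem children_ok7 : childrenOK 22 3 = true := by decide +kernel
theorem children_ok8 : childrenOK 25 3 = true := by decide +kernel
theorem children_ok9 : childrenOK 28 3 = true := by decide +kernel
theorem children_ok10 : childrenOK 31 9 = true := by decide +kernel
theorem children_ok11 : childrenOK 40 12 = true := by decide +kernel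
theorem children_ok12 : childrenOK 52 32 = true := by decide +kernel
theorem children_ok13 : childrenOK 84 28 = true := by decide +kernel
theorem children_ok14 : childrenOK 112 23 = true := by decide +kernel
theorem children_ok15 : childrenOK 135 12 = true := by decide +kernel
theorem children_ok16 : childrenOK 147 11 = true := by decide +kernel
theorem children_ok17 : childrenOK 158 11 = true := by decide +kernel
theorem children_ok18 : childrenOK 169 11 = true := by decide +kernel
theorem children_ok19 : childrenOK 180 37 = true := by decide +kernel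
theorem children_ok20 : childrenOK 217 32 = true := by decide +kernel
theorem children_ok21 : childrenOK 249 61 = true := by decide +kernel
theorem children_ok22 : childrenOK 310 62 = true := by decide +kernel
theorem children_ok23 : childrenOK 372 59 = true := by decide +kernel
theorem children_ok24 : childrenOK 431 37 = true := by decide +kernel

/-- All chunks together. -/
theorem children_all {i : ℕ} (hi : i < 468) : ∃ a m, childrenOK a m = true ∧ i ∈ List.range' a m := by
  rcases Nat.lt_or_ge i 4 with h0 | h0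
  · exact ⟨0, 4, children_ok0, List.mem_range'_1.2 ⟨by omega, h0⟩⟩
  rcases Nat.lt_or_ge i 7 with h1 | h1
  · exact ⟨4, 3, children_ok1, List.mem_range'_1.2 ⟨by omega, h1⟩⟩
  rcases Nat.lt_or_ge i 10 with h2 | h2
  · exact ⟨7, 3, children_ok2, List.mem_range'_1.2 ⟨by omega, h2⟩⟩
  rcases Nat.lt_or_ge i 13 with h3 | h3
  · exact ⟨10, 3, children_ok3, List.mem_range'_1.2 ⟨by omega, h3⟩⟩
  rcases Nat.lt_or_ge i 16 with h4 | h4
  · exact ⟨13, 3, children_ok4, List.mem_range'_1.2 ⟨by omega, h4⟩⟩
  rcases Nat.lt_or_ge i 19 with h5 | h5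
  · exact ⟨16, 3, children_ok5, List.mem_range'_1.2 ⟨by omega, h5⟩⟩
  rcases Nat.lt_or_ge i 22 with h6 | h6
  · exact ⟨19, 3, children_ok6, List.mem_range'_1.2 ⟨by omega, h6⟩⟩
  rcases Nat.lt_or_ge i 25 with h7 | h7
  · exact ⟨22, 3, children_ok7, List.mem_range'_1.2 ⟨by omega, h7⟩⟩
  rcases Nat.lt_or_ge i 28 with h8 | h8
  · exact ⟨25, 3, children_ok8, List.mem_range'_1.2 ⟨by omega, h8⟩⟩
  rcases Nat.lt_or_ge i 31 with h9 | h9
  · exact ⟨28, 3, children_ok9, List.mem_range'_1.2 ⟨by omega, h9⟩⟩
  rcases Nat.lt_or_ge i 40 with h10 | h10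
  · exact ⟨31, 9, children_ok10, List.mem_range'_1.2 ⟨by omega, h10⟩⟩
  rcases Nat.lt_or_ge i 52 with h11 | h11
  · exact ⟨40, 12, children_ok11, List.mem_range'_1.2 ⟨by omega, h11⟩⟩
  rcases Nat.lt_or_ge i 84 with h12 | h12
  · exact ⟨52, 32, children_ok12, List.mem_range'_1.2 ⟨by omega, h12⟩⟩
  rcases Nat.lt_or_ge i 112 with h13 | h13
  · exact ⟨84, 28, children_ok13, List.mem_range'_1.2 ⟨by omega, h13⟩⟩
  rcases Nat.lt_or_ge i 135 with h14 | h14
  · exact ⟨112, 23, children_ok14, List.mem_range'_1.2 ⟨by omega, h14⟩⟩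
  rcases Nat.lt_or_ge i 147 with h15 | h15
  · exact ⟨135, 12, children_ok15, List.mem_range'_1.2 ⟨by omega, h15⟩⟩
  rcases Nat.lt_or_ge i 158 with h16 | h16
  · exact ⟨147, 11, children_ok16, List.mem_range'_1.2 ⟨by omega, h16⟩⟩
  rcases Nat.lt_or_ge i 169 with h17 | h17
  · exact ⟨158, 11, children_ok17, List.mem_range'_1.2 ⟨by omega, h17⟩⟩
  rcases Nat.lt_or_ge i 180 with h18 | h18
  · exact ⟨169, 11, children_ok18, List.mem_range'_1.2 ⟨by omega, h18⟩⟩
  rcases Nat.lt_or_ge i 217 with h19 | h19
  · exact ⟨180, 37, children_ok19, List.mem_range'_1.2 ⟨by omega, h19⟩⟩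
  rcases Nat.lt_or_ge i 249 with h20 | h20
  · exact ⟨217, 32, children_ok20, List.mem_range'_1.2 ⟨by omega, h20⟩⟩
  rcases Nat.lt_or_ge i 310 with h21 | h21
  · exact ⟨249, 61, children_ok21, List.mem_range'_1.2 ⟨by omega, h21⟩⟩
  rcases Nat.lt_or_ge i 372 with h22 | h22
  · exact ⟨310, 62, children_ok22, List.mem_range'_1.2 ⟨by omega, h22⟩⟩
  rcases Nat.lt_or_ge i 431 with h23 | h23
  · exact ⟨372, 59, children_ok23, List.mem_range'_1.2 ⟨by omega, h23⟩⟩
  exact ⟨431, 37, children_ok24, List.mem_range'_1.2 ⟨by omega, by omega⟩⟩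

end CfsgLib.DFour.CensusModel
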