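import Cfsg.Agent.Lib.DFour.CensusCrit
import Cfsg.Agent.Lib.DFour.CensusModelFusion
import Cfsg.Agent.Lib.DFour.CensusModelTreeCheck
import Cfsg.Agent.Lib.DFour.CensusModelCoverCheck

/-!
# The census tree as a family of subgroups of the model
-/

set_option autoImplicit false
set_option maxRecDepth 100000

namespace CfsgLib.DFour.CensusModel

open CfsgLib.DFour (Model)
open CfsgLib.DFour.Census

/-- The codes of a node are closed. -/
def closedOK (i : ℕ) : Bool :=
  let l := nEls (nodeAt i)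
  l.contains 0 && decide l.Nodup &&
    l.all fun a => l.contains (invc a) && l.all fun b => l.contains (mm a b)

/-- The first `n` nodes are closed. -/
def closedAllOK (n : ℕ) : Bool := (List.range n).all closedOK

theorem closed_ok : closedAllOK 468 = true := by decide +kernel

theorem unp_lt (w : ℕ) : ∀ n x, ∀ a ∈ unp w n x, a < 2 ^ w
  | 0, _, a, h => by simp [unp] at h
  | n + 1, x, a, h => by
    rcases List.mem_cons.1 h with rfl | h
    · exact Nat.mod_lt _ (by positivity)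
    · exact unp_lt w n _ a h

theorem nEls_lt {n : NodeT} {a : ℕ} (h : a ∈ nEls n) : a < 4096 := unp_lt 12 _ _ a h

theorem nCent_lt {n : NodeT} {a : ℕ} (h : a ∈ nCent n) : a < 4096 := unp_lt 12 _ _ a h

theorem testBit_maskOf (l : List ℕ) (c : ℕ) : (maskOf l).testBit c = true ↔ c ∈ l := by
  have h : ∀ (l : List ℕ) (m : ℕ), (l.foldl (fun m c => m ||| (1 <<< c)) m).testBit c = true ↔
      m.testBit c = true ∨ c ∈ l := by
    intro l
    induction l with
    | nil => simp
    | cons a l ih =>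
      intro m
      rw [List.foldl_cons, ih, Nat.testBit_or, Nat.shiftLeft_eq, one_mul, Bool.or_eq_true,
        Nat.testBit_two_pow, decide_eq_true_eq, List.mem_cons]
      tauto
  rw [maskOf, h]
  simp

/-- The codes of a node. -/
def els (i : Fin 468) : List ℕ := nEls (nodeAt i.1)

theorem closed_node (i : Fin 468) :
    0 ∈ els i ∧ (els i).Nodup ∧ ∀ a ∈ els i, invc a ∈ els i ∧ ∀ b ∈ els i, mm a b ∈ els i := by
  have h := List.all_eq_true.1 closed_ok i.1 (List.mem_range.2 i.2)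
  simp only [closedOK, Bool.and_eq_true, List.contains_iff_mem, decide_eq_true_eq,
    List.all_eq_true] at h
  exact ⟨h.1.1, h.1.2, h.2⟩

/-- The subgroup of a node. -/
def node (i : Fin 468) : Subgroup Model where
  carrier := {g | ∃ c ∈ els i, phi c = g}
  one_mem' := ⟨0, (closed_node i).1, phi_zero⟩
  mul_mem' := fun ⟨a, ha, e⟩ ⟨b, hb, f⟩ => ⟨mm a b, ((closed_node i).2.2 a ha).2 b hb, by
    rw [← e, ← f, phi_mul (nEls_lt ha) (nEls_lt hb)]⟩
  inv_mem' := fun ⟨a, ha, e⟩ => ⟨invc a, ((closed_node i).2.2 a ha).1, by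
    rw [← e, phi_inv (nEls_lt ha)]⟩

theorem mem_node {i : Fin 468} {g : Model} : g ∈ node i ↔ ∃ c ∈ els i, phi c = g := Iff.rfl

theorem phi_mem_node {i : Fin 468} {c : ℕ} (hc : c < 4096) : phi c ∈ node i ↔ c ∈ els i :=
  ⟨fun ⟨_, ha, e⟩ => phi_inj (nEls_lt ha) hc e ▸ ha, fun h => ⟨c, h, rfl⟩⟩

theorem node_le (i : Fin 468) : node i ≤ Syl := fun _ ⟨a, ha, e⟩ => ⟨a, nEls_lt ha, e⟩

theorem card_node (i : Fin 468) : Nat.card (node i) = (els i).length := by
  classical
  rw [← List.toFinset_card_of_nodup (closed_node i).2.1, ← Nat.card_eq_finsetCard]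
  refine (Nat.card_congr (Equiv.ofBijective (fun a : (els i).toFinset =>
    (⟨phi a.1, a.1, List.mem_toFinset.1 a.2, rfl⟩ : node i)) ⟨fun a b e => ?_, ?_⟩)).symm
  · exact Subtype.ext (phi_inj (nEls_lt (List.mem_toFinset.1 a.2))
      (nEls_lt (List.mem_toFinset.1 b.2)) (congrArg Subtype.val e :))
  · rintro ⟨_, c, hc, rfl⟩
    exact ⟨⟨c, List.mem_toFinset.2 hc⟩, rfl⟩

theorem children_ok (i : Fin 468) (hi : i.1 ≠ 0) : childOK i.1 (nodeAt i.1) = true := by
  obtain ⟨a, m, h, hm⟩ := children_all i.2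
  have h' := List.all_eq_true.1 h i.1 hm
  simp only [Bool.or_eq_true, beq_iff_eq] at h'
  exact h'.resolve_left hi

theorem cover_ok (i : Fin 468) : coverOK (nodeAt i.1) = true := by
  obtain ⟨a, m, h, hm⟩ := covers_all i.2
  exact List.all_eq_true.1 h i.1 hm

theorem els_zero : els ⟨0, by norm_num⟩ = [0] := by
  have h := root_ok
  simp only [rootOK, Bool.and_eq_true, beq_iff_eq] at h
  exact h.1.1.1

/-- No code of a node is a root. -/
theorem els_free (i : Fin 468) {a : ℕ} (ha : a ∈ els i) : rootMask.testBit a = false := by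
  by_cases hi : i.1 = 0
  · obtain rfl : i = ⟨0, by norm_num⟩ := Fin.ext hi
    rw [els_zero, List.mem_singleton] at ha
    have h := root_ok
    simp only [rootOK, Bool.and_eq_true, Bool.not_eq_true'] at h
    rw [ha]; exact h.1.2
  · have h := children_ok i hi
    simp only [childOK, Bool.and_eq_true, List.all_eq_true, Bool.not_eq_true'] at h
    exact h.2 a ha

/-- The listed centralizer is exact. -/
theorem cent_iff (i : Fin 468) : ∀ {c : ℕ}, c < 4096 →
    (c ∈ nCent (nodeAt i.1) ↔ ∀ g ∈ node i, phi c * g = g * phi c) := by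
  obtain ⟨i, hi⟩ := i
  induction i using Nat.strong_induction_on with
  | _ i ih =>
  intro c hc
  by_cases h0 : i = 0
  · subst h0
    have h := root_ok
    simp only [rootOK, Bool.and_eq_true, beq_iff_eq] at h
    simp only [h.1.1.2, List.mem_range, hc, true_iff]
    rintro _ ⟨a, ha, rfl⟩
    rw [els_zero, List.mem_singleton] at ha
    rw [ha, phi_zero, mul_one, one_mul]
  · have h := children_ok ⟨i, hi⟩ h0
    simp only [childOK, Bool.and_eq_true, Nat.blt_eq, beq_iff_eq, List.contains_iff_mem] at h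
    obtain ⟨⟨⟨⟨⟨⟨hlt, hk⟩, -⟩, -⟩, hels⟩, hcent⟩, -⟩ := h
    have hp : (nodeAt i).1 < 468 := hlt.trans hi
    have IH := @ih _ hlt hp c hc
    have hk4 : kOf (nodeAt i) < 4096 := nCent_lt hk
    have hmem : ∀ g, g ∈ node ⟨i, hi⟩ ↔ g ∈ node ⟨_, hp⟩ ∨
        ∃ h ∈ node ⟨_, hp⟩, g = phi (kOf (nodeAt i)) * h := by
      intro g
      simp only [mem_node, els, hels, List.mem_append, List.mem_map]
      constructor
      · rintro ⟨a, ha | ⟨b, hb, rfl⟩, rfl⟩
        · exact Or.inl ⟨a, ha, rfl⟩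
        · exact Or.inr ⟨_, ⟨b, hb, rfl⟩, (phi_mul hk4 (nEls_lt hb)).symm⟩
      · rintro (⟨a, ha, rfl⟩ | ⟨_, ⟨b, hb, rfl⟩, rfl⟩)
        · exact ⟨a, Or.inl ha, rfl⟩
        · exact ⟨_, Or.inr ⟨b, hb, rfl⟩, (phi_mul hk4 (nEls_lt hb)).symm⟩
    simp only [hcent, List.mem_filter, beq_iff_eq]
    rw [IH]
    constructor
    · rintro ⟨h1, h2⟩ g hg
      rcases (hmem g).1 hg with hg | ⟨h, hh, rfl⟩
      · exact h1 g hg
      · rw [← mul_assoc, phi_mul hc hk4, ← h2, ← phi_mul hk4 hc, mul_assoc, h1 h hh, mul_assoc]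
    · refine fun h => ⟨fun g hg => h g ((hmem g).2 (Or.inl hg)), ?_⟩
      have := h _ ((hmem _).2 (Or.inr ⟨1, one_mem _, (mul_one _).symm⟩))
      rw [phi_mul hc hk4, phi_mul hk4 hc] at this
      exact (phi_inj (mm_lt _ _) (mm_lt _ _) this).symm

/-- The listed elements outside the node with square inside are in listed cosets. -/
theorem cover (i : Fin 468) {c : ℕ} (hc : c ∈ nCent (nodeAt i.1)) (hn : c ∉ els i)
    (hs : mm c c ∈ els i) :
    ∃ e ∈ nEnt (nodeAt i.1), entOK (nodeAt i.1) e = true ∧ ∃ a ∈ els i, mm (eK e) a = c := by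
  have h := cover_ok i
  simp only [coverOK, Bool.and_eq_true, List.all_eq_true, Bool.or_eq_true, covMask,
    testBit_maskOf, List.mem_append, List.mem_flatMap, List.mem_map, Bool.not_eq_true',
    List.contains_eq_mem, decide_eq_false_iff_not] at h
  rcases h.2 c hc with (h1 | ⟨e, he, a, ha, rfl⟩) | h1
  · exact absurd h1 hn
  · exact ⟨e, he, h.1 e he, a, ha, rfl⟩
  · exact absurd hs h1

/-- The family is closed. -/
theorem nodeFam : NodeFam zM Syl node := by
  refine ⟨node_le, ⟨⟨0, by norm_num⟩, le_antisymm ?_ bot_le⟩, ?_⟩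
  · rintro _ ⟨a, ha, rfl⟩
    rw [els_zero, List.mem_singleton] at ha
    rw [ha, phi_zero]; exact Subgroup.mem_bot.2 rfl
  rintro i _ ⟨c, hc, rfl⟩ hk
  have hcc : c ∈ nCent (nodeAt i.1) := (cent_iff i hc).2 hk.comm
  have hn : c ∉ els i := fun h => hk.notMem ⟨c, h, rfl⟩
  have hs : mm c c ∈ els i := by
    rw [← phi_mem_node (mm_lt _ _), ← phi_mul hc hc]; exact hk.sq
  obtain ⟨e, -, he, a, ha, hea⟩ := cover i hcc hn hs
  simp only [entOK, Bool.and_eq_true, List.contains_iff_mem] at he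
  obtain ⟨⟨⟨hk0, -⟩, -⟩, he⟩ := he
  have hk4 : eK e < 4096 := nCent_lt hk0
  split at he
  · simp only [Bool.and_eq_true, List.contains_iff_mem] at he
    obtain ⟨hx, hr⟩ := he
    refine absurd (root_conj (mm_lt _ _) hr) ?_
    have h := hk.free ((phi a)⁻¹ * phi (eX e))
      (mul_mem (inv_mem ⟨a, ha, rfl⟩) ⟨_, hx, rfl⟩)
    rwa [← hea, ← phi_mul hk4 (nEls_lt ha), mul_assoc, mul_inv_cancel_left,
      phi_mul hk4 (nEls_lt hx)] at h
  · simp only [Bool.and_eq_true, Nat.blt_eq, beq_iff_eq, List.all_eq_true,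
      List.contains_iff_mem] at he
    obtain ⟨⟨hj, hlen⟩, hall⟩ := he
    have hx4 : eX e < 4096 := Nat.mod_lt _ (by norm_num)
    have key : ∀ b, b < 4096 → b ∈ els i ++ (els i).map (mm (eK e)) →
        phi (eX e) * phi b * (phi (eX e))⁻¹ ∈ node ⟨eJ e, hj⟩ := by
      intro b hb hmem
      rw [phi_mul hx4 hb, phi_inv hx4, phi_mul (mm_lt _ _) (show invc (eX e) < 4096 from mm_lt _ _)]
      exact ⟨_, hall b hmem, rfl⟩
    refine ⟨⟨eJ e, hj⟩, phi (eX e), ⟨_, hx4, rfl⟩, ?_, ?_, ?_⟩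
    · rintro _ ⟨b, hb, rfl⟩
      exact key b (nEls_lt hb) (List.mem_append_left _ hb)
    · exact key c hc (List.mem_append_right _ (List.mem_map.2 ⟨a, ha, hea⟩))
    · rw [card_node, card_node]
      exact hlen.le

/-- A node with a listed child has an extension. -/
theorem ext_of_child
    {i : Fin 468} {e : ℕ} (he : e ∈ nEnt (nodeAt i.1)) (ht : eT e ≠ 0) :
    ∃ k, Ext zM (node i) k := by
  have h := cover_ok i
  simp only [coverOK, Bool.and_eq_true, List.all_eq_true] at h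
  have he' := h.1 e he
  simp only [entOK, if_neg ht, Bool.and_eq_true, Bool.not_eq_true',
    List.contains_eq_mem, decide_eq_false_iff_not, decide_eq_true_eq, Nat.blt_eq, beq_iff_eq,
    List.all_eq_true] at he'
  obtain ⟨⟨⟨hk0, hnk⟩, hsq⟩, ⟨hj, -⟩, hall⟩ := he'
  have hk4 : eK e < 4096 := nCent_lt hk0
  have hx4 : eX e < 4096 := Nat.mod_lt _ (by norm_num)
  refine ⟨phi (eK e), fun h => hnk ((phi_mem_node hk4).1 h), (cent_iff i hk4).1 hk0,
    ⟨_, hsq, (phi_mul hk4 hk4).symm⟩, ?_⟩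
  rintro _ ⟨a, ha, rfl⟩
  rw [phi_mul hk4 (nEls_lt ha)]
  intro hc
  have hmem := hall _ (List.mem_append_right _ (List.mem_map.2 ⟨a, ha, rfl⟩))
  refine not_root_conj (mm_lt _ _) (els_free ⟨eJ e, hj⟩ hmem) (hc.trans (isConj_iff.2 ⟨phi (eX e), ?_⟩))
  rw [phi_mul hx4 (mm_lt _ _), phi_inv hx4, phi_mul (mm_lt _ _) (show invc (eX e) < 4096 from mm_lt _ _)]

end CfsgLib.DFour.CensusModel
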