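import Cfsg.Agent.Lib.DFour.CensusModelExcept
import Cfsg.Agent.Lib.DFour.CensusModelTree
import Cfsg.Agent.Lib.DFour.CensusModelBoundData

/-!
# The subgroups of odd order in the centralizers of the maximal nodes
-/

set_option autoImplicit false
set_option maxRecDepth 100000
set_option linter.style.haveILetI false

namespace CfsgLib.DFour.CensusModel

open CfsgLib.KnownB.O8Mult CfsgLib.DFour.Census
open CfsgLib.DFour (Model)

/-- The number of preimages with a property of a vector under a displacement. -/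
def preCount (a : MB) (P : ℕ → Bool) (v : ℕ) : ℕ :=
  ((Finset.range 256).filter fun w => dB a w = v ∧ P w = true).card

theorem preCount_fix {g d : Model} {a : MB} (hg : Rep g a) (hc : d * g = g * d) {P : ℕ → Bool}
    (hP : ∀ u < 256, P (ap d u) = P u) {v : ℕ} (hv : v < 256) :
    preCount a P (ap d v) = preCount a P v := by
  have e : ∀ w < 256, dsp g (ap d w) = ap d (dsp g w) := fun w hw => by
    have h := dsp_cj d g hw
    rwa [hc, mul_inv_cancel_right] at h
  refine (Finset.card_bij (fun w _ => ap d w) ?_ ?_ ?_).symm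
  · intro w hw
    simp only [Finset.mem_filter, Finset.mem_range, ← hg.dsp_eq] at hw ⊢
    exact ⟨ap_lt _ _, by rw [e w hw.1, hw.2.1], by rw [hP w hw.1, hw.2.2]⟩
  · intro u hu w hw h
    simp only [Finset.mem_filter, Finset.mem_range] at hu hw
    exact ap_inj d hu.1 hw.1 h
  · intro w hw
    simp only [Finset.mem_filter, Finset.mem_range, ← hg.dsp_eq] at hw ⊢
    have e' := e _ (ap_lt d⁻¹ w)
    rw [ap_ap_inv d hw.1, hw.2.1] at e'
    have h2 := hP _ (ap_lt d⁻¹ w)
    rw [ap_ap_inv d hw.1, hw.2.2] at h2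
    exact ⟨ap d⁻¹ w, ⟨ap_lt _ _, ap_inj d (dsp_lt g (ap_lt _ _)) hv e'.symm, h2.symm⟩,
      ap_ap_inv d hw.1⟩

/-- An invariant of the vectors under the centralizer. -/
def atomVal (x : ℕ × ℕ × ℕ) (w : ℕ) : ℕ :=
  if x.1 = 0 then (q8 w).toNat
  else if x.1 = 1 then (b8 w x.2.2).toNat
  else if x.1 = 2 then preCount (phiB x.2.1) q8 w
  else if x.1 = 3 then preCount (phiB x.2.1) (fun u => b8 u x.2.2) w
  else preCount (phiB x.2.1) (fun _ => true) w

/-- The invariant is legitimate. -/
def atomOK (el sp : List ℕ) (x : ℕ × ℕ × ℕ) : Bool :=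
  (Nat.blt x.1 2 || el.contains x.2.1) && (!(x.1 == 1 || x.1 == 3) || sp.contains x.2.2)

/-- The least vector of a coset. -/
def key (sp : List ℕ) (w : ℕ) : ℕ := (sp.map (w ^^^ ·)).foldl min w

/-- The possible images of a vector. -/
def images (F sp : List ℕ) (v : ℕ) (xs : List (ℕ × ℕ × ℕ)) : List ℕ :=
  F.filter fun w => !sp.contains w && xs.all fun x => atomVal x w == atomVal x v

/-- A chain of vectors bounding a group of odd order. -/
def chainOK (el F : List ℕ) : List ℕ → List (ℕ × ℕ × List (ℕ × ℕ × ℕ)) → Bool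
  | sp, [] => F.all sp.contains
  | sp, (v, b, xs) :: r =>
    Nat.blt v 256 && (el.all fun a => appB (phiB a) v == v) && !sp.contains v &&
      xs.all (atomOK el sp) && (b % 2 == 1) &&
      Nat.ble ((images F sp v xs).map (key sp)).dedup.length (b + 1) &&
      chainOK el F (sp ++ sp.map (v ^^^ ·)) r

/-- The product of the bounds of a chain. -/
def prodB (steps : List (ℕ × ℕ × List (ℕ × ℕ × ℕ))) : ℕ := (steps.map fun s => s.2.1).prod

/-- The counted elements inside the Sylow subgroup. -/
def counted (n : NodeT) : List ℕ :=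
  (nCent n).filter fun k => !(nEls n).contains k && (nEls n).contains (mm k k)

/-- A maximal node satisfies the bound. -/
def boundOK (e : ℕ × List ℕ × List (ℕ × ℕ × List (ℕ × ℕ × ℕ)) × List (Fin 24)) : Bool :=
  let n := nodeAt e.1
  let el := nEls n
  let L := counted n
  let g := wdB e.2.2.2
  ((List.range 256).all fun v =>
      e.2.1.contains v || el.any fun a => !(appB (phiB a) v == v)) &&
    chainOK el e.2.1 [0] e.2.2.1 && decide L.Nodup &&
    if e.2.2.2.isEmpty then Nat.blt (prodB e.2.2.1 * el.length) L.length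
    else Nat.blt (prodB e.2.2.1 * el.length) (L.length + 1) &&
      (el.all fun a => eqB (mulB g (phiB a)) (mulB (phiB a) g) && !eqB g (phiB a)) &&
      (el.any fun a => eqB (mulB g g) (phiB a)) && L.all fun a => !eqB g (phiB a)

theorem bounds_ok : boundW.all boundOK = true := by decide +kernel

/-- Every node has a child, or is bounded, or has order sixteen. -/
def splitOK : Bool :=
  (List.range 468).all fun i =>
    ((nEnt (nodeAt i)).any fun e => eT e != 0) || (nEls (nodeAt i)).length == 16 ||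
      boundW.any fun e => e.1 == i

theorem split_ok : splitOK = true := by decide +kernel

theorem foldl_min_mem : ∀ (l : List ℕ) (a : ℕ), l.foldl min a = a ∨ l.foldl min a ∈ l
  | [], a => Or.inl rfl
  | b :: l, a => by
    rcases foldl_min_mem l (min a b) with h | h
    · rw [List.foldl_cons, h]
      rcases min_choice a b with e | e <;> rw [e]
      · exact Or.inl rfl
      · exact Or.inr List.mem_cons_self
    · exact Or.inr (List.mem_cons_of_mem _ h)

theorem key_spec (sp : List ℕ) (w : ℕ) : key sp w = w ∨ ∃ s ∈ sp, key sp w = w ^^^ s := by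
  rcases foldl_min_mem (sp.map (w ^^^ ·)) w with h | h
  · exact Or.inl h
  · obtain ⟨s, hs, e⟩ := List.mem_map.1 h
    exact Or.inr ⟨s, hs, e.symm⟩

theorem atomVal_fix {i : Fin 468} {d : Model} (hc : ∀ g ∈ node i, d * g = g * d) {sp : List ℕ}
    (hsp : ∀ w ∈ sp, w < 256) (hfix : ∀ w ∈ sp, ap d w = w) {x : ℕ × ℕ × ℕ}
    (hx : atomOK (els i) sp x = true) {v : ℕ} (hv : v < 256) :
    atomVal x (ap d v) = atomVal x v := by
  simp only [atomOK, Bool.and_eq_true, Bool.or_eq_true, Nat.blt_eq, List.contains_iff_mem,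
    Bool.not_eq_true', Bool.or_eq_false_iff, beq_eq_false_iff_ne, ne_eq] at hx
  have hb : x.1 = 1 ∨ x.1 = 3 → x.2.2 ∈ sp := fun h =>
    hx.2.resolve_left (fun h' => h.elim h'.1 h'.2)
  have hcnt : ∀ P : ℕ → Bool, 2 ≤ x.1 → (∀ u < 256, P (ap d u) = P u) →
      preCount (phiB x.2.1) P (ap d v) = preCount (phiB x.2.1) P v := fun P h2 hP => by
    have ha := hx.1.resolve_left (by omega)
    exact preCount_fix (rep_phi (nEls_lt ha)) (hc _ ⟨_, ha, rfl⟩) hP hv
  have hb8 : x.1 = 1 ∨ x.1 = 3 → ∀ u < 256, b8 (ap d u) x.2.2 = b8 u x.2.2 := fun h u hu => by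
    have := b8_ap d hu (hsp _ (hb h))
    rwa [hfix _ (hb h)] at this
  simp only [atomVal]
  split_ifs with h0 h1 h2 h3
  · rw [q8_ap d hv]
  · rw [hb8 (Or.inl h1) v hv]
  · exact hcnt _ (by omega) fun u hu => q8_ap d hu
  · exact hcnt _ (by omega) (hb8 (Or.inr h3))
  · exact hcnt _ (by omega) fun _ _ => rfl

/-- A group of odd order fixing the vectors so far is bounded by the rest of the chain. -/
theorem chain_bound {i : Fin 468} (h2 : IsPGroup 2 (node i)) {F : List ℕ}
    (hF : ∀ u < 256, (∀ a ∈ els i, ap (phi a) u = u) → u ∈ F) :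
    ∀ (steps : List (ℕ × ℕ × List (ℕ × ℕ × ℕ))) (sp : List ℕ), chainOK (els i) F sp steps = true →
      (∀ w ∈ sp, w < 256) → ∀ K : Subgroup Model, (∀ d ∈ K, ∀ g ∈ node i, d * g = g * d) →
      Odd (Nat.card K) → (∀ d ∈ K, ∀ w ∈ sp, ap d w = w) → Nat.card K ≤ prodB steps := by
  intro steps
  induction steps with
  | nil =>
    intro sp h hsp K hc hodd hfix
    simp only [chainOK, List.all_eq_true, List.contains_iff_mem] at h
    letI := actV
    haveI : FaithfulSMul Model (I → ZMod 2) := ⟨fun {g h} e => mt_inj (Matrix.ext fun i j => by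
      have h' := congrFun (e (Pi.single j 1)) i
      change Matrix.mulVec (mt g) (Pi.single j 1) i = Matrix.mulVec (mt h) (Pi.single j 1) i at h'
      simpa [Matrix.mulVec_single_one] using h')⟩
    have hone : ∀ d ∈ K, d = 1 := fun d hd => by
      refine eq_one_of_fix (V := I → ZMod 2) (J := node i)
        (fun v => funext fun j => CharTwo.add_self_eq_zero (v j)) h2 ?_ (fun g hg => hc d hd g hg)
        fun v hv => ?_
      · exact hodd.of_dvd_nat (by
          rw [← Subgroup.orderOf_mk (a := d) hd]; exact orderOf_dvd_natCard _)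
      · have hv' : ∀ a ∈ els i, ap (phi a) (enc v) = enc v := fun a ha => by
          have e : Matrix.mulVec (mt (phi a)) v = v := hv _ ⟨a, ha, rfl⟩
          rw [ap, dv_enc, e]
        have e := congrArg dv (hfix d hd _ (h _ (hF _ (enc_lt v) hv')))
        rw [ap, dv_enc, dv_enc] at e
        exact e
    have : K = ⊥ := (Subgroup.eq_bot_iff_forall K).2 hone
    simp [this, prodB]
  | cons s r ih =>
    obtain ⟨v, b, xs⟩ := s
    intro sp h hsp K hc hodd hfix
    simp only [chainOK, Bool.and_eq_true, Nat.blt_eq, List.all_eq_true, Bool.not_eq_true',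
      beq_iff_eq, Nat.ble_eq, List.contains_eq_mem, decide_eq_false_iff_not] at h
    obtain ⟨⟨⟨⟨⟨⟨hv, hel⟩, hvs⟩, hat⟩, hb⟩, hlen⟩, hr⟩ := h
    let K₁ : Subgroup Model :=
      { carrier := {d | d ∈ K ∧ ap d v = v}
        one_mem' := ⟨one_mem K, ap_one hv⟩
        mul_mem' := fun {a c} ha hc => ⟨mul_mem ha.1 hc.1, by rw [ap_mul, hc.2, ha.2]⟩
        inv_mem' := fun {a} ha => ⟨inv_mem ha.1, by
          conv_lhs => rw [← ha.2]
          exact ap_inv_ap a hv⟩ }
    have hK₁ : K₁ ≤ K := fun d hd => hd.1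
    -- the images are among the listed ones
    have himg : ∀ d ∈ K, ap d v ∈ images F sp v xs := by
      intro d hd
      simp only [images, List.mem_filter, Bool.and_eq_true, Bool.not_eq_true', List.contains_eq_mem,
        decide_eq_false_iff_not, List.all_eq_true, beq_iff_eq]
      refine ⟨hF _ (ap_lt _ _) fun a ha => ?_, fun hm => hvs ?_, fun x hx =>
        atomVal_fix (hc d hd) hsp (hfix d hd) (hat x hx) hv⟩
      · rw [← ap_mul, ← hc d hd _ ⟨a, ha, rfl⟩, ap_mul, (rep_phi (nEls_lt ha)).ap_eq, hel a ha]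
      · rwa [ap_inj d hv (ap_lt _ _) (hfix d hd _ hm).symm]
    -- equal cosets give equal images
    have hkey : ∀ d ∈ K, ∀ e ∈ K, key sp (ap d v) = key sp (ap e v) → ap d v = ap e v := by
      intro d hd e he hk
      have hf : e⁻¹ * d ∈ K := mul_mem (inv_mem he) hd
      set f := e⁻¹ * d with hfdef
      obtain ⟨t, ht, hts, hte⟩ : ∃ t, t < 256 ∧ (∀ g ∈ K, ap g t = t) ∧ ap d v = ap e v ^^^ t := by
        have hx : ∀ u, key sp u = u ^^^ 0 ∨ ∃ s ∈ sp, key sp u = u ^^^ s := fun u =>
          (key_spec sp u).imp (fun h => by rw [h, Nat.xor_zero]) id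
        have hfix0 : ∀ s, s = 0 ∨ s ∈ sp → s < 256 ∧ ∀ g ∈ K, ap g s = s := fun s hs =>
          hs.elim (fun h => by subst h; exact ⟨by norm_num, fun g _ => ap_zero g⟩)
            fun h => ⟨hsp s h, fun g hg => hfix g hg s h⟩
        obtain ⟨s, hs, es⟩ : ∃ s, (s = 0 ∨ s ∈ sp) ∧ key sp (ap d v) = ap d v ^^^ s :=
          (hx _).elim (fun h => ⟨0, Or.inl rfl, h⟩) fun ⟨s, h1, h2⟩ => ⟨s, Or.inr h1, h2⟩
        obtain ⟨s', hs', es'⟩ : ∃ s, (s = 0 ∨ s ∈ sp) ∧ key sp (ap e v) = ap e v ^^^ s :=
          (hx _).elim (fun h => ⟨0, Or.inl rfl, h⟩) fun ⟨s, h1, h2⟩ => ⟨s, Or.inr h1, h2⟩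
        refine ⟨s' ^^^ s, xor_lt (hfix0 _ hs').1 (hfix0 _ hs).1, fun g hg => by
          rw [ap_xor, (hfix0 _ hs').2 g hg, (hfix0 _ hs).2 g hg], ?_⟩
        calc ap d v = (ap d v ^^^ s) ^^^ s := by rw [Nat.xor_assoc, Nat.xor_self, Nat.xor_zero]
          _ = (ap e v ^^^ s') ^^^ s := by rw [← es, hk, es']
          _ = _ := Nat.xor_assoc _ _ _
      have h1 : ap f v = v ^^^ t := by
        rw [hfdef, ap_mul, hte, ap_xor, ap_inv_ap e hv, hts _ (inv_mem he)]
      have h2' : ap (f * f) v = v := by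
        rw [ap_mul, h1, ap_xor, h1, hts f hf, Nat.xor_assoc, Nat.xor_self, Nat.xor_zero]
      have hpow : ∀ n, ap ((f * f) ^ n) v = v := by
        intro n
        induction n with
        | zero => rw [pow_zero, ap_one hv]
        | succ n ih => rw [pow_succ, ap_mul, h2', ih]
      obtain ⟨k, hk'⟩ : Odd (orderOf f) := hodd.of_dvd_nat (by
        rw [← Subgroup.orderOf_mk (a := f) hf]; exact orderOf_dvd_natCard _)
      have hff : (f * f) ^ (k + 1) = f := by
        rw [← pow_two, ← pow_mul, show 2 * (k + 1) = orderOf f + 1 by omega, pow_succ,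
          pow_orderOf_eq_one, one_mul]
      have h3 := hpow (k + 1)
      rw [hff, hfdef, ap_mul] at h3
      conv_rhs => rw [← h3]
      rw [ap_ap_inv e (ap_lt _ _)]
    have hidx : (K₁.subgroupOf K).index ≤ b := by
      have hinj : Nat.card (K ⧸ K₁.subgroupOf K) ≤
          ((images F sp v xs).map (key sp)).toFinset.card := by
        rw [← Nat.card_eq_finsetCard]
        refine Nat.card_le_card_of_injective (fun q : K ⧸ K₁.subgroupOf K =>
          (⟨key sp (ap (Quotient.out q : K) v), List.mem_toFinset.2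
            (List.mem_map.2 ⟨_, himg _ (Quotient.out q).2, rfl⟩)⟩ :
              ((images F sp v xs).map (key sp)).toFinset)) fun q q' e => ?_
        have e' := hkey _ (Quotient.out q).2 _ (Quotient.out q').2 (congrArg Subtype.val e :)
        rw [← QuotientGroup.out_eq' q, ← QuotientGroup.out_eq' q', QuotientGroup.eq,
          Subgroup.mem_subgroupOf]
        refine ⟨mul_mem (inv_mem (Quotient.out q).2) (Quotient.out q').2, ?_⟩
        rw [Subgroup.coe_mul, Subgroup.coe_inv, ap_mul, ← e', ap_inv_ap _ hv]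
      have hodd' : Odd (K₁.subgroupOf K).index := hodd.of_dvd_nat (Subgroup.index_dvd_card _)
      rw [List.card_toFinset] at hinj
      rw [← Subgroup.index_eq_card] at hinj
      obtain ⟨k, hk⟩ := hodd'
      omega
    have hrec := ih _ hr (fun w hw => by
        rcases List.mem_append.1 hw with h | h
        · exact hsp w h
        · obtain ⟨s, hs, rfl⟩ := List.mem_map.1 h
          exact xor_lt hv (hsp s hs)) K₁ (fun d hd => hc d hd.1)
      (hodd.of_dvd_nat (Subgroup.card_dvd_of_le hK₁)) (fun d hd w hw => by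
        rcases List.mem_append.1 hw with h | h
        · exact hfix d hd.1 w h
        · obtain ⟨s, hs, rfl⟩ := List.mem_map.1 h
          rw [ap_xor, hd.2, hfix d hd.1 s hs])
    have hcard := (K₁.subgroupOf K).card_mul_index
    rw [Nat.card_congr (Subgroup.subgroupOfEquivOfLe hK₁).toEquiv] at hcard
    rw [← hcard, show prodB ((v, b, xs) :: r) = b * prodB r by simp [prodB], mul_comm b]
    exact Nat.mul_le_mul hrec hidx

/-- A listed maximal node satisfies the bound. -/
theorem bound_node {i : Fin 468} (h2 : IsPGroup 2 (node i))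
    {e : ℕ × List ℕ × List (ℕ × ℕ × List (ℕ × ℕ × ℕ)) × List (Fin 24)} (he : e ∈ boundW)
    (hi : e.1 = i.1) : OddBound (node i) := by
  classical
  have h := List.all_eq_true.1 bounds_ok e he
  simp only [boundOK, hi, Bool.and_eq_true, List.all_eq_true, List.mem_range, Bool.or_eq_true,
    List.any_eq_true, Bool.not_eq_true', beq_eq_false_iff_ne, ne_eq, List.contains_iff_mem,
    decide_eq_true_eq] at h
  obtain ⟨⟨⟨hF, hchain⟩, hnd⟩, hcnt⟩ := h
  intro K hK hodd
  have hc : ∀ d ∈ K, ∀ g ∈ node i, d * g = g * d := fun d hd g hg =>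
    (Subgroup.mem_centralizer_iff.1 (hK hd) g hg).symm
  have hle := chain_bound h2 (F := e.2.1) (fun u hu hfx => by
      rcases hF u hu with h | ⟨a, ha, hne⟩
      · exact h
      · exact absurd ((rep_phi (nEls_lt ha)).ap_eq u ▸ hfx a ha) hne)
    e.2.2.1 [0] hchain (by simp) K hc hodd (by simp [ap_zero])
  rw [card_node]
  refine lt_of_le_of_lt (Nat.mul_le_mul_right _ hle) ?_
  set T := {x : Model // x ∈ Subgroup.centralizer (node i : Set Model) ∧ x ∉ node i ∧
    x * x ∈ node i}
  have hsub : ∀ L : List Model, L.Nodup → (∀ x ∈ L, x ∈ Subgroup.centralizer (node i : Set Model) ∧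
      x ∉ node i ∧ x * x ∈ node i) → L.length ≤ Nat.card T := fun L hL hx => by
    rw [← List.toFinset_card_of_nodup hL, ← Nat.card_eq_finsetCard]
    exact Nat.card_le_card_of_injective
      (fun a : L.toFinset => (⟨a.1, hx a.1 (List.mem_toFinset.1 a.2)⟩ : T))
      fun a c h => Subtype.ext (congrArg Subtype.val h :)
  have hLlt : ∀ k ∈ counted (nodeAt i.1), k < 4096 := fun k hk =>
    nCent_lt (List.mem_of_mem_filter hk)
  have hLok : ∀ x ∈ (counted (nodeAt i.1)).map phi,
      x ∈ Subgroup.centralizer (node i : Set Model) ∧ x ∉ node i ∧ x * x ∈ node i := by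
    intro x hx
    obtain ⟨k, hk, rfl⟩ := List.mem_map.1 hx
    have hk4 := hLlt k hk
    simp only [counted, List.mem_filter, Bool.and_eq_true, Bool.not_eq_true', List.contains_eq_mem,
      decide_eq_false_iff_not, decide_eq_true_eq] at hk
    exact ⟨Subgroup.mem_centralizer_iff.2 fun g hg => ((cent_iff i hk4).1 hk.1 g hg).symm,
      fun h => hk.2.1 ((phi_mem_node hk4).1 h), _, hk.2.2, (phi_mul hk4 hk4).symm⟩
  have hLnd : ((counted (nodeAt i.1)).map phi).Nodup :=
    hnd.map_on fun a ha c hc e => phi_inj (hLlt a ha) (hLlt c hc) e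
  split at hcnt
  · simp only [Nat.blt_eq] at hcnt
    refine lt_of_lt_of_le hcnt ?_
    simpa using hsub _ hLnd hLok
  · simp only [Bool.and_eq_true, Nat.blt_eq, List.all_eq_true, List.any_eq_true,
      Bool.not_eq_true'] at hcnt
    obtain ⟨⟨⟨hlt, hcom⟩, ⟨a, ha, hsq⟩⟩, hne⟩ := hcnt
    have hg := rep_wd e.2.2.2
    have hne' : ∀ k < 4096, eqB (wdB e.2.2.2) (phiB k) = false → phi k ≠ wd e.2.2.2 := by
      intro k hk hf h
      have := eqB_iff.2 (show decB (wdB e.2.2.2) = decB (phiB k) by
        rw [← hg.1, ← (rep_phi hk).1, h])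
      rw [hf] at this
      exact Bool.noConfusion this
    refine lt_of_lt_of_le hlt ?_
    have := hsub (wd e.2.2.2 :: (counted (nodeAt i.1)).map phi) (List.nodup_cons.2 ⟨fun h => ?_, hLnd⟩)
      (fun x hx => ?_)
    · simpa using this
    · obtain ⟨k, hk, e'⟩ := List.mem_map.1 h
      exact hne' k (hLlt k hk) (hne k hk) e'
    · rcases List.mem_cons.1 hx with rfl | hx
      · refine ⟨Subgroup.mem_centralizer_iff.2 ?_, fun h => ?_, a, ha, ?_⟩
        · rintro _ ⟨c, hc', rfl⟩
          refine mt_inj ?_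
          rw [((rep_phi (nEls_lt hc')).mul hg).1, (hg.mul (rep_phi (nEls_lt hc'))).1]
          exact (eqB_iff.1 (hcom c hc').1).symm
        · obtain ⟨k, hk, e'⟩ := h
          exact hne' k (nEls_lt hk) (hcom k hk).2 e'
        · refine mt_inj ?_
          rw [(hg.mul hg).1, (rep_phi (nEls_lt ha)).1, eqB_iff.1 hsq]
      · exact hLok x hx

/-- A node not of order sixteen has an extension or satisfies the bound. -/
theorem node_split (i : Fin 468) (h16 : Nat.card (node i) ≠ 16) (hC : Clean zM (node i)) :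
    (∃ k, Ext zM (node i) k) ∨ OddBound (node i) := by
  have h := List.all_eq_true.1 split_ok i.1 (List.mem_range.2 i.2)
  simp only [Bool.or_eq_true, List.any_eq_true, bne_iff_ne, ne_eq, beq_iff_eq] at h
  rcases h with (⟨e, he, ht⟩ | h) | ⟨e, he, hi⟩
  · exact Or.inl (ext_of_child he ht)
  · exact absurd (by rw [card_node]; exact h) h16
  · exact Or.inr (bound_node hC.two he hi)

end CfsgLib.DFour.CensusModel
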