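import Cfsg.Agent.Lib.DFour.CensusModelCode
import Cfsg.Agent.Lib.KnownB.O8Mult.Main
import Cfsg.Agent.Lib.Base.Cores

/-!
The Sylow subgroup, its centre, the class invariants and unipotent core elements.
-/

set_option autoImplicit false
set_option maxRecDepth 100000
set_option linter.style.haveILetI false

namespace CfsgLib.DFour.CensusModel

open CfsgLib.KnownB.O8Mult
open CfsgLib.DFour (Model)

/-- The central root involution. -/
noncomputable def zM : Model := phi 1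

theorem card_model : Nat.card Model = 174182400 := CfsgLib.KnownB.O8Mult.natCard_om

instance : Finite Model := Nat.finite_of_card_ne_zero (by rw [card_model]; norm_num)

theorem card_Syl : Nat.card Syl = 4096 := by
  let f : Fin 4096 → Syl := fun c => ⟨phi c, c, c.2, rfl⟩
  have hf : Function.Bijective f :=
    ⟨fun a b e => Fin.ext (phi_inj a.2 b.2 (congrArg Subtype.val e)), fun g => by
      obtain ⟨c, hc, e⟩ := g.2
      exact ⟨⟨c, hc⟩, Subtype.ext e⟩⟩
  rw [← Nat.card_eq_of_bijective f hf, Nat.card_fin]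

theorem sylow_conj (J : Subgroup Model) (hJ : IsPGroup 2 J) :
    ∃ h : Model, ∀ a ∈ J, h * a * h⁻¹ ∈ Syl := by
  haveI : Fact (Nat.Prime 2) := ⟨Nat.prime_two⟩
  have hSp : IsPGroup 2 Syl := IsPGroup.of_card (n := 12) (by rw [card_Syl]; norm_num)
  obtain ⟨P, hP⟩ := hJ.exists_le_sylow
  obtain ⟨P₀, hP₀⟩ := hSp.exists_le_sylow
  have h₀ : (P₀ : Subgroup Model) = Syl := by
    refine (Subgroup.eq_of_le_of_card_ge hP₀ ?_).symm
    obtain ⟨k, hk⟩ := IsPGroup.iff_card.1 P₀.isPGroup'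
    have hd := Subgroup.card_subgroup_dvd_card (P₀ : Subgroup Model)
    rw [hk, card_model] at hd
    have hk' : k ≤ 12 := by
      by_contra hlt
      have := (pow_dvd_pow 2 (show 13 ≤ k by omega)).trans hd
      norm_num at this
    rw [hk, card_Syl]
    calc 2 ^ k ≤ 2 ^ 12 := Nat.pow_le_pow_right (by norm_num) hk'
      _ = 4096 := by norm_num
  obtain ⟨h, hh⟩ := MulAction.exists_smul_eq Model P P₀
  refine ⟨h, fun a ha => ?_⟩
  rw [← h₀, ← hh]
  exact ⟨a, hP ha, rfl⟩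

theorem phi_comm_iff {c d : ℕ} (hc : c < 4096) (hd : d < 4096) :
    phi c * phi d = phi d * phi c ↔ mm c d = mm d c := by
  rw [phi_mul hc hd, phi_mul hd hc]
  exact ⟨phi_inj (mm_lt _ _) (mm_lt _ _), fun e => by rw [e]⟩

theorem mem_phi {c : ℕ} (hc : c < 4096) : phi c ∈ Syl := ⟨c, hc, rfl⟩

theorem zM_mem : zM ∈ Syl := mem_phi (by norm_num)

theorem central_ok : ∀ c < 4096, mm 1 c = mm c 1 := by decide +kernel

theorem zM_central : ∀ a ∈ Syl, zM * a = a * zM := by
  rintro _ ⟨c, hc, rfl⟩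
  exact (phi_comm_iff (by norm_num) hc).2 (central_ok c hc)

theorem center_ok : ∀ c < 4096,
    ((List.range 12).all fun k => Nat.beq (mm c (1 <<< k)) (mm (1 <<< k) c)) = true →
      c = 0 ∨ c = 1 := by decide +kernel

theorem center_Syl : ∀ a ∈ Syl, (∀ b ∈ Syl, a * b = b * a) → a = 1 ∨ a = zM := by
  rintro _ ⟨c, hc, rfl⟩ hcomm
  have h := center_ok c hc (List.all_eq_true.2 fun k hk => by
    rw [Nat.beq_eq]
    have hk' : 1 <<< k < 4096 := by
      rw [Nat.shiftLeft_eq, one_mul]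
      calc 2 ^ k < 2 ^ 12 := Nat.pow_lt_pow_right (by norm_num) (List.mem_range.1 hk)
        _ = 4096 := by norm_num
    exact (phi_comm_iff hc hk').1 (hcomm _ (mem_phi hk')))
  rcases h with rfl | rfl
  · exact Or.inl phi_zero
  · exact Or.inr rfl

theorem order_zM : orderOf zM = 2 := by
  refine orderOf_eq_prime ?_ fun e => ?_
  · rw [pow_two, zM, phi_mul (by norm_num) (by norm_num),
      show mm 1 1 = 0 by decide +kernel, phi_zero]
  · exact absurd (phi_inj (by norm_num) (by norm_num) (e.trans phi_zero.symm))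
      (by norm_num)

theorem zM_sq : zM * zM = 1 := by
  rw [zM, phi_mul (by norm_num) (by norm_num), show mm 1 1 = 0 by decide +kernel, phi_zero]

/-! ### Class invariants -/

/-- The displacement of a vector. -/
noncomputable def dsp (g : Model) (v : ℕ) : ℕ := ap g v ^^^ v

theorem dsp_lt (g : Model) {v : ℕ} (hv : v < 256) : dsp g v < 256 := xor_lt (ap_lt g v) hv

theorem xor_four (a b c d : ℕ) : (a ^^^ b) ^^^ (c ^^^ d) = (a ^^^ c) ^^^ (b ^^^ d) := by
  rw [Nat.xor_assoc, ← Nat.xor_assoc b, Nat.xor_comm b c, Nat.xor_assoc c, ← Nat.xor_assoc]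

theorem dsp_xor (g : Model) (u v : ℕ) : dsp g (u ^^^ v) = dsp g u ^^^ dsp g v :=
  (congrArg (fun e => e ^^^ (u ^^^ v)) (ap_xor g u v)).trans (xor_four _ _ _ _)

theorem xor_cancel (x y : ℕ) : x ^^^ (x ^^^ y) = y := by rw [← Nat.xor_assoc, Nat.xor_self, Nat.zero_xor]

theorem dsp_cj (h g : Model) {v : ℕ} (hv : v < 256) :
    dsp (h * g * h⁻¹) (ap h v) = ap h (dsp g v) := by
  rw [dsp, dsp, ap_mul, ap_mul, ap_inv_ap h hv, ap_xor]

/-- Three displacements are independent. -/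
def Wide (g : Model) : Prop :=
  ∃ u < 256, ∃ v < 256, ∃ w < 256, dsp g u ≠ 0 ∧ dsp g v ≠ 0 ∧ dsp g w ≠ 0 ∧
    dsp g u ≠ dsp g v ∧ dsp g u ≠ dsp g w ∧ dsp g v ≠ dsp g w ∧
    dsp g u ^^^ dsp g v ≠ dsp g w

/-- Some displacement is nonsingular. -/
def Aniso (g : Model) : Prop := ∃ v < 256, q8 (dsp g v) = true

/-- The class `2E` among involutions. -/
def IsE (g : Model) : Prop := Wide g ∧ Aniso g

theorem Wide.cj {g : Model} (hg : Wide g) (h : Model) : Wide (h * g * h⁻¹) := by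
  obtain ⟨u, hu, v, hv, w, hw, h1, h2, h3, h4, h5, h6, h7⟩ := hg
  refine ⟨_, ap_lt h u, _, ap_lt h v, _, ap_lt h w, ?_⟩
  rw [dsp_cj h g hu, dsp_cj h g hv, dsp_cj h g hw, ← ap_xor]
  have hne : ∀ {a b : ℕ}, a < 256 → b < 256 → a ≠ b → ap h a ≠ ap h b :=
    fun ha hb hab e => hab (ap_inj h ha hb e)
  have hz : ∀ {a : ℕ}, a < 256 → a ≠ 0 → ap h a ≠ 0 := fun ha hab e =>
    hab (ap_inj h ha (by norm_num) (e.trans (ap_zero h).symm))
  exact ⟨hz (dsp_lt g hu) h1, hz (dsp_lt g hv) h2, hz (dsp_lt g hw) h3,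
    hne (dsp_lt g hu) (dsp_lt g hv) h4, hne (dsp_lt g hu) (dsp_lt g hw) h5,
    hne (dsp_lt g hv) (dsp_lt g hw) h6,
    hne (xor_lt (dsp_lt g hu) (dsp_lt g hv)) (dsp_lt g hw) h7⟩

theorem Aniso.cj {g : Model} (hg : Aniso g) (h : Model) : Aniso (h * g * h⁻¹) := by
  obtain ⟨v, hv, hq⟩ := hg
  exact ⟨_, ap_lt h v, by rw [dsp_cj h g hv, q8_ap h (dsp_lt g hv), hq]⟩

theorem isE_cj (h g : Model) : IsE (h * g * h⁻¹) ↔ IsE g := by
  refine ⟨fun e => ?_, fun e => ⟨e.1.cj h, e.2.cj h⟩⟩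
  have e' : IsE (h⁻¹ * (h * g * h⁻¹) * h⁻¹⁻¹) := ⟨e.1.cj _, e.2.cj _⟩
  rwa [show h⁻¹ * (h * g * h⁻¹) * h⁻¹⁻¹ = g by group] at e'

/-- The displacement in the code. -/
def dB (a : MB) (v : ℕ) : ℕ := appB a v ^^^ v

/-- Some displacement is nonsingular, on codes. -/
def anisoB (a : MB) : Bool := (List.range 256).any fun v => q8 (dB a v)

/-- Three displacements are independent, on codes. -/
def wideB (a : MB) : Bool :=
  match (List.range 256).find? (fun u => !Nat.beq (dB a u) 0) with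
  | none => false
  | some u =>
    let x := dB a u
    match (List.range 256).find? (fun v => !Nat.beq (dB a v) 0 && !Nat.beq (dB a v) x) with
    | none => false
    | some v =>
      let y := dB a v
      (List.range 256).any fun w =>
        !Nat.beq (dB a w) 0 && !Nat.beq (dB a w) x && !Nat.beq (dB a w) y &&
          !Nat.beq (dB a w) (x ^^^ y)

theorem Rep.dsp_eq {g : Model} {a : MB} (h : Rep g a) (v : ℕ) : dsp g v = dB a v := by
  rw [dsp, dB, h.ap_eq]

theorem aniso_iff {g : Model} {a : MB} (h : Rep g a) : anisoB a = true ↔ Aniso g := by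
  simp [anisoB, Aniso, h.dsp_eq]

theorem span_dependent {x y a b c : ℕ} (ha : a = 0 ∨ a = x ∨ a = y ∨ a = x ^^^ y)
    (hb : b = 0 ∨ b = x ∨ b = y ∨ b = x ^^^ y) (hc : c = 0 ∨ c = x ∨ c = y ∨ c = x ^^^ y) :
    a = 0 ∨ b = 0 ∨ c = 0 ∨ a = b ∨ a = c ∨ b = c ∨ a ^^^ b = c := by
  have e1 : x ^^^ (x ^^^ y) = y := xor_cancel x y
  have e2 : (x ^^^ y) ^^^ x = y := by rw [Nat.xor_comm, e1]
  have e3 : y ^^^ (x ^^^ y) = x := by rw [Nat.xor_comm x y, xor_cancel]
  have e4 : (x ^^^ y) ^^^ y = x := by rw [Nat.xor_comm, e3]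
  have e5 : y ^^^ x = x ^^^ y := Nat.xor_comm _ _
  rcases ha with rfl | rfl | rfl | rfl <;> rcases hb with rfl | rfl | rfl | rfl <;>
    rcases hc with rfl | rfl | rfl | rfl <;> simp [e1, e2, e3, e4, e5]

theorem wide_iff {g : Model} {a : MB} (h : Rep g a) : wideB a = true ↔ Wide g := by
  have notWide : ∀ x y : ℕ, (∀ v < 256, dB a v = 0 ∨ dB a v = x ∨ dB a v = y ∨
      dB a v = x ^^^ y) → ¬ Wide g := by
    rintro x y hall ⟨u, hu, v, hv, w, hw, h1, h2, h3, h4, h5, h6, h7⟩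
    simp only [h.dsp_eq] at h1 h2 h3 h4 h5 h6 h7
    rcases span_dependent (hall u hu) (hall v hv) (hall w hw) with
      e | e | e | e | e | e | e <;> contradiction
  unfold wideB
  split
  next hnone =>
    refine iff_of_false (by simp) (notWide 0 0 fun v hv => Or.inl ?_)
    have := List.find?_eq_none.1 hnone v (List.mem_range.2 hv)
    simpa using this
  next u hu =>
    have hu1 := List.find?_some hu
    have hu2 := List.mem_range.1 (List.mem_of_find?_eq_some hu)
    simp only [Bool.not_eq_true', ← Bool.not_eq_true, Nat.beq_eq] at hu1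
    simp only []
    split
    next hnone =>
      refine iff_of_false (by simp) (notWide (dB a u) 0 fun v hv => ?_)
      have h' := List.find?_eq_none.1 hnone v (List.mem_range.2 hv)
      simp only [Bool.and_eq_true, Bool.not_eq_true', ← Bool.not_eq_true, Nat.beq_eq] at h'
      by_cases e : dB a v = 0
      · exact Or.inl e
      · exact Or.inr (Or.inl (not_not.1 fun e' => h' ⟨e, e'⟩))
    next v hv =>
      have hv1 := List.find?_some hv
      have hv2 := List.mem_range.1 (List.mem_of_find?_eq_some hv)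
      simp only [Bool.and_eq_true, Bool.not_eq_true', ← Bool.not_eq_true, Nat.beq_eq] at hv1
      simp only [List.any_eq_true, List.mem_range, Bool.and_eq_true, Bool.not_eq_true',
        ← Bool.not_eq_true, Nat.beq_eq]
      constructor
      · rintro ⟨w, hw, ⟨⟨w0, wx⟩, wy⟩, wxy⟩
        refine ⟨u, hu2, v, hv2, w, hw, ?_⟩
        simp only [h.dsp_eq]
        exact ⟨hu1, hv1.1, w0, Ne.symm hv1.2, Ne.symm wx, Ne.symm wy, Ne.symm wxy⟩
      · intro hW
        by_contra hno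
        push Not at hno
        refine notWide (dB a u) (dB a v) (fun w hw => ?_) hW
        have h' := hno w hw
        tauto

/-- The class `2E`, on codes. -/
def isEB (c : ℕ) : Bool := wideB (phiB c) && anisoB (phiB c)

theorem isEB_iff {c : ℕ} (hc : c < 4096) : isEB c = true ↔ IsE (phi c) := by
  rw [isEB, Bool.and_eq_true, wide_iff (rep_phi hc), aniso_iff (rep_phi hc)]
  rfl

/-! ### Elements of the core of the centraliser -/

/-- The three unipotence conditions relative to the root. -/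
def Uni (g : Model) : Prop :=
  ∀ v < 256, dsp zM (dsp g v) = 0 ∧ (dsp zM v = 0 → ∃ w < 256, dsp g v = dsp zM w) ∧
    dsp g (dsp zM v) = 0

/-- The conditions on codes. -/
def uniB (a : MB) : Bool :=
  (List.range 256).all fun v =>
    Nat.beq (dB (phiB 1) (dB a v)) 0 &&
    (!Nat.beq (dB (phiB 1) v) 0 ||
      (List.range 256).any fun w => Nat.beq (dB a v) (dB (phiB 1) w)) &&
    Nat.beq (dB a (dB (phiB 1) v)) 0

theorem uni_of_uniB {g : Model} {a : MB} (h : Rep g a) (hb : uniB a = true) : Uni g := by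
  intro v hv
  have hz : Rep zM (phiB 1) := rep_phi (by norm_num)
  have e := List.all_eq_true.1 hb v (List.mem_range.2 hv)
  simp only [Bool.and_eq_true, Bool.or_eq_true, Bool.not_eq_true', ← Bool.not_eq_true,
    Nat.beq_eq, List.any_eq_true, List.mem_range] at e
  obtain ⟨⟨e1, e2⟩, e3⟩ := e
  simp only [h.dsp_eq, hz.dsp_eq]
  exact ⟨e1, fun e0 => e2.resolve_left (fun n => n e0), e3⟩

theorem dsp_mul (g h : Model) (v : ℕ) : dsp (g * h) v = dsp g (ap h v) ^^^ dsp h v := by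
  rw [dsp, dsp, dsp, ap_mul, Nat.xor_assoc, xor_cancel]

theorem ap_eq_xor (g : Model) (v : ℕ) : ap g v = dsp g v ^^^ v := by
  rw [dsp, Nat.xor_assoc, Nat.xor_self, Nat.xor_zero]

theorem dsp_one {v : ℕ} (hv : v < 256) : dsp 1 v = 0 := by rw [dsp, ap_one hv, Nat.xor_self]

theorem dsp_zero (g : Model) : dsp g 0 = 0 := by rw [dsp, ap_zero, Nat.xor_self]

theorem dsp_inv (g : Model) {v : ℕ} (hv : v < 256) : dsp g⁻¹ v = dsp g (ap g⁻¹ v) := by
  rw [dsp, dsp, ap_ap_inv g hv, Nat.xor_comm]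

theorem fix_of_dsp {g : Model} {v : ℕ} (h : dsp g v = 0) : ap g v = v := by
  rw [ap_eq_xor, h, Nat.zero_xor]

theorem dsp_zM_comm {h : Model} (hc : zM * h = h * zM) {v : ℕ} (hv : v < 256) :
    dsp zM (ap h v) = ap h (dsp zM v) := by
  have e := dsp_cj h zM hv
  rwa [← hc, mul_inv_cancel_right] at e

/-- The unipotent elements of the centraliser form a subgroup. -/
def uniSub : Subgroup ↥(Subgroup.centralizer ({zM} : Set Model)) where
  carrier := {g | Uni (g : Model)}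
  one_mem' := fun v hv => by
    simp only [OneMemClass.coe_one]
    rw [dsp_one hv, dsp_one (dsp_lt zM hv), dsp_zero]
    exact ⟨rfl, fun _ => ⟨0, by norm_num, (dsp_zero zM).symm⟩, rfl⟩
  mul_mem' := fun {a b} ha hb v hv => by
    simp only [Subgroup.coe_mul, dsp_mul]
    obtain ⟨b1, b2, b3⟩ := hb v hv
    obtain ⟨a1, a2, -⟩ := ha _ (ap_lt (b : Model) v)
    refine ⟨by rw [dsp_xor, a1, b1, Nat.xor_self], fun e => ?_, ?_⟩
    · obtain ⟨w2, hw2, e2⟩ := b2 e
      obtain ⟨w1, hw1, e1⟩ := a2 (by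
        rw [ap_eq_xor (b : Model), dsp_xor, b1, e, Nat.xor_self])
      exact ⟨w1 ^^^ w2, xor_lt hw1 hw2, by rw [dsp_xor, e1, e2]⟩
    · rw [b3, Nat.xor_zero, fix_of_dsp b3, (ha v hv).2.2]
  inv_mem' := fun {a} ha v hv => by
    simp only [Subgroup.coe_inv]
    have hfix : ap (a : Model)⁻¹ (dsp zM v) = dsp zM v := by
      conv_lhs => rw [← fix_of_dsp (ha v hv).2.2]
      rw [ap_inv_ap _ (dsp_lt zM hv)]
    obtain ⟨a1, a2, -⟩ := ha _ (ap_lt (a : Model)⁻¹ v)
    rw [dsp_inv _ hv]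
    refine ⟨a1, fun e => a2 ?_, ?_⟩
    · have h1 : v = dsp (a : Model) (ap (a : Model)⁻¹ v) ^^^ ap (a : Model)⁻¹ v := by
        rw [← ap_eq_xor, ap_ap_inv _ hv]
      rw [h1, dsp_xor, a1, Nat.zero_xor] at e
      exact e
    · rw [dsp, hfix, Nat.xor_self]

theorem uniSub_normal : uniSub.Normal := by
  refine ⟨fun n hn g => ?_⟩
  have hgz : zM * (g : Model) = (g : Model) * zM :=
    (Subgroup.mem_centralizer_singleton_iff.1 g.2).symm
  intro v hv
  simp only [Subgroup.coe_mul, Subgroup.coe_inv]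
  obtain ⟨v, hv', rfl⟩ : ∃ w < 256, ap (g : Model) w = v :=
    ⟨_, ap_lt _ _, ap_ap_inv (g : Model) hv⟩
  obtain ⟨n1, n2, n3⟩ := hn v hv'
  rw [dsp_cj _ _ hv', dsp_zM_comm hgz (dsp_lt _ hv'), n1, ap_zero, dsp_zM_comm hgz hv',
    dsp_cj _ _ (dsp_lt _ hv'), n3, ap_zero]
  refine ⟨rfl, fun e => ?_, rfl⟩
  obtain ⟨w, hw, ew⟩ := n2 (ap_inj (g : Model) (dsp_lt _ hv') (by norm_num)
    (e.trans (ap_zero _).symm))
  exact ⟨ap (g : Model) w, ap_lt _ _, by rw [dsp_zM_comm hgz hw, ew]⟩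

theorem uniSub_two : IsPGroup 2 uniSub := by
  intro g
  refine ⟨2, ?_⟩
  set a : Model := ((g : ↥(Subgroup.centralizer ({zM} : Set Model))) : Model)
  have ha : Uni a := g.2
  refine Subtype.ext (Subtype.ext ?_)
  show a ^ 2 ^ 2 = 1
  have hsq : ∀ b : Model, ∀ v, dsp (b * b) v = dsp b (dsp b v) := fun b v => by
    rw [dsp_mul, ap_eq_xor b v, dsp_xor, Nat.xor_assoc, Nat.xor_self, Nat.xor_zero]
  refine ext_ap fun v hv => ?_
  rw [show a ^ 2 ^ 2 = a * a * (a * a) by simp [pow_succ, mul_assoc], ap_one hv]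
  refine fix_of_dsp ?_
  rw [hsq, hsq, hsq]
  obtain ⟨w, hw, e⟩ := (ha _ (dsp_lt a hv)).2.1 (ha v hv).1
  rw [e, (ha w hw).2.2, dsp_zero]

theorem mem_core {u : Model} (hu : u ∈ Subgroup.centralizer ({zM} : Set Model)) (h : Uni u) :
    u ∈ (Cfsg.pCore 2 ↥(Subgroup.centralizer ({zM} : Set Model))).map
      (Subgroup.centralizer ({zM} : Set Model)).subtype := by
  haveI := uniSub_normal
  exact ⟨⟨u, hu⟩, CfsgLib.Base.le_pCore uniSub_two (show (⟨u, hu⟩ :
    ↥(Subgroup.centralizer ({zM} : Set Model))) ∈ uniSub from h), rfl⟩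

end CfsgLib.DFour.CensusModel
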