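import Cfsg.Agent.Lib.DFour.CensusDefs
import Cfsg.Agent.Lib.DFour.CensusModelData

/-!
The Sylow two-subgroup of `Ω⁺₈(2)` as numbers below `4096`, and the action on the 256 vectors.
-/

set_option autoImplicit false
set_option maxRecDepth 100000
set_option linter.style.haveILetI false

namespace CfsgLib.DFour.CensusModel

open Matrix CfsgLib.KnownB.O8Mult
open CfsgLib.DFour (Model)
open scoped commutatorElement

/-- Multiplication of the codes. -/
def mm (c d : ℕ) : ℕ :=
  ((TA >>> (6 * ((c >>> 6) * 64 + (d >>> 6)))) % 64) * 64 +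
    (((TX >>> (6 * ((c % 64) * 64 + (d >>> 6)))) % 64) ^^^ (d % 64))

/-- The matrix of a code. -/
def phiB (c : ℕ) : MB := mulB (ASB.getD (c >>> 6) oneB) (XSB.getD (c % 64) oneB)

/-- The vector `v` as a number, the value of the form. -/
def q8 (v : ℕ) : Bool :=
  ((v.testBit 0 && v.testBit 4) != (v.testBit 1 && v.testBit 5)) !=
    ((v.testBit 2 && v.testBit 6) != (v.testBit 3 && v.testBit 7))

/-- The polar form. -/
def b8 (u v : ℕ) : Bool := (q8 (u ^^^ v) != q8 u) != q8 v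

theorem q8_spec : ∀ v < 256, (q8 v = true ↔ Qf (dv v) = 1) := by decide +kernel

theorem zmod_two : ∀ a : ZMod 2, a = 0 ∨ a = 1 := by decide

theorem enc_lt : ∀ u : I → ZMod 2, enc u < 256 := by decide +kernel

theorem enc_dv {v : ℕ} (h : v < 256) : enc (dv v) = v := by
  have e : dv (enc (dv v)) = dv v := dv_enc _
  rwa [dv_inj, Nat.mod_eq_of_lt (enc_lt _), Nat.mod_eq_of_lt h] at e

theorem dv_xor (x y : ℕ) : dv (x ^^^ y) = dv x + dv y := funext fun i => bit_xor x y (idx i)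

theorem xor_lt {a b : ℕ} (ha : a < 256) (hb : b < 256) : a ^^^ b < 256 :=
  Nat.xor_lt_two_pow (n := 8) ha hb

/-- The matrix of an element of the group. -/
def mt (g : Model) : Matrix I I (ZMod 2) := mat (g : Iso)

theorem mt_mul (g h : Model) : mt (g * h) = mt g * mt h := rfl

theorem mt_one : mt 1 = 1 := rfl

theorem mt_inj {g h : Model} (e : mt g = mt h) : g = h := Subtype.ext (mat_injective e)

/-- The image of a vector given as a number. -/
def ap (g : Model) (v : ℕ) : ℕ := enc (mt g *ᵥ dv v)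

theorem ap_lt (g : Model) (v : ℕ) : ap g v < 256 := enc_lt _

theorem ap_mul (g h : Model) (v : ℕ) : ap (g * h) v = ap g (ap h v) := by
  rw [ap, ap, ap, dv_enc, mt_mul, mulVec_mulVec]

theorem ap_one {v : ℕ} (h : v < 256) : ap 1 v = v := by
  rw [ap, mt_one, one_mulVec, enc_dv h]

theorem ap_inv_ap (g : Model) {v : ℕ} (h : v < 256) : ap g⁻¹ (ap g v) = v := by
  rw [← ap_mul, inv_mul_cancel, ap_one h]

theorem ap_ap_inv (g : Model) {v : ℕ} (h : v < 256) : ap g (ap g⁻¹ v) = v := by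
  rw [← ap_mul, mul_inv_cancel, ap_one h]

theorem ap_inj (g : Model) {u v : ℕ} (hu : u < 256) (hv : v < 256) (h : ap g u = ap g v) :
    u = v := by
  rw [← ap_inv_ap g hu, h, ap_inv_ap g hv]

theorem ap_xor (g : Model) (u v : ℕ) : ap g (u ^^^ v) = ap g u ^^^ ap g v := by
  have h : dv (ap g (u ^^^ v)) = dv (ap g u ^^^ ap g v) := by
    rw [ap, dv_enc, dv_xor, mulVec_add, dv_xor, ap, ap, dv_enc, dv_enc]
  rwa [dv_inj, Nat.mod_eq_of_lt (ap_lt _ _),
    Nat.mod_eq_of_lt (xor_lt (ap_lt _ _) (ap_lt _ _))] at h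

theorem ap_zero (g : Model) : ap g 0 = 0 := by
  have h := ap_xor g 0 0
  rwa [Nat.xor_self, Nat.xor_self] at h

theorem q8_ap (g : Model) {v : ℕ} (hv : v < 256) : q8 (ap g v) = q8 v := by
  rw [Bool.eq_iff_iff, q8_spec _ (ap_lt _ _), q8_spec _ hv, ap, dv_enc]
  have e : Qf (mt g *ᵥ dv v) = Qf (dv v) := (g : Iso).2 (dv v) (dv v)
  rw [e]

theorem b8_ap (g : Model) {u v : ℕ} (hu : u < 256) (hv : v < 256) :
    b8 (ap g u) (ap g v) = b8 u v := by
  rw [b8, b8, ← ap_xor, q8_ap g (xor_lt hu hv), q8_ap g hu, q8_ap g hv]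

theorem ext_ap {g h : Model} (e : ∀ v < 256, ap g v = ap h v) : g = h := by
  refine mt_inj (Matrix.ext fun i j => ?_)
  have h1 := congrArg dv (e (enc (Pi.single j 1)) (enc_lt _))
  simp only [ap, dv_enc, mulVec_single_one] at h1
  exact congrFun h1 i

/-- All columns are below `256`. -/
def smallB (a : MB) : Bool :=
  Nat.blt a.c0 256 && Nat.blt a.c1 256 && Nat.blt a.c2 256 && Nat.blt a.c3 256 &&
    Nat.blt a.c4 256 && Nat.blt a.c5 256 && Nat.blt a.c6 256 && Nat.blt a.c7 256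

theorem appB_lt {a : MB} (h : smallB a = true) (v : ℕ) : appB a v < 256 := by
  simp only [smallB, Bool.and_eq_true, Nat.blt_eq] at h
  obtain ⟨⟨⟨⟨⟨⟨⟨h0, h1⟩, h2⟩, h3⟩, h4⟩, h5⟩, h6⟩, h7⟩ := h
  have hs : ∀ k c, c < 256 → sel v k c < 256 := fun k c hc => by
    unfold sel; cases v.testBit k <;> simp [hc]
  exact xor_lt (hs _ _ h0) (xor_lt (hs _ _ h1) (xor_lt (hs _ _ h2) (xor_lt (hs _ _ h3)
    (xor_lt (hs _ _ h4) (xor_lt (hs _ _ h5) (xor_lt (hs _ _ h6) (hs _ _ h7)))))))

/-- The element has the code. -/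
def Rep (g : Model) (a : MB) : Prop := mt g = decB a ∧ smallB a = true

theorem Rep.ap_eq {g : Model} {a : MB} (h : Rep g a) (v : ℕ) : ap g v = appB a v := by
  rw [ap, h.1, decB_mulVec, enc_dv (appB_lt h.2 v)]

theorem smallB_mul {a b : MB} (ha : smallB a = true) : smallB (mulB a b) = true := by
  simp only [smallB, mulB, Bool.and_eq_true, Nat.blt_eq]
  exact ⟨⟨⟨⟨⟨⟨⟨appB_lt ha _, appB_lt ha _⟩, appB_lt ha _⟩, appB_lt ha _⟩, appB_lt ha _⟩,
    appB_lt ha _⟩, appB_lt ha _⟩, appB_lt ha _⟩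

theorem Rep.mul {g h : Model} {a b : MB} (hg : Rep g a) (hh : Rep h b) :
    Rep (g * h) (mulB a b) :=
  ⟨by rw [mt_mul, hg.1, hh.1, decB_mul], smallB_mul hg.2⟩

theorem rep_one : Rep 1 oneB := ⟨decB_one.symm, rfl⟩

/-- The twenty-four root elements are involutory isometries and commutators of such. -/
def gensOK : Bool :=
  (List.range 24).all fun k =>
    let a := gensB.getD k oneB
    let p := pairsB.getD k (0, 0)
    let b := gensB.getD p.1 oneB
    let c := gensB.getD p.2 oneB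
    eqB (mulB a a) oneB && isoOK a && smallB a && decide (p.1 < 24 ∧ p.2 < 24) &&
      eqB a (mulB (mulB b c) (mulB b c))

theorem gens_ok : gensOK = true := by decide +kernel

theorem gen_exists (k : Fin 24) : ∃ g : Model, Rep g (gensB.getD k oneB) := by
  have h := List.all_eq_true.1 gens_ok k.1 (List.mem_range.2 k.2)
  simp only [Bool.and_eq_true, decide_eq_true_eq, eqB_iff, decB_mul, decB_one] at h
  obtain ⟨⟨⟨⟨h2, hi⟩, hs⟩, hlt⟩, he⟩ := h
  have inv : ∀ j < 24, ∃ b : Iso, mat b = decB (gensB.getD j oneB) ∧ b⁻¹ = b := fun j hj => by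
    have h := List.all_eq_true.1 gens_ok j (List.mem_range.2 hj)
    simp only [Bool.and_eq_true, decide_eq_true_eq, eqB_iff, decB_mul, decB_one] at h
    obtain ⟨b, hb⟩ := exists_iso h.1.1.1.1 h.1.1.1.1 h.1.1.1.2
    exact ⟨b, hb, inv_eq_of_mul_eq_one_right
      (mat_injective (by rw [mat_mul, hb, h.1.1.1.1, mat_one]))⟩
  obtain ⟨b, hb, hbi⟩ := inv _ hlt.1
  obtain ⟨c, hc, hci⟩ := inv _ hlt.2
  refine ⟨⟨⁅b, c⁆, Subgroup.commutator_mem_commutator (Subgroup.mem_top _) (Subgroup.mem_top _)⟩,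
    ?_, hs⟩
  show mat ⁅b, c⁆ = _
  rw [he, commutatorElement_def, hbi, hci, mat_mul, mat_mul, mat_mul, hb, hc]
  simp only [Matrix.mul_assoc]

/-- The root element. -/
noncomputable def gen (k : Fin 24) : Model := (gen_exists k).choose

theorem rep_gen (k : Fin 24) : Rep (gen k) (gensB.getD k oneB) := (gen_exists k).choose_spec

/-- The element of a word. -/
noncomputable def wd (l : List (Fin 24)) : Model := (l.map gen).prod

/-- The code of a word. -/
def wdB : List (Fin 24) → MB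
  | [] => oneB
  | k :: l => mulB (gensB.getD k oneB) (wdB l)

theorem rep_wd : ∀ l, Rep (wd l) (wdB l)
  | [] => rep_one
  | k :: l => by
    rw [wd, List.map_cons, List.prod_cons]
    exact (rep_gen k).mul (rep_wd l)

theorem gen_mul_self (k : Fin 24) : gen k * gen k = 1 := by
  refine mt_inj ?_
  rw [mt_mul, (rep_gen k).1, mt_one]
  have h := List.all_eq_true.1 gens_ok k.1 (List.mem_range.2 k.2)
  simp only [Bool.and_eq_true, eqB_iff, decB_mul, decB_one] at h
  exact h.1.1.1.1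

/-- The word of the abelian part. -/
def wX (h : ℕ) : List (Fin 24) := ([0, 1, 2, 3, 4, 5] : List (Fin 24)).filter fun k => h.testBit k.1

/-- The word of the Levi part. -/
def wA (h : ℕ) : List (Fin 24) :=
  ([6, 7, 8, 9, 10, 11] : List (Fin 24)).filter fun k => h.testBit (k.1 - 6)

/-- The element of a code. -/
noncomputable def phi (c : ℕ) : Model := wd (wA (c >>> 6)) * wd (wX (c % 64))

/-- The tables agree with the matrices. -/
def tablesOK : Bool :=
  (List.range 64).all fun a =>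
    eqB (wdB (wA a)) (ASB.getD a oneB) && smallB (ASB.getD a oneB) &&
    eqB (wdB (wX a)) (XSB.getD a oneB) && smallB (XSB.getD a oneB) &&
    (List.range 64).all fun b =>
      eqB (mulB (ASB.getD a oneB) (ASB.getD b oneB))
        (ASB.getD ((TA >>> (6 * (a * 64 + b))) % 64) oneB) &&
      eqB (mulB (XSB.getD a oneB) (ASB.getD b oneB))
        (mulB (ASB.getD b oneB) (XSB.getD ((TX >>> (6 * (a * 64 + b))) % 64) oneB)) &&
      eqB (mulB (XSB.getD a oneB) (XSB.getD b oneB)) (XSB.getD (a ^^^ b) oneB)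

theorem tables_ok : tablesOK = true := by decide +kernel

theorem part_lt {c : ℕ} (h : c < 4096) : c >>> 6 < 64 ∧ c % 64 < 64 := by
  rw [Nat.shiftRight_eq_div_pow]; omega

theorem rep_A {a : ℕ} (h : a < 64) : Rep (wd (wA a)) (ASB.getD a oneB) := by
  have h1 := List.all_eq_true.1 tables_ok a (List.mem_range.2 h)
  simp only [Bool.and_eq_true] at h1
  exact ⟨(rep_wd _).1.trans (eqB_iff.1 h1.1.1.1.1), h1.1.1.1.2⟩

theorem rep_X {a : ℕ} (h : a < 64) : Rep (wd (wX a)) (XSB.getD a oneB) := by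
  have h1 := List.all_eq_true.1 tables_ok a (List.mem_range.2 h)
  simp only [Bool.and_eq_true] at h1
  exact ⟨(rep_wd _).1.trans (eqB_iff.1 h1.1.1.2), h1.1.2⟩

theorem rep_phi {c : ℕ} (h : c < 4096) : Rep (phi c) (phiB c) :=
  (rep_A (part_lt h).1).mul (rep_X (part_lt h).2)

theorem mm_lt (c d : ℕ) : mm c d < 4096 := by
  have h : ((TX >>> (6 * ((c % 64) * 64 + (d >>> 6)))) % 64) ^^^ (d % 64) < 64 :=
    Nat.xor_lt_two_pow (n := 6) (Nat.mod_lt _ (by norm_num)) (Nat.mod_lt _ (by norm_num))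
  have h2 := Nat.mod_lt (TA >>> (6 * ((c >>> 6) * 64 + (d >>> 6)))) (show 0 < 64 by norm_num)
  unfold mm
  omega

theorem phi_mul {c d : ℕ} (hc : c < 4096) (hd : d < 4096) :
    phi c * phi d = phi (mm c d) := by
  obtain ⟨ha, hx⟩ := part_lt hc
  obtain ⟨hb, hy⟩ := part_lt hd
  have t : ∀ a b, a < 64 → b < 64 →
      eqB (mulB (ASB.getD a oneB) (ASB.getD b oneB))
        (ASB.getD ((TA >>> (6 * (a * 64 + b))) % 64) oneB) = true ∧
      eqB (mulB (XSB.getD a oneB) (ASB.getD b oneB))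
        (mulB (ASB.getD b oneB) (XSB.getD ((TX >>> (6 * (a * 64 + b))) % 64) oneB)) = true ∧
      eqB (mulB (XSB.getD a oneB) (XSB.getD b oneB)) (XSB.getD (a ^^^ b) oneB) = true := by
    intro a b ha hb
    have h1 := List.all_eq_true.1 tables_ok a (List.mem_range.2 ha)
    simp only [Bool.and_eq_true] at h1
    have h2 := List.all_eq_true.1 h1.2 b (List.mem_range.2 hb)
    simp only [Bool.and_eq_true] at h2
    exact ⟨h2.1.1, h2.1.2, h2.2⟩
  have hA : ∀ a b, a < 64 → b < 64 →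
      wd (wA a) * wd (wA b) = wd (wA ((TA >>> (6 * (a * 64 + b))) % 64)) := fun a b ha hb => by
    refine mt_inj ?_
    rw [mt_mul, (rep_A ha).1, (rep_A hb).1, (rep_A (Nat.mod_lt _ (by norm_num))).1, ← decB_mul]
    exact eqB_iff.1 (t a b ha hb).1
  have hXA : ∀ a b, a < 64 → b < 64 →
      wd (wX a) * wd (wA b) =
        wd (wA b) * wd (wX ((TX >>> (6 * (a * 64 + b))) % 64)) := fun a b ha hb => by
    refine mt_inj ?_
    rw [mt_mul, mt_mul, (rep_X ha).1, (rep_A hb).1, (rep_X (Nat.mod_lt _ (by norm_num))).1,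
      ← decB_mul, ← decB_mul]
    exact eqB_iff.1 (t a b ha hb).2.1
  have hXX : ∀ a b, a < 64 → b < 64 →
      wd (wX a) * wd (wX b) = wd (wX (a ^^^ b)) := fun a b ha hb => by
    refine mt_inj ?_
    rw [mt_mul, (rep_X ha).1, (rep_X hb).1, (rep_X (Nat.xor_lt_two_pow (n := 6) ha hb)).1,
      ← decB_mul]
    exact eqB_iff.1 (t a b ha hb).2.2
  have e1 : mm c d >>> 6 = (TA >>> (6 * ((c >>> 6) * 64 + (d >>> 6)))) % 64 ∧
      mm c d % 64 = ((TX >>> (6 * ((c % 64) * 64 + (d >>> 6)))) % 64) ^^^ (d % 64) := by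
    have h : ((TX >>> (6 * ((c % 64) * 64 + (d >>> 6)))) % 64) ^^^ (d % 64) < 64 :=
      Nat.xor_lt_two_pow (n := 6) (Nat.mod_lt _ (by norm_num)) hy
    rw [Nat.shiftRight_eq_div_pow (mm c d)]
    unfold mm
    omega
  show wd (wA (c >>> 6)) * wd (wX (c % 64)) * (wd (wA (d >>> 6)) * wd (wX (d % 64))) =
    wd (wA (mm c d >>> 6)) * wd (wX (mm c d % 64))
  rw [e1.1, e1.2, ← hA _ _ ha hb, ← hXX _ _ (Nat.mod_lt _ (by norm_num)) hy]
  calc wd (wA (c >>> 6)) * wd (wX (c % 64)) * (wd (wA (d >>> 6)) * wd (wX (d % 64)))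
      = wd (wA (c >>> 6)) * (wd (wX (c % 64)) * wd (wA (d >>> 6))) * wd (wX (d % 64)) := by group
    _ = _ := by rw [hXA _ _ hx hb]; group

theorem phi_zero : phi 0 = 1 := by
  refine mt_inj ?_
  rw [(rep_phi (by norm_num)).1, mt_one, ← decB_one]
  exact eqB_iff.1 (by decide +kernel)

/-- The two parts are determined by their matrices. -/
def distinctOK : Bool :=
  (List.range 64).all fun a => (List.range 64).all fun b => a == b ||
    (!(Nat.beq (ASB.getD a oneB).c1 (ASB.getD b oneB).c1 &&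
      Nat.beq (ASB.getD a oneB).c2 (ASB.getD b oneB).c2 &&
      Nat.beq (ASB.getD a oneB).c3 (ASB.getD b oneB).c3) &&
    !(eqB (XSB.getD a oneB) (XSB.getD b oneB)))

theorem distinct_ok : distinctOK = true := by decide +kernel

/-- The first part fixes the first columns. -/
def colsOK : Bool :=
  (List.range 64).all fun a => (List.range 64).all fun b =>
    Nat.beq (mulB (ASB.getD a oneB) (XSB.getD b oneB)).c1 (ASB.getD a oneB).c1 &&
    Nat.beq (mulB (ASB.getD a oneB) (XSB.getD b oneB)).c2 (ASB.getD a oneB).c2 &&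
    Nat.beq (mulB (ASB.getD a oneB) (XSB.getD b oneB)).c3 (ASB.getD a oneB).c3

theorem cols_ok : colsOK = true := by decide +kernel

/-- The code of the inverse. -/
def invc (c : ℕ) : ℕ := mm c (mm (mm c c) (mm (mm c c) (mm c c)))

theorem pow_eight : ∀ c < 4096, mm c (invc c) = 0 := by decide +kernel

theorem phi_inv {c : ℕ} (hc : c < 4096) : (phi c)⁻¹ = phi (invc c) := by
  have h1 : invc c < 4096 := by
    exact mm_lt _ _
  refine inv_eq_of_mul_eq_one_right ?_
  rw [phi_mul hc h1, pow_eight c hc, phi_zero]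

theorem phi_inj {c d : ℕ} (hc : c < 4096) (hd : d < 4096) (h : phi c = phi d) : c = d := by
  obtain ⟨ha, hx⟩ := part_lt hc
  obtain ⟨hb, hy⟩ := part_lt hd
  have cols : ∀ a b, a < 64 → b < 64 → dv (mulB (ASB.getD a oneB) (XSB.getD b oneB)).c1 =
      dv (ASB.getD a oneB).c1 ∧ dv (mulB (ASB.getD a oneB) (XSB.getD b oneB)).c2 =
      dv (ASB.getD a oneB).c2 ∧ dv (mulB (ASB.getD a oneB) (XSB.getD b oneB)).c3 =
      dv (ASB.getD a oneB).c3 := fun a b ha hb => by
    have h1 := List.all_eq_true.1 (List.all_eq_true.1 cols_ok a (List.mem_range.2 ha)) b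
      (List.mem_range.2 hb)
    simp only [Bool.and_eq_true, Nat.beq_eq] at h1
    exact ⟨by rw [h1.1.1], by rw [h1.1.2], by rw [h1.2]⟩
  have he : decB (phiB c) = decB (phiB d) := by
    rw [← (rep_phi hc).1, ← (rep_phi hd).1, h]
  have hcol : ∀ j : I, dv (colB (phiB c) j) = dv (colB (phiB d) j) := fun j =>
    funext fun i => congrFun (congrFun he i) j
  have e1 := hcol (.inl 1)
  have e2 := hcol (.inl 2)
  have e3 := hcol (.inl 3)
  simp only [colB, phiB, Matrix.cons_val_one, Matrix.cons_val, Matrix.cons_val_zero,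
    Fin.isValue] at e1 e2 e3
  rw [(cols _ _ ha hx).1, (cols _ _ hb hy).1] at e1
  rw [(cols _ _ ha hx).2.1, (cols _ _ hb hy).2.1] at e2
  rw [(cols _ _ ha hx).2.2, (cols _ _ hb hy).2.2] at e3
  have small : ∀ a < 64, (ASB.getD a oneB).c1 < 256 ∧ (ASB.getD a oneB).c2 < 256 ∧
      (ASB.getD a oneB).c3 < 256 := fun a ha => by
    have h1 := (rep_A ha).2
    simp only [smallB, Bool.and_eq_true, Nat.blt_eq] at h1
    exact ⟨h1.1.1.1.1.1.1.2, h1.1.1.1.1.1.2, h1.1.1.1.1.2⟩
  obtain ⟨a1, a2, a3⟩ := small _ ha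
  obtain ⟨b1, b2, b3⟩ := small _ hb
  rw [dv_inj, Nat.mod_eq_of_lt a1, Nat.mod_eq_of_lt b1] at e1
  rw [dv_inj, Nat.mod_eq_of_lt a2, Nat.mod_eq_of_lt b2] at e2
  rw [dv_inj, Nat.mod_eq_of_lt a3, Nat.mod_eq_of_lt b3] at e3
  have hhi : c >>> 6 = d >>> 6 := by
    have h1 := List.all_eq_true.1 (List.all_eq_true.1 distinct_ok _ (List.mem_range.2 ha)) _
      (List.mem_range.2 hb)
    rw [e1, e2, e3] at h1
    simp at h1
    exact h1
  have hlo : c % 64 = d % 64 := by
    have e : phi c = phi d := h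
    unfold phi at e
    rw [hhi] at e
    have e' : eqB (XSB.getD (c % 64) oneB) (XSB.getD (d % 64) oneB) = true := eqB_iff.2 (by
      rw [← (rep_X hx).1, ← (rep_X hy).1, mul_left_cancel e])
    have h1 := List.all_eq_true.1 (List.all_eq_true.1 distinct_ok _ (List.mem_range.2 hx)) _
      (List.mem_range.2 hy)
    rw [e'] at h1
    simp at h1
    exact h1
  rw [Nat.shiftRight_eq_div_pow, Nat.shiftRight_eq_div_pow] at hhi
  omega

/-- The Sylow subgroup. -/
def Syl : Subgroup Model where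
  carrier := {g | ∃ c < 4096, phi c = g}
  one_mem' := ⟨0, by norm_num, phi_zero⟩
  mul_mem' := fun ⟨c, hc, e⟩ ⟨d, hd, f⟩ =>
    ⟨mm c d, mm_lt c d, by rw [← e, ← f, phi_mul hc hd]⟩
  inv_mem' := fun ⟨c, hc, e⟩ =>
    ⟨invc c, mm_lt _ _, by rw [← e, phi_inv hc]⟩

theorem mem_Syl {g : Model} : g ∈ Syl ↔ ∃ c < 4096, phi c = g := Iff.rfl

end CfsgLib.DFour.CensusModel
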