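import Cfsg.Agent.Lib.DFour.CensusModelExceptData
import Cfsg.Agent.Lib.DFour.CensusModelFusion
import Cfsg.Agent.Lib.DFour.CensusFix
import Cfsg.Agent.Lib.DFour.CensusBuild

/-!
The six nodes of order sixteen of the census are exceptional.
-/

set_option autoImplicit false
set_option maxRecDepth 100000
set_option linter.style.haveILetI false

namespace CfsgLib.DFour.CensusModel

open CfsgLib.KnownB.O8Mult CfsgLib.DFour.Census
open CfsgLib.DFour (Model)

/-- The subgroup of a list of codes. -/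
def codeSub (L : List ℕ) : Subgroup Model := Subgroup.closure {g | ∃ c ∈ L, phi c = g}

/-- The list is a subgroup of codes without repetition. -/
def okList (L : List ℕ) : Bool :=
  (L.all fun c => Nat.blt c 4096 && L.contains (invc c) && L.all fun d => L.contains (mm c d)) &&
    L.contains 0 && decide L.Nodup

theorem okList_lt {L : List ℕ} (h : okList L = true) {c : ℕ} (hc : c ∈ L) : c < 4096 := by
  simp only [okList, Bool.and_eq_true, List.all_eq_true, Nat.blt_eq] at h
  exact (h.1.1 c hc).1.1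

theorem mem_codeSub {L : List ℕ} (h : okList L = true) {g : Model} :
    g ∈ codeSub L ↔ ∃ c ∈ L, phi c = g := by
  refine ⟨fun hg => ?_, fun hg => Subgroup.subset_closure hg⟩
  have hlt := fun c hc => okList_lt h (c := c) hc
  simp only [okList, Bool.and_eq_true, List.all_eq_true, Nat.blt_eq, List.contains_iff_mem] at h
  obtain ⟨⟨hall, h0⟩, -⟩ := h
  induction hg using Subgroup.closure_induction with
  | mem x hx => exact hx
  | one => exact ⟨0, h0, phi_zero⟩
  | mul x y _ _ hx hy =>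
    obtain ⟨c, hc, rfl⟩ := hx
    obtain ⟨d, hd, rfl⟩ := hy
    exact ⟨mm c d, (hall c hc).2 d hd, (phi_mul (hlt c hc) (hlt d hd)).symm⟩
  | inv x _ hx =>
    obtain ⟨c, hc, rfl⟩ := hx
    exact ⟨invc c, (hall c hc).1.2, (phi_inv (hlt c hc)).symm⟩

theorem codeSub_le {L : List ℕ} (h : okList L = true) : codeSub L ≤ Syl := fun g hg => by
  obtain ⟨c, hc, rfl⟩ := (mem_codeSub h).1 hg
  exact mem_phi (okList_lt h hc)

theorem phi_mem_codeSub {L : List ℕ} (h : okList L = true) {c : ℕ} (hc : c < 4096) :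
    phi c ∈ codeSub L ↔ c ∈ L :=
  ⟨fun hm => by
    obtain ⟨d, hd, e⟩ := (mem_codeSub h).1 hm
    rwa [← phi_inj (okList_lt h hd) hc e], fun hm => (mem_codeSub h).2 ⟨c, hm, rfl⟩⟩

/-- Counting the elements of a code subgroup with a property. -/
theorem card_filter_codeSub {L : List ℕ} (h : okList L = true) (P : Model → Prop) (b : ℕ → Bool)
    (hb : ∀ c ∈ L, b c = true ↔ P (phi c)) :
    Nat.card {a : Model // a ∈ codeSub L ∧ P a} = L.countP b := by
  classical
  have hnd : L.Nodup := by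
    simp only [okList, Bool.and_eq_true, decide_eq_true_eq] at h
    exact h.2
  let f : {c // c ∈ (L.filter b).toFinset} → {a : Model // a ∈ codeSub L ∧ P a} := fun c =>
    ⟨phi c, (mem_codeSub h).2 ⟨c, (List.mem_filter.1 (List.mem_toFinset.1 c.2)).1, rfl⟩,
      (hb c (List.mem_filter.1 (List.mem_toFinset.1 c.2)).1).1
        (List.mem_filter.1 (List.mem_toFinset.1 c.2)).2⟩
  have hf : Function.Bijective f := by
    refine ⟨fun c d e => Subtype.ext (phi_inj
      (okList_lt h (List.mem_filter.1 (List.mem_toFinset.1 c.2)).1)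
      (okList_lt h (List.mem_filter.1 (List.mem_toFinset.1 d.2)).1) (congrArg Subtype.val e :)), ?_⟩
    rintro ⟨a, ha, hP⟩
    obtain ⟨c, hc, rfl⟩ := (mem_codeSub h).1 ha
    exact ⟨⟨c, List.mem_toFinset.2 (List.mem_filter.2 ⟨hc, (hb c hc).2 hP⟩)⟩, rfl⟩
  rw [← Nat.card_eq_of_bijective f hf, Nat.card_eq_finsetCard,
    List.toFinset_card_of_nodup (hnd.filter _), List.countP_eq_length_filter]

theorem card_codeSub {L : List ℕ} (h : okList L = true) : Nat.card (codeSub L) = L.length := by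
  have e := card_filter_codeSub h (fun _ => True) (fun _ => true) (fun _ _ => by simp)
  rw [List.countP_true] at e
  rw [← e]
  exact Nat.card_congr ⟨fun a => ⟨a.1, a.2, trivial⟩, fun a => ⟨a.1, a.2.1⟩,
    fun _ => rfl, fun _ => rfl⟩

/-- Commutative, free, of exponent two. -/
def cleanList (L : List ℕ) : Bool :=
  L.all fun c => !rootMask.testBit c && Nat.beq (mm c c) 0 && L.all fun d => Nat.beq (mm c d) (mm d c)

theorem sq_codeSub {L : List ℕ} (h : okList L = true) (hc : cleanList L = true) :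
    ∀ a ∈ codeSub L, a * a = 1 := by
  intro a ha
  obtain ⟨c, hcL, rfl⟩ := (mem_codeSub h).1 ha
  simp only [cleanList, List.all_eq_true, Bool.and_eq_true, Nat.beq_eq] at hc
  rw [phi_mul (okList_lt h hcL) (okList_lt h hcL), (hc c hcL).1.2, phi_zero]

theorem clean_codeSub {L : List ℕ} (h : okList L = true) (hc : cleanList L = true) :
    Clean zM (codeSub L) where
  two a := ⟨1, Subtype.ext (by
    simp only [pow_one, SubgroupClass.coe_pow, OneMemClass.coe_one, pow_two]
    exact sq_codeSub h hc a a.2)⟩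
  ab := by
    intro a ha b hb
    obtain ⟨c, hcL, rfl⟩ := (mem_codeSub h).1 ha
    obtain ⟨d, hdL, rfl⟩ := (mem_codeSub h).1 hb
    simp only [cleanList, List.all_eq_true, Bool.and_eq_true, Nat.beq_eq] at hc
    exact (phi_comm_iff (okList_lt h hcL) (okList_lt h hdL)).2 ((hc c hcL).2 d hdL)
  free := by
    intro a ha
    obtain ⟨c, hcL, rfl⟩ := (mem_codeSub h).1 ha
    simp only [cleanList, List.all_eq_true, Bool.and_eq_true, Bool.not_eq_true'] at hc
    exact not_root_conj (okList_lt h hcL) (hc c hcL).1.1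

/-! ### The six nodes -/

/-- The elements of a node. -/
def sixL (n : ℕ) : List ℕ := (sixNodes.getD n ([], 0)).1

/-- Few commuting codes. -/
def smallCent (L : List ℕ) : Bool :=
  Nat.ble ((List.range 4096).countP fun a => L.all fun c => Nat.beq (mm a c) (mm c a)) 32

/-- The class mask of a node. -/
def maskOK (p : List ℕ × ℕ) : Bool := p.1.all fun c => isEB c == p.2.testBit c

/-- The class count of every subgroup of order eight. -/
def triplesOK (p : List ℕ × ℕ) : Bool :=
  p.1.all fun a => p.1.all fun b => p.1.all fun c =>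
    let l := [0, a, b, mm a b, c, mm a c, mm b c, mm (mm a b) c]
    !decide l.Nodup ||
      (!Nat.beq (l.countP fun e => p.2.testBit e) 1 && !Nat.beq (l.countP fun e => p.2.testBit e) 7)

/-- The checks of one node. -/
def nodeOK (p : List ℕ × ℕ) : Bool :=
  okList p.1 && cleanList p.1 && Nat.beq p.1.length 16 && maskOK p

theorem six_ok : (Nat.beq sixNodes.length 6 && sixNodes.all nodeOK) = true := by decide +kernel

theorem six_small : (sixNodes.all fun p => smallCent p.1) = true := by decide +kernel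

theorem six_triples : sixNodes.all triplesOK = true := by decide +kernel

theorem six_mem {n : ℕ} (hn : n < 6) : sixNodes.getD n ([], 0) ∈ sixNodes := by
  have h := six_ok
  simp only [Bool.and_eq_true, Nat.beq_eq] at h
  rw [List.getD_eq_getElem _ _ (by omega)]
  exact List.getElem_mem _

theorem six_spec {n : ℕ} (hn : n < 6) :
    okList (sixL n) = true ∧ cleanList (sixL n) = true ∧ (sixL n).length = 16 ∧
      ∀ c ∈ sixL n, (sixNodes.getD n ([], 0)).2.testBit c = isEB c := by
  have h := six_ok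
  simp only [Bool.and_eq_true, List.all_eq_true] at h
  have h1 := h.2 _ (six_mem hn)
  simp only [nodeOK, maskOK, Bool.and_eq_true, Nat.beq_eq, List.all_eq_true, beq_iff_eq] at h1
  exact ⟨h1.1.1.1, h1.1.1.2, h1.1.2, fun c hc => (h1.2 c hc).symm⟩

/-- The count that no subgroup of order eight of a node has. -/
def OddCount (k : ℕ) : Prop := k = 1 ∨ k = 7

theorem six_count {n : ℕ} (hn : n < 6) (W : Subgroup Model) (hW : W ≤ codeSub (sixL n))
    (h8 : Nat.card W = 8) : ¬ OddCount (Nat.card {a : Model // a ∈ W ∧ IsE a}) := by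
  classical
  obtain ⟨hok, hcl, -, hmask⟩ := six_spec hn
  obtain ⟨a, ha, b, hb, c, hc, hnd, hmem⟩ := exists_triple h8 fun x hx => sq_codeSub hok hcl x (hW hx)
  obtain ⟨ca, hca, rfl⟩ := (mem_codeSub hok).1 (hW ha)
  obtain ⟨cb, hcb, rfl⟩ := (mem_codeSub hok).1 (hW hb)
  obtain ⟨cc, hcc, rfl⟩ := (mem_codeSub hok).1 (hW hc)
  have la := okList_lt hok hca
  have lb := okList_lt hok hcb
  have lc := okList_lt hok hcc
  set l := [0, ca, cb, mm ca cb, cc, mm ca cc, mm cb cc, mm (mm ca cb) cc] with hl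
  have hmap : [1, phi ca, phi cb, phi ca * phi cb, phi cc, phi ca * phi cc, phi cb * phi cc,
      phi ca * phi cb * phi cc] = l.map phi := by
    simp only [l, List.map_cons, List.map_nil, phi_zero, phi_mul la lb, phi_mul la lc,
      phi_mul lb lc, phi_mul (mm_lt ca cb) lc]
  rw [hmap] at hnd hmem
  have hlnd : l.Nodup := List.Nodup.of_map _ hnd
  have hsub : ∀ e ∈ l, e ∈ sixL n := fun e he => by
    have hlt : e < 4096 := by
      simp only [l, List.mem_cons, List.not_mem_nil, or_false] at he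
      rcases he with rfl | rfl | rfl | rfl | rfl | rfl | rfl | rfl <;>
        first | assumption | exact mm_lt _ _ | norm_num
    exact (phi_mem_codeSub hok hlt).1 (hW ((hmem _).2 (List.mem_map.2 ⟨e, he, rfl⟩)))
  have hcnt : Nat.card {a : Model // a ∈ W ∧ IsE a} = l.countP fun e =>
      (sixNodes.getD n ([], 0)).2.testBit e := by
    have hpred : ∀ e ∈ l, ((sixNodes.getD n ([], 0)).2.testBit e = true ↔ IsE (phi e)) :=
      fun e he => by rw [hmask e (hsub e he), isEB_iff (okList_lt hok (hsub e he))]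
    let g : {e // e ∈ (l.filter fun e => (sixNodes.getD n ([], 0)).2.testBit e).toFinset} →
        {a : Model // a ∈ W ∧ IsE a} := fun e =>
      ⟨phi e, (hmem _).2 (List.mem_map.2 ⟨e, (List.mem_filter.1 (List.mem_toFinset.1 e.2)).1, rfl⟩),
        (hpred e (List.mem_filter.1 (List.mem_toFinset.1 e.2)).1).1
          (List.mem_filter.1 (List.mem_toFinset.1 e.2)).2⟩
    have hg : Function.Bijective g := by
      refine ⟨fun e d h => Subtype.ext (phi_inj
        (okList_lt hok (hsub _ (List.mem_filter.1 (List.mem_toFinset.1 e.2)).1))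
        (okList_lt hok (hsub _ (List.mem_filter.1 (List.mem_toFinset.1 d.2)).1))
        (congrArg Subtype.val h :)), ?_⟩
      rintro ⟨x, hx, hE⟩
      obtain ⟨e, he, rfl⟩ := List.mem_map.1 ((hmem x).1 hx)
      exact ⟨⟨e, List.mem_toFinset.2 (List.mem_filter.2 ⟨he, (hpred e he).2 hE⟩)⟩, rfl⟩
    rw [← Nat.card_eq_of_bijective g hg, Nat.card_eq_finsetCard,
      List.toFinset_card_of_nodup (hlnd.filter _), List.countP_eq_length_filter]
  have h := six_triples
  simp only [List.all_eq_true, triplesOK] at h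
  have h' := h _ (six_mem hn) ca hca cb hcb cc hcc
  simp only [Bool.or_eq_true, Bool.not_eq_true', decide_eq_false_iff_not, Bool.and_eq_true,
    ← Bool.not_eq_true, Nat.beq_eq, decide_eq_true_eq] at h'
  rw [hcnt]
  rcases h'.resolve_left (fun e => e hlnd) with ⟨h1, h7⟩
  exact fun e => e.elim h1 h7

theorem six_cent {n : ℕ} (hn : n < 6) :
    Nat.card {a : Model // a ∈ Syl ∧ ∀ r ∈ codeSub (sixL n), a * r = r * a} ≤ 32 := by
  classical
  obtain ⟨hok, -, -, -⟩ := six_spec hn
  have h := six_small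
  simp only [List.all_eq_true, smallCent, Nat.ble_eq] at h
  refine le_trans ?_ (h _ (six_mem hn))
  rw [List.countP_eq_length_filter, ← List.toFinset_card_of_nodup (List.nodup_range.filter _),
    ← Nat.card_eq_finsetCard]
  refine Nat.card_le_card_of_injective (fun a => ⟨(mem_Syl.1 a.2.1).choose, ?_⟩) ?_
  · obtain ⟨hlt, he⟩ := (mem_Syl.1 a.2.1).choose_spec
    simp only [List.mem_toFinset, List.mem_filter, List.mem_range, List.all_eq_true, Nat.beq_eq]
    refine ⟨hlt, fun c hc => (phi_comm_iff hlt (okList_lt hok hc)).1 ?_⟩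
    rw [he]
    exact a.2.2 _ ((mem_codeSub hok).2 ⟨c, hc, rfl⟩)
  · intro a b e
    have := congrArg Subtype.val e
    simp only at this
    refine Subtype.ext ?_
    rw [← (mem_Syl.1 a.2.1).choose_spec.2, ← (mem_Syl.1 b.2.1).choose_spec.2, this]

theorem cent_cj {n : ℕ} {s : Model} {J : Subgroup Model} (hs : s ∈ Syl)
    (h : cjS s J = codeSub (sixL n)) (hn : n < 6) :
    Nat.card {a : Model // a ∈ Syl ∧ ∀ r ∈ J, a * r = r * a} ≤ 32 := by
  have key : ∀ a : {a : Model // a ∈ Syl ∧ ∀ r ∈ J, a * r = r * a},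
      ∀ r ∈ codeSub (sixL n), s * a.1 * s⁻¹ * r = r * (s * a.1 * s⁻¹) := by
    intro a r hr
    rw [← h] at hr
    obtain ⟨b, hb, rfl⟩ := mem_cjS.1 hr
    calc s * a.1 * s⁻¹ * (s * b * s⁻¹) = s * (a.1 * b) * s⁻¹ := by group
      _ = s * (b * a.1) * s⁻¹ := by rw [a.2.2 b hb]
      _ = _ := by group
  refine le_trans (Nat.card_le_card_of_injective (fun a => (⟨s * a.1 * s⁻¹,
    mul_mem (mul_mem hs a.2.1) (inv_mem hs), key a⟩ :
      {a : Model // a ∈ Syl ∧ ∀ r ∈ codeSub (sixL n), a * r = r * a})) ?_) (six_cent hn)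
  intro a b e
  exact Subtype.ext (mul_left_cancel (mul_right_cancel (congrArg Subtype.val e :)))

theorem count_cj {n : ℕ} {s : Model} {J : Subgroup Model} (h : cjS s J = codeSub (sixL n))
    (hn : n < 6) (W : Subgroup Model) (hW : W ≤ J) (h8 : Nat.card W = 8) :
    ¬ OddCount (Nat.card {a : Model // a ∈ W ∧ IsE a}) := by
  have e : Nat.card {a : Model // a ∈ W ∧ IsE a} = Nat.card {a : Model // a ∈ cjS s W ∧ IsE a} :=
    Nat.card_congr ((MulAut.conj s).toEquiv.subtypeEquiv fun a => by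
      simp only [MulEquiv.toEquiv_eq_coe, MulEquiv.coe_toEquiv, MulAut.conj_apply]
      rw [cj_mem_iff, isE_cj])
  rw [e]
  exact six_count hn _ (h ▸ Subgroup.map_mono hW) (by rw [card_cjS, h8])

/-! ### No elements of odd order -/

/-- The action on the vectors. -/
@[reducible] def actV : DistribMulAction Model (I → ZMod 2) where
  smul g v := Matrix.mulVec (mt g) v
  one_smul v := by show Matrix.mulVec (mt 1) v = v; rw [mt_one, Matrix.one_mulVec]
  mul_smul g h v := by
    show Matrix.mulVec (mt (g * h)) v = Matrix.mulVec (mt g) (Matrix.mulVec (mt h) v)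
    rw [mt_mul, Matrix.mulVec_mulVec]
  smul_zero g := Matrix.mulVec_zero _
  smul_add g u v := Matrix.mulVec_add _ u v

/-- The number of singular preimages of a vector under a displacement. -/
def label (a : MB) (v : ℕ) : ℕ :=
  ((Finset.range 256).filter fun w => dB a w = v ∧ q8 w = true).card

theorem label_fix {g d : Model} {a : MB} (hg : Rep g a) (hc : d * g = g * d) {v : ℕ}
    (hv : v < 256) : label a (ap d v) = label a v := by
  have e : ∀ w < 256, dsp g (ap d w) = ap d (dsp g w) := fun w hw => by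
    have h := dsp_cj d g hw
    rwa [hc, mul_inv_cancel_right] at h
  refine (Finset.card_bij (fun w _ => ap d w) ?_ ?_ ?_).symm
  · intro w hw
    simp only [Finset.mem_filter, Finset.mem_range, ← hg.dsp_eq] at hw ⊢
    exact ⟨ap_lt _ _, by rw [e w hw.1, hw.2.1], by rw [q8_ap d hw.1, hw.2.2]⟩
  · intro u hu w hw h
    simp only [Finset.mem_filter, Finset.mem_range] at hu hw
    exact ap_inj d hu.1 hw.1 h
  · intro w hw
    simp only [Finset.mem_filter, Finset.mem_range, ← hg.dsp_eq] at hw ⊢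
    have e' := e _ (ap_lt d⁻¹ w)
    rw [ap_ap_inv d hw.1, hw.2.1] at e'
    refine ⟨ap d⁻¹ w, ⟨ap_lt _ _, ap_inj d (dsp_lt g (ap_lt _ _)) hv e'.symm, ?_⟩,
      ap_ap_inv d hw.1⟩
    rw [q8_ap d⁻¹ hw.1, hw.2.2]

/-- The checks of an exceptional node. -/
def certOK (e : ℕ × List ℕ × ℕ × ℕ × List (ℕ × List ℕ)) : Bool :=
  let L := sixL e.1
  Nat.blt e.1 6 && (e.2.1.all fun g => L.contains g) && L.contains e.2.2.1 && L.contains e.2.2.2.1 &&
    ((List.range 256).all fun v =>
      Nat.blt v 4 || e.2.1.any fun g => !Nat.beq (appB (phiB g) v) v) &&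
    !Nat.beq (label (phiB e.2.2.1) 1) (label (phiB e.2.2.1) 2) &&
    !Nat.beq (label (phiB e.2.2.1) 1) (label (phiB e.2.2.1) 3) &&
    !Nat.beq (label (phiB e.2.2.2.1) 2) (label (phiB e.2.2.2.1) 1) &&
    !Nat.beq (label (phiB e.2.2.2.1) 2) (label (phiB e.2.2.2.1) 3) &&
    !L.contains 1 && rootMask.testBit 1 &&
    Nat.beq e.2.2.2.2.length 3 &&
    L.contains ((e.2.2.2.2.map Prod.fst).foldr mm 0) &&
    e.2.2.2.2.all fun p =>
      Nat.blt p.1 4096 && Nat.beq (mm p.1 p.1) 0 && (L.all fun a => L.contains (mm (mm p.1 a) p.1)) &&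
      okList p.2 && cleanList p.2 && Nat.beq p.2.length 8 &&
      (p.2.all fun a => L.contains a || L.contains (mm p.1 a)) &&
      (Nat.beq (p.2.countP isEB) 1 || Nat.beq (p.2.countP isEB) 7)

theorem certs_ok : threeCerts.all certOK = true := by decide +kernel

theorem cert_odd {e : ℕ × List ℕ × ℕ × ℕ × List (ℕ × List ℕ)} (he : e ∈ threeCerts) :
    ∀ d : Model, Odd (orderOf d) → (∀ a ∈ codeSub (sixL e.1), d * a = a * d) → d = 1 := by
  intro d hd hc
  have h := List.all_eq_true.1 certs_ok e he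
  simp only [certOK, Bool.and_eq_true, Nat.blt_eq, List.all_eq_true, List.mem_range,
    Bool.or_eq_true, List.any_eq_true, Bool.not_eq_true', ← Bool.not_eq_true, Nat.beq_eq,
    List.contains_iff_mem] at h
  obtain ⟨⟨⟨⟨⟨⟨⟨⟨⟨⟨⟨⟨⟨hn, hg⟩, hh1⟩, hh2⟩, hfix⟩, l12⟩, l13⟩, l21⟩, l23⟩, -⟩, -⟩, -⟩, -⟩, -⟩ :=
    h
  obtain ⟨hok, hcl, -, -⟩ := six_spec hn
  letI := actV
  haveI : FaithfulSMul Model (I → ZMod 2) := ⟨fun {g h} e => mt_inj (Matrix.ext fun i j => by
    have h' := congrFun (e (Pi.single j 1)) i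
    change Matrix.mulVec (mt g) (Pi.single j 1) i = Matrix.mulVec (mt h) (Pi.single j 1) i at h'
    simpa [Matrix.mulVec_single_one] using h')⟩
  refine eq_one_of_fix (V := I → ZMod 2) (J := codeSub (sixL e.1))
    (fun v => funext fun i => CharTwo.add_self_eq_zero (v i)) (clean_codeSub hok hcl).two hd hc
    fun v hv => ?_
  have hphi : ∀ g ∈ sixL e.1, phi g ∈ codeSub (sixL e.1) := fun g hg =>
    (mem_codeSub hok).2 ⟨g, hg, rfl⟩
  have four : ∀ u < 256, (∀ a ∈ codeSub (sixL e.1), ap a u = u) → u < 4 := fun u hu hfx => by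
    by_contra h4
    obtain ⟨g, hg', hne⟩ := (hfix u hu).resolve_left h4
    refine hne ?_
    rw [← (rep_phi (okList_lt hok (hg g hg'))).ap_eq]
    exact hfx _ (hphi g (hg g hg'))
  have fixcl : ∀ u < 256, (∀ a ∈ codeSub (sixL e.1), ap a u = u) →
      ∀ a ∈ codeSub (sixL e.1), ap a (ap d u) = ap d u := fun u hu hfx a ha => by
    rw [← ap_mul, ← hc a ha, ap_mul, hfx a ha]
  have key : ∀ u < 256, (∀ a ∈ codeSub (sixL e.1), ap a u = u) → ap d u = u := by
    intro u hu hfx
    have h4 := four u hu hfx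
    have h4' := four _ (ap_lt d u) (fixcl u hu hfx)
    have hnz : ∀ w : ℕ, 0 < w → w < 256 → 0 < ap d w := fun w hw hw' => by
      rcases Nat.eq_zero_or_pos (ap d w) with h0 | h0
      · exact absurd (ap_inj d hw' (by norm_num) (h0.trans (ap_zero d).symm)) (by omega)
      · exact h0
    have e1 := label_fix (rep_phi (okList_lt hok hh1)) (hc _ (hphi _ hh1)) hu
    have e2 := label_fix (rep_phi (okList_lt hok hh2)) (hc _ (hphi _ hh2)) hu
    rcases Nat.eq_zero_or_pos u with rfl | hu0
    · exact ap_zero d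
    · have h0 := hnz u hu0 hu
      generalize ap d u = w at h4' h0 e1 e2
      interval_cases u <;> interval_cases w <;> first
        | rfl
        | exact absurd e1 l12 | exact absurd e1.symm l12
        | exact absurd e1 l13 | exact absurd e1.symm l13
        | exact absurd e2 l21 | exact absurd e2.symm l21
        | exact absurd e2 l23 | exact absurd e2.symm l23
  have hv' : ∀ a ∈ codeSub (sixL e.1), ap a (enc v) = enc v := fun a ha => by
    have e' : Matrix.mulVec (mt a) v = v := hv a ha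
    rw [ap, dv_enc, e']
  have e' := congrArg dv (key (enc v) (enc_lt v) hv')
  rw [ap, dv_enc, dv_enc] at e'
  exact e'

/-! ### The certificates -/

variable {ι : Type*} {R : ι → Subgroup Model}

/-- The three certified nodes are exceptional. -/
theorem three_exceptional (N : NodeFam zM Syl R)
    (hsix : ∀ j, Nat.card (R j) = 16 → ∃ n < 6, ∃ s ∈ Syl, cjS s (R j) = codeSub (sixL n))
    (h8node : ∀ i, Nat.card (R i) = 8 → Clean zM (R i) →
      (∃ k, Ext zM (R i) k) ∨ OddBound (R i))
    {e : ℕ × List ℕ × ℕ × ℕ × List (ℕ × List ℕ)} (he : e ∈ threeCerts) :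
    Exceptional zM (codeSub (sixL e.1)) := by
  have h := List.all_eq_true.1 certs_ok e he
  simp only [certOK, Bool.and_eq_true, Nat.blt_eq, List.all_eq_true, List.mem_range,
    Bool.or_eq_true, List.any_eq_true, Bool.not_eq_true', ← Bool.not_eq_true, Nat.beq_eq,
    List.contains_iff_mem] at h
  obtain ⟨⟨⟨⟨⟨⟨⟨⟨⟨⟨⟨⟨⟨hn, -⟩, -⟩, -⟩, -⟩, -⟩, -⟩, -⟩, -⟩, h1L⟩, hroot⟩, hlen⟩, hprod⟩, hps⟩ := h
  obtain ⟨hok, hcl, h16, -⟩ := six_spec hn
  have hc1 : (1 : ℕ) < 4096 := by norm_num
  refine N.exceptional sylow_conj zM_sq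
    (fun j hj => by obtain ⟨m, hm, s, hs, hRm⟩ := hsix j hj; exact cent_cj hs hRm hm)
    (clean_codeSub hok hcl) (by rw [card_codeSub hok, h16]) (sq_codeSub hok hcl) (cert_odd he)
    (x := zM) (root_conj hc1 hroot) (fun hz => h1L ((phi_mem_codeSub hok hc1).1 hz))
    (fun a ha => zM_central a (codeSub_le hok ha))
    (l := e.2.2.2.2.map fun p => phi p.1) ?_ ?_ ?_
  · rw [List.length_map, hlen]; exact ⟨1, rfl⟩
  · intro y hy
    obtain ⟨p, hp, rfl⟩ := List.mem_map.1 hy
    obtain ⟨⟨⟨⟨⟨⟨⟨hy4, hy2⟩, hnorm⟩, hok'⟩, hcl'⟩, h8⟩, hsub⟩, hcount⟩ := hps p hp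
    have hyy : phi p.1 * phi p.1 = 1 := by rw [phi_mul hy4 hy4, hy2, phi_zero]
    refine Or.inr (N.inverting sylow_conj IsE isE_cj OddCount
      (fun j hj W hW hW8 => by
        obtain ⟨m, hm, s, -, hRm⟩ := hsix j hj
        exact count_cj hRm hm W hW hW8) h8node hyy ?_ (codeSub_le hok')
      (clean_codeSub hok' hcl') (by rw [card_codeSub hok', h8]) ?_ ?_)
    · intro a ha
      obtain ⟨c, hc, rfl⟩ := (mem_codeSub hok).1 ha
      rw [phi_mul hy4 (okList_lt hok hc), phi_mul (mm_lt _ _) hy4]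
      exact (phi_mem_codeSub hok (mm_lt _ _)).2 (hnorm c hc)
    · intro a ha
      obtain ⟨c, hc, rfl⟩ := (mem_codeSub hok').1 ha
      rw [phi_mul hy4 (okList_lt hok' hc)]
      exact (hsub c hc).imp (fun h => (phi_mem_codeSub hok (okList_lt hok' hc)).2 h)
        (fun h => (phi_mem_codeSub hok (mm_lt _ _)).2 h)
    · rw [card_filter_codeSub hok' IsE isEB fun c hc => isEB_iff (okList_lt hok' hc)]
      exact hcount
  · have key : ∀ l : List (ℕ × List ℕ), (∀ p ∈ l, p.1 < 4096) →
        (l.map fun p => phi p.1).prod = phi ((l.map Prod.fst).foldr mm 0) ∧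
          (l.map Prod.fst).foldr mm 0 < 4096 := by
      intro l
      induction l with
      | nil => exact fun _ => ⟨phi_zero.symm, by norm_num⟩
      | cons p l ih =>
        intro hlt
        obtain ⟨i1, i2⟩ := ih fun q hq => hlt q (by simp [hq])
        simp only [List.map_cons, List.prod_cons, List.foldr_cons]
        exact ⟨by rw [i1, phi_mul (hlt p (by simp)) i2], mm_lt _ _⟩
    obtain ⟨k1, k2⟩ := key e.2.2.2.2 fun p hp => (hps p hp).1.1.1.1.1.1.1
    rw [k1]
    exact (phi_mem_codeSub hok k2).2 hprod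

/-- The mapped nodes. -/
def mappedOK : Bool :=
  (mappedCerts.map fun e => e.1) == [0, 1, 2] &&
    mappedCerts.all fun e =>
      Nat.blt e.2.2.2 4096 && (threeCerts.any fun p => Nat.beq p.1 e.2.2.1) &&
      Nat.blt e.2.2.1 6 &&
      (sixL e.1).all fun c => (sixL e.2.2.1).any fun d =>
        eqB (mulB (gensB.getD e.2.1 oneB) (phiB c))
          (mulB (phiB (mm (mm e.2.2.2 d) (invc e.2.2.2))) (gensB.getD e.2.1 oneB))

theorem mapped_ok : mappedOK = true := by decide +kernel

theorem three_indices : (threeCerts.map fun e => e.1) = [3, 4, 5] := by decide +kernel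

/-- Every node of order sixteen is conjugate to an exceptional one. -/
theorem six_exceptional (N : NodeFam zM Syl R)
    (hsix : ∀ j, Nat.card (R j) = 16 → ∃ n < 6, ∃ s ∈ Syl, cjS s (R j) = codeSub (sixL n))
    (h8node : ∀ i, Nat.card (R i) = 8 → Clean zM (R i) →
      (∃ k, Ext zM (R i) k) ∨ OddBound (R i))
    {n : ℕ} (hn : n < 6) : ∃ h, Exceptional zM (cjS h (codeSub (sixL n))) := by
  rcases Nat.lt_or_ge n 3 with h3 | h3
  · have h := mapped_ok
    simp only [mappedOK, Bool.and_eq_true, beq_iff_eq, List.all_eq_true, Nat.blt_eq,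
      List.any_eq_true, Nat.beq_eq, eqB_iff, decB_mul] at h
    obtain ⟨hidx, hall⟩ := h
    obtain ⟨e, he, rfl⟩ : ∃ e ∈ mappedCerts, e.1 = n := by
      have : n ∈ mappedCerts.map fun e => e.1 := by rw [hidx]; interval_cases n <;> simp
      simpa using this
    obtain ⟨⟨⟨hs, ⟨p, hp, hpt⟩⟩, ht6⟩, himg⟩ := hall e he
    obtain ⟨hokn, -, h16n, -⟩ := six_spec hn
    obtain ⟨hokt, -, h16t, -⟩ := six_spec ht6
    refine ⟨(phi e.2.2.2)⁻¹ * gen e.2.1, ?_⟩
    rw [show cjS ((phi e.2.2.2)⁻¹ * gen e.2.1) (codeSub (sixL e.1)) = codeSub (sixL p.1) from ?_]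
    · exact three_exceptional N hsix h8node hp
    rw [hpt]
    refine Subgroup.eq_of_le_of_card_ge ?_ ?_
    · intro x hx
      obtain ⟨a, ha, rfl⟩ := mem_cjS.1 hx
      obtain ⟨c, hc, rfl⟩ := (mem_codeSub hokn).1 ha
      obtain ⟨d, hd, he'⟩ := himg c hc
      have hd4 := okList_lt hokt hd
      have e1 : gen e.2.1 * phi c = phi (mm (mm e.2.2.2 d) (invc e.2.2.2)) * gen e.2.1 := by
        refine mt_inj ?_
        rw [mt_mul, mt_mul, (rep_gen e.2.1).1, (rep_phi (okList_lt hokn hc)).1,
          (rep_phi (mm_lt _ _)).1]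
        exact he'
      rw [← phi_mul (mm_lt _ _) (show invc e.2.2.2 < 4096 from mm_lt _ _), ← phi_mul hs hd4,
        ← phi_inv hs] at e1
      rw [show (phi e.2.2.2)⁻¹ * gen e.2.1 * phi c * ((phi e.2.2.2)⁻¹ * gen e.2.1)⁻¹ =
        (phi e.2.2.2)⁻¹ * (gen e.2.1 * phi c) * (gen e.2.1)⁻¹ * phi e.2.2.2 by group, e1,
        show (phi e.2.2.2)⁻¹ * (phi e.2.2.2 * phi d * (phi e.2.2.2)⁻¹ * gen e.2.1) *
          (gen e.2.1)⁻¹ * phi e.2.2.2 = phi d by group]
      exact (mem_codeSub hokt).2 ⟨d, hd, rfl⟩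
    · rw [card_cjS, card_codeSub hokn, card_codeSub hokt, h16n, h16t]
  · obtain ⟨e, he, rfl⟩ : ∃ e ∈ threeCerts, e.1 = n := by
      have : n ∈ threeCerts.map fun e => e.1 := by rw [three_indices]; interval_cases n <;> simp
      simpa using this
    exact ⟨1, by rw [cjS_one]; exact three_exceptional N hsix h8node he⟩

end CfsgLib.DFour.CensusModel
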