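import Cfsg.Agent.Lib.DFour.CensusModelExcept
import Cfsg.Agent.Lib.DFour.CensusGeneric

/-!
The facts about the model from a closed family of nodes.
-/

set_option autoImplicit false

namespace CfsgLib.DFour.CensusModel

open CfsgLib.DFour.Census
open CfsgLib.DFour (Model)

universe u

variable {ι : Type*} {R : ι → Subgroup Model}

/-- The census facts from the closure and counting certificates. -/
theorem facts_of_nodes (N : NodeFam zM Syl R)
    (hsix : ∀ j, Nat.card (R j) = 16 → ∃ n < 6, ∃ s ∈ Syl, cjS s (R j) = codeSub (sixL n))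
    (hnode : ∀ i, Nat.card (R i) ≠ 16 → Clean zM (R i) →
      (∃ k, Ext zM (R i) k) ∨ OddBound (R i)) : StmtCensusModel := by
  refine ⟨zM, Syl, order_zM, card_Syl, zM_mem, zM_central, center_Syl, sylow_conj, fusion,
    fun J hJS hJ => N.crit (fun i hi => ?_) J hJS hJ⟩
  by_cases h16 : Nat.card (R i) = 16
  · obtain ⟨n, hn, s, -, hR⟩ := hsix i h16
    obtain ⟨h, he⟩ := six_exceptional N hsix
      (fun i h8 hc => hnode i (by rw [h8]; norm_num) hc) hn
    exact Or.inr (Or.inr ⟨h * s, by rw [← cjS_cjS, hR]; exact he⟩)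
  · exact (hnode i h16 hi).imp id Or.inl

/-- The census from the certificates. -/
theorem census_of_nodes (N : NodeFam zM Syl R)
    (hsix : ∀ j, Nat.card (R j) = 16 → ∃ n < 6, ∃ s ∈ Syl, cjS s (R j) = codeSub (sixL n))
    (hnode : ∀ i, Nat.card (R i) ≠ 16 → Clean zM (R i) →
      (∃ k, Ext zM (R i) k) ∨ OddBound (R i)) : CfsgLib.DFour.CensusStmt.{u} :=
  censusGeneric (facts_of_nodes N hsix hnode)

end CfsgLib.DFour.CensusModel
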