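import Cfsg.Agent.Lib.DFour.CensusModelBound
import Cfsg.Agent.Lib.DFour.CensusModelMain

/-!
The census facts hold in the model.
-/

set_option autoImplicit false
set_option maxRecDepth 100000

namespace CfsgLib.DFour.CensusModel

open CfsgLib.DFour.Census
open CfsgLib.DFour (Model)

universe u

/-- node of order sixteen, index of the representative, code of a conjugating element -/
def sixW : List (ℕ × ℕ × ℕ) :=
  [(462, 0, 64), (463, 1, 0), (464, 2, 0), (465, 3, 32), (466, 4, 32), (467, 5, 2)]

/-- The witnesses are right. -/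
def sixWOK : Bool :=
  ((List.range 468).all fun i => (nEls (nodeAt i)).length != 16 || sixW.any fun e => e.1 == i) &&
    sixW.all fun e => Nat.blt e.2.1 6 && Nat.blt e.2.2 4096 &&
      (nEls (nodeAt e.1)).all fun a => (sixL e.2.1).contains (cjc e.2.2 a)

theorem sixW_ok : sixWOK = true := by decide +kernel

/-- Every node of order sixteen is conjugate to one of the six. -/
theorem node_six (j : Fin 468) (h16 : Nat.card (node j) = 16) :
    ∃ n < 6, ∃ s ∈ Syl, cjS s (node j) = codeSub (sixL n) := by
  have h := sixW_ok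
  simp only [sixWOK, Bool.and_eq_true, List.all_eq_true, Bool.or_eq_true, List.any_eq_true,
    bne_iff_ne, beq_iff_eq, Nat.blt_eq, List.contains_iff_mem, List.mem_range] at h
  rw [card_node] at h16
  obtain ⟨e, he, hej⟩ := (h.1 j.1 j.2).resolve_left (fun hne => hne h16)
  obtain ⟨⟨hn, hs⟩, hall⟩ := h.2 e he
  obtain ⟨hok, -, hlen, -⟩ := six_spec hn
  refine ⟨e.2.1, hn, phi e.2.2, mem_phi hs, ?_⟩
  refine Subgroup.eq_of_le_of_card_ge ?_ ?_
  · intro g hg
    obtain ⟨a, ha, rfl⟩ := mem_cjS.1 hg
    obtain ⟨c, hc, rfl⟩ := ha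
    rw [hej] at hall
    refine (mem_codeSub hok).2 ⟨cjc e.2.2 c, hall c hc, ?_⟩
    rw [phi_mul hs (nEls_lt hc), phi_inv hs,
      phi_mul (mm_lt _ _) (show invc e.2.2 < 4096 from mm_lt _ _)]
    rfl
  · rw [card_cjS, card_codeSub hok, hlen, card_node, h16]

/-- The census facts of the model. -/
theorem censusModel : StmtCensusModel :=
  facts_of_nodes nodeFam node_six fun i h16 hC => node_split i h16 hC

/-- The census. -/
theorem census : CfsgLib.DFour.CensusStmt.{u} := censusGeneric censusModel

end CfsgLib.DFour.CensusModel
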