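import Cfsg.Agent.Lib.DFour.CensusModelNodes
import Cfsg.Agent.Lib.DFour.CensusModelFusionData
import Cfsg.Agent.Lib.DFour.CensusModelCode

/-!
The kernel checks of the census tree.
-/

set_option autoImplicit false
set_option maxRecDepth 100000

namespace CfsgLib.DFour.CensusModel

/-- Unpack numbers of `w` bits. -/
def unp (w : ℕ) : ℕ → ℕ → List ℕ
  | 0, _ => []
  | n + 1, x => x % 2 ^ w :: unp w n (x >>> w)

/-- The mask of a list. -/
def maskOf (l : List ℕ) : ℕ := l.foldl (fun m c => m ||| (1 <<< c)) 0

/-- The elements of a node. -/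
def nEls (n : NodeT) : List ℕ := unp 12 n.2.2.1 n.2.2.2.1

/-- The centralizer of a node. -/
def nCent (n : NodeT) : List ℕ := unp 12 n.2.2.2.2.1 n.2.2.2.2.2.1

/-- The cosets of a node, packed. -/
def nEnt (n : NodeT) : List ℕ := unp 34 n.2.2.2.2.2.2.1 n.2.2.2.2.2.2.2

/-- The node of a number. -/
def nodeAt (i : ℕ) : NodeT := nodeList.getD i (0, 0, 0, 0, 0, 0, 0, 0)

/-- The generator of a node. -/
def kOf (n : NodeT) : ℕ := n.2.1

/-- Fields of a packed coset. -/
def eK (e : ℕ) : ℕ := e % 4096
/-- The kind of a packed coset. -/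
def eT (e : ℕ) : ℕ := (e >>> 12) % 2
/-- The root witness or the conjugator. -/
def eX (e : ℕ) : ℕ := (e >>> 13) % 4096
/-- The child. -/
def eJ (e : ℕ) : ℕ := e >>> 25

/-- Conjugation of codes. -/
def cjc (s a : ℕ) : ℕ := mm (mm s a) (invc s)

/-- A node against its parent. -/
def childOK (i : ℕ) (n : NodeT) : Bool :=
  let p := nodeAt n.1
  let els := nEls p
  let k := kOf n
  Nat.blt n.1 i && (nCent p).contains k && !els.contains k && els.contains (mm k k) &&
    nEls n == els ++ els.map (mm k) &&
    nCent n == (nCent p).filter (fun a => mm k a == mm a k) &&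
    (nEls n).all fun a => !rootMask.testBit a

/-- The cosets of a node are covered. -/
def entOK (n : NodeT) (e : ℕ) : Bool :=
  let els := nEls n
  let k := eK e
  (nCent n).contains k && !els.contains k && els.contains (mm k k) &&
    if eT e = 0 then els.contains (eX e) && rootMask.testBit (mm k (eX e))
    else
      let ch := nEls (nodeAt (eJ e))
      Nat.blt (eJ e) 468 && ch.length == 2 * els.length &&
        (els ++ els.map (mm k)).all fun a => ch.contains (cjc (eX e) a)

/-- The mask of the listed cosets. -/
def covMask (n : NodeT) : ℕ :=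
  maskOf (nEls n ++ (nEnt n).flatMap fun e => (nEls n).map (mm (eK e)))

/-- A node is complete. -/
def coverOK (n : NodeT) : Bool :=
  let els := nEls n
  let m := covMask n
  (nEnt n).all (entOK n) && (nCent n).all fun c => m.testBit c || !els.contains (mm c c)

/-- The root of the tree. -/
def rootOK : Bool :=
  nEls (nodeAt 0) == [0] && nCent (nodeAt 0) == List.range 4096 && !rootMask.testBit 0 &&
    nodeList.length == 468

/-- The nodes `a, …, a + m - 1` against their parents. -/
def childrenOK (a m : ℕ) : Bool :=
  (List.range' a m).all fun i => i == 0 || childOK i (nodeAt i)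

/-- The nodes `a, …, a + m - 1` are complete. -/
def coversOK (a m : ℕ) : Bool :=
  (List.range' a m).all fun i => coverOK (nodeAt i)

end CfsgLib.DFour.CensusModel
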