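import Cfsg.Agent.Lib.DFour.CensusDefs

/-!
# Conjugates of census nodes
-/

set_option autoImplicit false
set_option linter.unusedSectionVars false

namespace CfsgLib.DFour.Census

open Subgroup

universe u

variable {H : Type u} [Group H] {z : H} {J : Subgroup H}

/-- The conjugate of a subgroup. -/
abbrev cjS (h : H) (J : Subgroup H) : Subgroup H := J.map (MulAut.conj h).toMonoidHom

theorem mem_cjS {h x : H} : x ∈ cjS h J ↔ ∃ a ∈ J, h * a * h⁻¹ = x := by simp [cjS]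

theorem cj_mem_cjS (h : H) {a : H} (ha : a ∈ J) : h * a * h⁻¹ ∈ cjS h J := mem_cjS.2 ⟨a, ha, rfl⟩

theorem cj_mem_iff {h a : H} : h * a * h⁻¹ ∈ cjS h J ↔ a ∈ J :=
  ⟨fun hm => by
    obtain ⟨b, hb, e⟩ := mem_cjS.1 hm
    rwa [← mul_left_cancel (mul_right_cancel e)], fun ha => cj_mem_cjS h ha⟩

theorem cjS_cjS (g h : H) : cjS g (cjS h J) = cjS (g * h) J := by
  ext x
  simp only [mem_cjS]
  constructor
  · rintro ⟨_, ⟨b, hb, rfl⟩, rfl⟩; exact ⟨b, hb, by group⟩
  · rintro ⟨b, hb, rfl⟩; exact ⟨h * b * h⁻¹, ⟨b, hb, rfl⟩, by group⟩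

theorem cjS_one : cjS 1 J = J := by ext x; simp [mem_cjS]

theorem cjS_inv_cjS (h : H) : cjS h⁻¹ (cjS h J) = J := by rw [cjS_cjS, inv_mul_cancel, cjS_one]

theorem card_cjS (h : H) : Nat.card (cjS h J) = Nat.card J :=
  card_map_of_injective (MulAut.conj h).injective

theorem isConj_cj (h x : H) : IsConj z (h * x * h⁻¹) ↔ IsConj z x :=
  ⟨fun e => e.trans (isConj_iff.2 ⟨h⁻¹, by group⟩), fun e => e.trans (isConj_iff.2 ⟨h, rfl⟩)⟩

theorem Clean.cj (c : Clean z J) (h : H) : Clean z (cjS h J) where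
  two := c.two.map _
  ab := by
    rintro _ ⟨a, ha, rfl⟩ _ ⟨b, hb, rfl⟩
    rw [← map_mul, ← map_mul, c.ab a ha b hb]
  free := by
    rintro _ ⟨a, ha, rfl⟩
    simpa using fun e => c.free a ha ((isConj_cj h a).1 e)

theorem Ext.cj {k : H} (e : Ext z J k) (h : H) : Ext z (cjS h J) (h * k * h⁻¹) where
  notMem := fun hm => e.notMem (cj_mem_iff.1 hm)
  comm := by
    rintro _ ⟨a, ha, rfl⟩
    simp only [MulEquiv.toMonoidHom_eq_coe, MonoidHom.coe_coe, MulAut.conj_apply]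
    calc h * k * h⁻¹ * (h * a * h⁻¹) = h * (k * a) * h⁻¹ := by group
      _ = h * (a * k) * h⁻¹ := by rw [e.comm a ha]
      _ = _ := by group
  sq := by
    rw [show h * k * h⁻¹ * (h * k * h⁻¹) = h * (k * k) * h⁻¹ by group]
    exact cj_mem_cjS h e.sq
  free := by
    rintro _ ⟨a, ha, rfl⟩
    simp only [MulEquiv.toMonoidHom_eq_coe, MonoidHom.coe_coe, MulAut.conj_apply]
    rw [show h * k * h⁻¹ * (h * a * h⁻¹) = h * (k * a) * h⁻¹ by group, isConj_cj]
    exact e.free a ha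

theorem cj_mem_centralizer {h a : H} :
    h * a * h⁻¹ ∈ centralizer (cjS h J : Set H) ↔ a ∈ centralizer (J : Set H) := by
  simp only [mem_centralizer_iff]
  constructor
  · intro hc b hb
    have e := hc _ (cj_mem_cjS h hb)
    calc b * a = h⁻¹ * (h * b * h⁻¹ * (h * a * h⁻¹)) * h := by group
      _ = h⁻¹ * (h * a * h⁻¹ * (h * b * h⁻¹)) * h := by rw [e]
      _ = a * b := by group
  · rintro hc _ ⟨b, hb, rfl⟩
    simp only [MulEquiv.toMonoidHom_eq_coe, MonoidHom.coe_coe, MulAut.conj_apply]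
    calc h * b * h⁻¹ * (h * a * h⁻¹) = h * (b * a) * h⁻¹ := by group
      _ = h * (a * b) * h⁻¹ := by rw [hc b hb]
      _ = _ := by group

theorem oddBound_cj [Finite H] (b : OddBound J) (h : H) : OddBound (cjS h J) := by
  intro K hK hodd
  have := b (cjS h⁻¹ K) (by
    rintro _ ⟨x, hx, rfl⟩
    simp only [MulEquiv.toMonoidHom_eq_coe, MonoidHom.coe_coe, MulAut.conj_apply]
    refine (cj_mem_centralizer (h := h)).1 ?_
    convert hK hx using 1
    group) (by rwa [card_cjS])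
  rw [card_cjS] at this
  rw [card_cjS]
  refine lt_of_lt_of_le this (Nat.card_le_card_of_injective
    (fun x => ⟨h * x.1 * h⁻¹, cj_mem_centralizer.2 x.2.1, fun hm => x.2.2.1 (cj_mem_iff.1 hm), ?_⟩) ?_)
  · rw [show h * x.1 * h⁻¹ * (h * x.1 * h⁻¹) = h * (x.1 * x.1) * h⁻¹ by group]
    exact cj_mem_cjS h x.2.2.2
  · intro x y e
    exact Subtype.ext (mul_left_cancel (mul_right_cancel (congrArg Subtype.val e :)))

end CfsgLib.DFour.Census
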