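import Mathlib
import Cfsg.Prelude.Def_Solvable
import Cfsg.Prelude.Def_CaseTheorems
import Cfsg.Prelude.Def_Transfer
import Cfsg.Prelude.Def_TwoFusion
import Cfsg.Prelude.Def_Classical

/-!
# `Ω⁺₈(2)` from the centralizer of a root involution (statement S3345): interface

`C = C(t)` has the shape `2^(1+8).(S₃ × S₃ × S₃)`. If `t` is not isolated, it has a conjugate `q`
in `Q = O₂(C)`; the pair `(t, q)` determines the Curtis–Tits generators of type `D₄`, and the group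
they generate is everything because it contains `C` and passes the whole-group census.
-/

set_option autoImplicit false
set_option linter.unusedVariables false

namespace CfsgLib.DFour

open Subgroup

universe u

variable {G : Type u} [Group G]

/-- The hypotheses on the centralizer of the involution `t`. -/
structure Setting (t : G) where
  /-- the core of the centralizer -/
  Q : Subgroup G
  /-- the map onto the Levi complement -/
  φ : ↥(centralizer ({t} : Set G)) →* (Fin 3 → Equiv.Perm (Fin 3))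
  invol : orderOf t = 2
  Q_eq : Q = (Cfsg.pCore 2 ↥(centralizer ({t} : Set G))).map (centralizer ({t} : Set G)).subtype
  Q_le : Q ≤ centralizer ({t} : Set G)
  Q_card : Nat.card Q = 2 ^ 9
  t_mem : t ∈ Q
  center : ∀ a ∈ Q, (∀ b ∈ Q, a * b = b * a) → a = 1 ∨ a = t
  sq : ∀ a ∈ Q, a * a = 1 ∨ a * a = t
  comm : ∀ a ∈ Q, ∀ b ∈ Q, a * b * a⁻¹ * b⁻¹ = 1 ∨ a * b * a⁻¹ * b⁻¹ = t
  normal : ∀ c ∈ centralizer ({t} : Set G), ∀ a ∈ Q, c * a * c⁻¹ ∈ Q
  self : centralizer (Q : Set G) ≤ Q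
  surj : Function.Surjective φ
  ker : ∀ c : ↥(centralizer ({t} : Set G)), φ c = 1 ↔ (c : G) ∈ Q

namespace Setting

/-- The core of the centralizer of the conjugate `g t g⁻¹`. -/
def Qc {t : G} (S : Setting t) (g : G) : Subgroup G := S.Q.map (MulAut.conj g).toMonoidHom

end Setting

/-- The facts about a conjugate `q = g t g⁻¹ ≠ t` of `t` in `Q`. -/
structure PairData {t : G} (S : Setting t) (g : G) : Prop where
  mem : g * t * g⁻¹ ∈ S.Q
  ne : g * t * g⁻¹ ≠ t
  t_mem : t ∈ S.Qc g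
  meet_card : Nat.card (S.Q ⊓ S.Qc g : Subgroup G) = 32
  meet_sq : ∀ a ∈ S.Q ⊓ S.Qc g, a * a = 1
  cent_card : Nat.card (centralizer ({t, g * t * g⁻¹} : Set G)) = 2 ^ 11
  /-- the stabilizer of `q` modulo `t` is a Sylow subgroup -/
  stab : ∀ c : ↥(centralizer ({t} : Set G)),
    ((c : G) * (g * t * g⁻¹) * (c : G)⁻¹ = g * t * g⁻¹ ∨
      (c : G) * (g * t * g⁻¹) * (c : G)⁻¹ = g * t * g⁻¹ * t) → S.φ c * S.φ c = 1
  /-- an element of order three of one factor has no fixed point on `Q` modulo `t` -/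
  free : ∀ c : ↥(centralizer ({t} : Set G)), S.φ c ≠ 1 → S.φ c ^ 3 = 1 →
    (∃ i, ∀ j, j ≠ i → S.φ c j = 1) → ∀ a ∈ S.Q,
      ((c : G) * a * (c : G)⁻¹ = a ∨ (c : G) * a * (c : G)⁻¹ = a * t) → a = 1 ∨ a = t
  /-- the fixed points of the Sylow subgroup on `Q` modulo `t` -/
  fixed : ∀ a ∈ S.Q, (∀ b ∈ S.Qc g ⊓ centralizer ({t} : Set G),
    b * a * b⁻¹ = a ∨ b * a * b⁻¹ = a * t) →
      a = 1 ∨ a = t ∨ a = g * t * g⁻¹ ∨ a = g * t * g⁻¹ * t

/-- Coordinates on the centralizer: `w S` is the root `α₂ + Σ_{i ∈ S} αᵢ`, `x i` and `y i` are the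
roots `± αᵢ` of the three outer nodes. -/
structure Frame (G : Type u) where
  /-- the roots with coefficient one at the central node -/
  w : (Fin 3 → Bool) → G
  /-- the positive outer fundamental roots -/
  x : Fin 3 → G
  /-- the negative outer fundamental roots -/
  y : Fin 3 → G

/-- The relations of the coordinates. -/
structure Frame.Ok {t : G} (S : Setting t) (g : G) (F : Frame G) : Prop where
  top : F.w (fun _ => true) = g * t * g⁻¹
  w_mem : ∀ a, F.w a ∈ S.Q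
  w_sq : ∀ a, F.w a * F.w a = 1
  w_conj : ∀ a, IsConj t (F.w a)
  w_comm : ∀ a b, F.w a * F.w b =
    F.w b * F.w a * (if b = (fun i => !a i) then t else 1)
  x_mem : ∀ i, F.x i ∈ centralizer ({t} : Set G)
  y_mem : ∀ i, F.y i ∈ centralizer ({t} : Set G)
  x_memc : ∀ i, F.x i ∈ S.Qc g
  x_sq : ∀ i, F.x i * F.x i = 1
  y_sq : ∀ i, F.y i * F.y i = 1
  braid : ∀ i, F.x i * F.y i * F.x i = F.y i * F.x i * F.y i
  xy_ne : ∀ i, F.x i ≠ F.y i
  xx : ∀ i j, F.x i * F.x j = F.x j * F.x i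
  yy : ∀ i j, F.y i * F.y j = F.y j * F.y i
  xy : ∀ i j, i ≠ j → F.x i * F.y j = F.y j * F.x i
  x_fix : ∀ i a, a i = true → F.x i * F.w a * F.x i = F.w a
  x_add : ∀ i a, a i = false →
    F.x i * F.w a * F.x i = F.w a * F.w (Function.update a i true)
  y_fix : ∀ i a, a i = false → F.y i * F.w a * F.y i = F.w a
  y_add : ∀ i a, a i = true →
    F.y i * F.w a * F.y i = F.w a * F.w (Function.update a i false)
  x_conj : ∀ i, IsConj t (F.x i)
  x_t : ∀ i, ¬ IsConj t (F.x i * t)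
  gen : centralizer ({t} : Set G) ≤
    closure (Set.range F.w ∪ Set.range F.x ∪ Set.range F.y)
  /-- all other conjugates of `t` in `Q` form one orbit -/
  in_Q : ∀ a ∈ S.Q, IsConj t a → a ≠ t →
    ∃ c ∈ centralizer ({t} : Set G), c * (g * t * g⁻¹) * c⁻¹ = a

/-- Candidates for the Curtis–Tits generators of type `D₄`: `x i, y i = ±αᵢ` for the outer nodes,
`e, f = ±α₂`, `r i = αᵢ + α₂` and `z i = -αᵢ - α₂`. -/
structure Nodes (G : Type u) where
  /-- `αᵢ` -/
  x : Fin 3 → G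
  /-- `-αᵢ` -/
  y : Fin 3 → G
  /-- `αᵢ + α₂` -/
  r : Fin 3 → G
  /-- `-αᵢ - α₂` -/
  z : Fin 3 → G
  /-- `α₂` -/
  e : G
  /-- `-α₂` -/
  f : G

namespace Nodes

/-- The subgroup generated by the nodes. -/
def M (N : Nodes G) : Subgroup G := closure (Set.range N.x ∪ Set.range N.y ∪ {N.e, N.f})

end Nodes

/-- The Curtis–Tits relations over the field of two elements. -/
structure Nodes.Rels (N : Nodes G) : Prop where
  x_sq : ∀ i, N.x i * N.x i = 1
  y_sq : ∀ i, N.y i * N.y i = 1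
  r_sq : ∀ i, N.r i * N.r i = 1
  z_sq : ∀ i, N.z i * N.z i = 1
  e_sq : N.e * N.e = 1
  f_sq : N.f * N.f = 1
  e_ne : N.e ≠ 1
  xx : ∀ i j, N.x i * N.x j = N.x j * N.x i
  yy : ∀ i j, N.y i * N.y j = N.y j * N.y i
  xy : ∀ i j, i ≠ j → N.x i * N.y j = N.y j * N.x i
  x_e : ∀ i, N.x i * N.e * N.x i * N.e = N.r i
  y_f : ∀ i, N.y i * N.f * N.y i * N.f = N.z i
  xr : ∀ i, N.x i * N.r i = N.r i * N.x i
  er : ∀ i, N.e * N.r i = N.r i * N.e
  yz : ∀ i, N.y i * N.z i = N.z i * N.y i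
  fz : ∀ i, N.f * N.z i = N.z i * N.f
  xf : ∀ i, N.x i * N.f = N.f * N.x i
  ye : ∀ i, N.y i * N.e = N.e * N.y i
  r_f : ∀ i, N.r i * N.f * N.r i * N.f = N.x i
  r_y : ∀ i, N.r i * N.y i * N.r i * N.y i = N.e
  z_x : ∀ i, N.z i * N.x i * N.z i * N.x i = N.f
  z_e : ∀ i, N.z i * N.e * N.z i * N.e = N.y i

/-- The concrete group `Ω⁺₈(2)`. -/
abbrev Model : Type :=
  ↥(Cfsg.Omega (ZMod 2) (Cfsg.quadFormPlus 4 (ZMod 2)))

/-! ## The statements of the pieces -/

/-- Piece: no conjugate in `Q` means isolated. -/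
def IsolatedStmt : Prop := ∀ (G : Type u) [Group G] [Finite G] (t : G) (S : Setting t),
  (∀ g : G, g * t * g⁻¹ ∈ S.Q → g * t * g⁻¹ = t) → Cfsg.IsIsolatedInvolution t

/-- Piece: the facts about a conjugate in `Q`. -/
def PairStmt : Prop := ∀ (G : Type u) [Group G] [Finite G] (t : G) (S : Setting t) (g : G),
  g * t * g⁻¹ ∈ S.Q → g * t * g⁻¹ ≠ t → PairData S g

/-- Piece: the coordinates. -/
def FrameStmt : Prop := ∀ (G : Type u) [Group G] [Finite G] (t : G) (S : Setting t) (g : G),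
  PairData S g → ∃ F : Frame G, F.Ok S g

/-- Piece: the nodes. -/
def NodesStmt : Prop := ∀ (G : Type u) [Group G] [Finite G] (t : G) (S : Setting t) (g : G),
  PairData S g → ∀ F : Frame G, F.Ok S g → ∃ N : Nodes G, N.Rels ∧
    centralizer ({t} : Set G) ≤ N.M ∧ ∃ m ∈ N.M, m * t * m⁻¹ = g * t * g⁻¹

/-- Piece: Curtis–Tits. -/
def HomStmt : Prop := ∀ (G : Type u) [Group G] [Finite G] (N : Nodes G), N.Rels →
  (∀ m ∈ N.M, (∀ a ∈ N.M, m * a = a * m) → m = 1) → Nonempty (Model ≃* ↥N.M)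

/-- Piece: the census. -/
def CensusStmt : Prop := ∀ (G : Type u) [Group G] [Finite G] (t : G) (M : Subgroup G),
  orderOf t = 2 → centralizer ({t} : Set G) ≤ M →
  4096 ∣ Nat.card (centralizer ({t} : Set G)) → Nonempty (Model ≃* ↥M) →
  (∀ a ∈ centralizer ({t} : Set G), IsConj t a →
    (∃ u ∈ (Cfsg.pCore 2 ↥(centralizer ({t} : Set G))).map (centralizer ({t} : Set G)).subtype,
      ∃ v ∈ (Cfsg.pCore 2 ↥(centralizer ({t} : Set G))).map (centralizer ({t} : Set G)).subtype,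
        a * u = u * a ∧ a * v = v * a ∧ u * v ≠ v * u) →
    ∃ m ∈ M, m * t * m⁻¹ = a) → M = ⊤

end CfsgLib.DFour
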