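import Cfsg.Agent.Lib.DFour.FrameLift

/-!
# The coordinates on the centralizer (S3345, piece `Frame`)

`w a` is the conjugate of `q` by the Weyl elements `n i = x i * y i * x i` of the coordinates where
`a` is false.
-/

set_option autoImplicit false
set_option linter.unusedSectionVars false
set_option linter.unusedSimpArgs false

namespace CfsgLib.DFour.FrameProof

open Subgroup PairPerm Pair

universe u

variable {G : Type u} [Group G] [Finite G] {t : G} {S : Setting t} {g : G}

theorem perm_gen' : ∀ s x : Equiv.Perm (Fin 3), s ≠ 1 ∧ s * s = 1 →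
    x = 1 ∨ x = rot ∨ x = rot * rot ∨ x = s ∨ x = rot * s ∨ x = rot * rot * s := by decide

theorem fin_false : ∀ (b : Fin 3 → Bool) (i : Fin 3), b i = false →
    (b (i + 1) = true ∧ b (i + 2) = true) ∨ (b (i + 1) = false ∧ b (i + 2) = true) ∨
      (b (i + 1) = true ∧ b (i + 2) = false) ∨ (b = fun _ => false) := by decide

theorem fin_true : ∀ b : Fin 3 → Bool, (b = fun _ => true) ∨ ∃ i, b i = false := by decide

/-- The Weyl word of a coordinate vector. -/
def word (n : Fin 3 → G) (a : Fin 3 → Bool) (i : Fin 3) : G := if a i then 1 else n i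

omit [Finite G] in
theorem word_true {n : Fin 3 → G} {a : Fin 3 → Bool} {i : Fin 3} (h : a i = true) :
    word n a i = 1 := by simp [word, h]

omit [Finite G] in
theorem word_false {n : Fin 3 → G} {a : Fin 3 → Bool} {i : Fin 3} (h : a i = false) :
    word n a i = n i := by simp [word, h]

/-- The product of the Weyl words. -/
def prod3 (n : Fin 3 → G) (a : Fin 3 → Bool) : G := word n a 0 * word n a 1 * word n a 2

/-- The product of the words of the other two coordinates. -/
def rest (n : Fin 3 → G) (a : Fin 3 → Bool) (i : Fin 3) : G :=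
  word n a (i + 1) * word n a (i + 2)

omit [Finite G] in
theorem rest_congr {n : Fin 3 → G} {a b : Fin 3 → Bool} {i : Fin 3}
    (h : ∀ j, j ≠ i → a j = b j) : rest n a i = rest n b i := by
  simp only [rest, word, h _ (fin_ne1 i), h _ (fin_ne2 i)]

omit [Finite G] in
theorem prod3_eq {n : Fin 3 → G} (hn : ∀ i j, n i * n j = n j * n i) (a : Fin 3 → Bool)
    (i : Fin 3) : prod3 n a = word n a i * rest n a i := by
  have hw : ∀ i j, word n a i * word n a j = word n a j * word n a i := by
    intro i j
    simp only [word]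
    split <;> split <;> simp [hn i j]
  fin_cases i
  · exact mul_assoc _ _ _
  · show word n a 0 * word n a 1 * word n a 2 = word n a 1 * (word n a 2 * word n a 0)
    rw [← mul_assoc (word n a 1) (word n a 2) (word n a 0), mul_assoc (word n a 0)]
    exact ((show Commute (word n a 0) (word n a 1) from hw 0 1).mul_right
      (show Commute (word n a 0) (word n a 2) from hw 0 2)).eq
  · show word n a 0 * word n a 1 * word n a 2 = word n a 2 * (word n a 0 * word n a 1)
    exact ((show Commute (word n a 2) (word n a 0) from hw 2 0).mul_right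
      (show Commute (word n a 2) (word n a 1) from hw 2 1)).eq.symm

namespace Flips

variable (F : Flips S g)
include F

/-- Existence of the coordinates. -/
theorem exists_frame : ∃ Fr : Frame G, Fr.Ok S g := by
  obtain ⟨X, hXQ, hXφ, hXc, hXX, hXt⟩ := F.exists_X
  have hsq : ∀ i, X i * X i = 1 := fun i => by
    obtain ⟨c, hc⟩ := isConj_iff.1 (hXc i)
    refine Subtype.ext ?_
    show (X i : G) * X i = 1
    rw [← hc]
    calc c * t * c⁻¹ * (c * t * c⁻¹) = c * (t * t) * c⁻¹ := by simp [mul_assoc]
      _ = 1 := by rw [t_sq S]; simp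
  obtain ⟨e, heφ, he3, hee, hXe, hinv⟩ := F.exists_complement hXφ hsq hXX hXt hXc
  set Y : Fin 3 → ↥(centralizer ({t} : Set G)) := fun i => e i * X i * (e i)⁻¹ with hY
  have hYY : ∀ i, Y i * Y i = 1 := fun i => by
    calc Y i * Y i = e i * (X i * X i) * (e i)⁻¹ := by simp [hY, mul_assoc]
      _ = 1 := by rw [hsq]; simp
  have hYc : ∀ i, IsConj t (Y i : G) := fun i =>
    (hXc i).trans (isConj_iff.2 ⟨(e i : G), rfl⟩)
  have hee2 : ∀ i, (e i)⁻¹ = e i ^ 2 := fun i =>
    (eq_inv_of_mul_eq_one_left (by rw [← pow_succ]; exact he3 i)).symm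
  have hYφ : ∀ i, S.φ (Y i) = Pi.mulSingle i (rot * F.σ i * rot⁻¹) := fun i => by
    rw [hY, map_mul, map_mul, map_inv, heφ, hXφ, ← Pi.mulSingle_inv, ← Pi.mulSingle_mul,
      ← Pi.mulSingle_mul]
  have hXeXe : ∀ i, X i * e i * X i = (e i)⁻¹ := fun i => by rw [hinv, hee2]
  have hXY' : ∀ i, X i * Y i = e i := fun i => by
    calc X i * Y i = (X i * e i * X i) * (e i)⁻¹ := by simp [hY, mul_assoc]
      _ = e i ^ (2 + 2) := by rw [hXeXe, hee2, ← pow_add]
      _ = e i := by rw [show 2 + 2 = 3 + 1 from rfl, pow_succ, he3, one_mul]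
  have hbraid : ∀ i, X i * Y i * X i = Y i * X i * Y i := fun i => by
    have h1 : (X i * Y i) ^ 3 = 1 := by rw [hXY']; exact he3 i
    have h2 : X i * Y i * X i * (Y i * X i * Y i) = 1 := by
      rw [pow_succ, pow_two] at h1
      simpa [mul_assoc] using h1
    calc X i * Y i * X i = (Y i * X i * Y i)⁻¹ := eq_inv_of_mul_eq_one_left h2
      _ = Y i * X i * Y i := by
          simp only [mul_inv_rev, inv_eq_of_mul_eq_one_right (hsq i),
            inv_eq_of_mul_eq_one_right (hYY i)]
          simp [mul_assoc]
  have hXcomm : ∀ i j, i ≠ j → Commute (X i) (Y j) := fun i j hij =>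
    (((show Commute (X i) (e j) from hXe i j hij).mul_right (hXX i j)).mul_right
      (show Commute (X i) (e j) from hXe i j hij).inv_right)
  have hYYc : ∀ i j, Commute (Y i) (Y j) := by
    intro i j
    rcases eq_or_ne i j with rfl | hij
    · exact Commute.refl _
    have h1 : Commute (e i) (Y j) := ((show Commute (e i) (e j) from hee i j).mul_right
      (hXe j i hij.symm).symm).mul_right (show Commute (e i) (e j) from hee i j).inv_right
    exact (h1.mul_left (hXcomm i j hij)).mul_left h1.inv_left
  set N : Fin 3 → ↥(centralizer ({t} : Set G)) := fun i => X i * Y i * X i with hN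
  have hNN : ∀ i j, Commute (N i) (N j) := by
    intro i j
    rcases eq_or_ne i j with rfl | hij
    · exact Commute.refl _
    have a1 : Commute (X i) (N j) :=
      ((show Commute (X i) (X j) from hXX i j).mul_right (hXcomm i j hij)).mul_right (hXX i j)
    have a2 : Commute (Y i) (N j) :=
      ((hXcomm j i hij.symm).symm.mul_right (hYYc i j)).mul_right (hXcomm j i hij.symm).symm
    exact (a1.mul_left a2).mul_left a1
  have hNsq : ∀ i, N i * N i = 1 := fun i => by
    calc N i * N i = X i * Y i * (X i * X i) * Y i * X i := by simp [hN, mul_assoc]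
      _ = X i * (Y i * Y i) * X i := by rw [hsq]; simp [mul_assoc]
      _ = 1 := by rw [hYY, mul_one, hsq]
  have hNφ : ∀ i, S.φ (N i) = Pi.mulSingle i (rot * F.σ i) := fun i => by
    have e1 : N i = e i * X i := by
      calc N i = (X i * Y i) * X i := rfl
        _ = e i * X i := by rw [hXY']
    rw [e1, map_mul, heφ, hXφ, Pi.mulSingle_mul]
  have hYN : ∀ i, Y i * N i = N i * X i := fun i => by
    calc Y i * N i = Y i * (Y i * X i * Y i) := congrArg (Y i * ·) (hbraid i)
      _ = (Y i * Y i) * (X i * Y i) := by simp only [mul_assoc]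
      _ = (X i * Y i) * (X i * X i) := by rw [hYY, hsq, one_mul, mul_one]
      _ = N i * X i := (mul_assoc _ _ _).symm
  -- everything in the group
  let x : Fin 3 → G := fun i => (X i : G)
  let y : Fin 3 → G := fun i => (Y i : G)
  let n : Fin 3 → G := fun i => (N i : G)
  set q := g * t * g⁻¹ with hq
  have hn : ∀ i j, n i * n j = n j * n i := fun i j => congrArg Subtype.val (hNN i j).eq
  have hnsq : ∀ i, n i * n i = 1 := fun i => congrArg Subtype.val (hNsq i)
  have hxsq : ∀ i, x i * x i = 1 := fun i => congrArg Subtype.val (hsq i)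
  have hysq : ∀ i, y i * y i = 1 := fun i => congrArg Subtype.val (hYY i)
  have hyn : ∀ i, y i * n i = n i * x i := fun i => congrArg Subtype.val (hYN i)
  let P : (Fin 3 → Bool) → G := prod3 n
  let w : (Fin 3 → Bool) → G := fun a => P a * q * (P a)⁻¹
  have hPC : ∀ a, P a ∈ centralizer ({t} : Set G) := fun a => by
    have : ∀ i, word n a i ∈ centralizer ({t} : Set G) := fun i => by
      rcases Bool.eq_false_or_eq_true (a i) with h | h
      · rw [word_true h]; exact Subgroup.one_mem _
      · rw [word_false h]; exact (N i).2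
    exact Subgroup.mul_mem _ (Subgroup.mul_mem _ (this 0) (this 1)) (this 2)
  have hwQ : ∀ a, w a ∈ S.Q := fun a => S.normal _ (hPC a) _ F.hq
  have hwc : ∀ a, IsConj t (w a) := fun a =>
    (isConj_iff.2 ⟨g, rfl⟩ : IsConj t q).trans (isConj_iff.2 ⟨P a, rfl⟩)
  have hwsq : ∀ a, w a * w a = 1 := fun a => by
    calc w a * w a = P a * (g * (t * t) * g⁻¹) * (P a)⁻¹ := by simp [w, hq, mul_assoc]
      _ = 1 := by rw [t_sq S]; simp
  have hxq : ∀ i, x i * q = q * x i := fun i =>
    mem_centralizer_singleton_iff.1 (Qc_le S (hXQ i))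
  have hPtrue : P (fun _ => true) = 1 := by simp [P, prod3, word]
  -- elements commuting with the two others' words
  have hcomm_rest : ∀ (z : G) i a, (∀ j, j ≠ i → Commute z (n j)) → Commute z (rest n a i) := by
    intro z i a h
    have : ∀ j, j ≠ i → Commute z (word n a j) := fun j hj => by
      rcases Bool.eq_false_or_eq_true (a j) with h' | h'
      · rw [word_true h']; exact Commute.one_right _
      · rw [word_false h']; exact h j hj
    exact (this _ (fin_ne1 i)).mul_right (this _ (fin_ne2 i))
  have hxn : ∀ i j, j ≠ i → Commute (x i) (n j) := fun i j hji =>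
    congrArg Subtype.val (((show Commute (X i) (X j) from hXX i j).mul_right
      (hXcomm i j hji.symm)).mul_right (hXX i j)).eq
  have hyn' : ∀ i j, j ≠ i → Commute (y i) (n j) := fun i j hji =>
    congrArg Subtype.val (((hXcomm j i hji).symm.mul_right (hYYc i j)).mul_right
      (hXcomm j i hji).symm).eq
  have hconjc : ∀ (z R m : G), z * z = 1 → Commute z R →
      z * (R * m * R⁻¹) * z = R * (z * m * z) * R⁻¹ := fun z R m _ hc => by
    calc z * (R * m * R⁻¹) * z = z * R * m * (R⁻¹ * z) := by simp [mul_assoc]
      _ = R * z * m * (z * R⁻¹) := by rw [hc.eq, hc.inv_right.eq]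
      _ = R * (z * m * z) * R⁻¹ := by simp [mul_assoc]
  -- the vector next to `q`
  set m : Fin 3 → G := fun i => n i * q * n i with hm
  have hninv : ∀ i, (n i)⁻¹ = n i := fun i => inv_eq_of_mul_eq_one_right (hnsq i)
  have hnn : ∀ i z, n i * (n i * z) = z := fun i z => by rw [← mul_assoc, hnsq, one_mul]
  have hmQ : ∀ i, m i ∈ S.Q := fun i => by
    have := S.normal _ (N i).2 _ F.hq
    show n i * q * n i ∈ S.Q
    rwa [show ((N i : G))⁻¹ = n i from hninv i] at this
  have hvm : ∀ i, v S ⟨m i, hmQ i⟩ = F.p i F.u := fun i => by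
    have e1 : (⟨m i, hmQ i⟩ : ↥S.Q) = conjQ S (N i) ⟨q, F.hq⟩ := Subtype.ext (by
      show n i * q * n i = n i * q * (n i)⁻¹
      rw [hninv])
    rw [e1, conjQ_v, hNφ, Pi.mulSingle_mul, ρ_mul]
    show F.p i (F.τ i F.u) = _
    rw [F.τ_u]
  have hmJ : ∀ i, m i ∈ S.Qc g := fun i => by
    refine (F.mem_meet_iff ⟨m i, hmQ i⟩).2 fun j => ?_
    rw [hvm]
    rcases eq_or_ne j i with rfl | h
    · right
      rw [F.τ_p, F.τ_u]
      calc F.p j F.u + F.u + F.p j F.u = F.u + (F.p j F.u + F.p j F.u) := by abel
        _ = F.u := by rw [v_two S, add_zero]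
    · left
      rw [F.τ_p' h, F.τ_u]
      exact v_two S _
  have hqJ : q ∈ S.Qc g := (mem_Qc S).2 (by simpa [hq, mul_assoc] using S.t_mem)
  have hJ : ∀ a b, a ∈ S.Q → a ∈ S.Qc g → b ∈ S.Q → b ∈ S.Qc g → a * b = b * a :=
    fun a b h1 h2 h3 h4 => meet_comm S F.hq F.hne a ⟨h1, h2⟩ b ⟨h3, h4⟩
  have hmq : ∀ i, m i * q = q * m i := fun i => hJ _ _ (hmQ i) (hmJ i) F.hq hqJ
  have hkey : ∀ i, x i * m i * x i = m i * q := by
    intro i
    have h1 := (mem_Qc S).1 (hXQ i)
    have h2 := (mem_Qc S).1 (hmJ i)
    have hxinv : (x i)⁻¹ = x i := inv_eq_of_mul_eq_one_right (hxsq i)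
    have e' : x i * m i * (x i)⁻¹ * (m i)⁻¹ = g * (g⁻¹ * x i * g * (g⁻¹ * m i * g) *
        (g⁻¹ * x i * g)⁻¹ * (g⁻¹ * m i * g)⁻¹) * g⁻¹ := by simp [mul_assoc]
    rw [hxinv] at e'
    rcases S.comm _ h1 _ h2 with h | h <;> rw [h] at e'
    · exfalso
      have e2 : conjQ S (X i) ⟨m i, hmQ i⟩ = ⟨m i, hmQ i⟩ := Subtype.ext (by
        show x i * m i * (x i)⁻¹ = m i
        rw [hxinv]
        exact mul_inv_eq_one.1 (e'.trans (by simp)))
      have e3 := congrArg (v S) e2
      rw [conjQ_v, hXφ, hvm] at e3
      change F.τ i (F.p i F.u) = _ at e3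
      rw [F.τ_p, F.τ_u, add_eq_left] at e3
      exact F.u_ne e3
    · rw [mul_inv_eq_iff_eq_mul.1 e', hmq]
  have hkey' : ∀ i, y i * q * y i = q * m i := by
    intro i
    have e1 : y i = n i * x i * n i := by
      rw [← hyn, mul_assoc, hnsq, mul_one]
    calc y i * q * y i = n i * (x i * m i * x i) * n i := by rw [e1]; simp [hm, mul_assoc]
      _ = n i * (m i * q) * n i := by rw [hkey]
      _ = (n i * n i) * q * (n i * q * n i) := by simp [hm, mul_assoc]
      _ = q * m i := by rw [hnsq, one_mul]
  have hP : ∀ a i, P a = word n a i * rest n a i := fun a i => prod3_eq hn a i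
  have hwt : ∀ a i, a i = true → w a = rest n a i * q * (rest n a i)⁻¹ := fun a i h => by
    show P a * q * (P a)⁻¹ = _
    rw [hP a i, word_true h, one_mul]
  have hwf : ∀ a i, a i = false → w a = rest n a i * m i * (rest n a i)⁻¹ := fun a i h => by
    show P a * q * (P a)⁻¹ = _
    have hc : Commute (n i) (rest n a i) := hcomm_rest _ _ _ fun j _ => hn i j
    rw [hP a i, word_false h, hc.eq, mul_inv_rev, hninv]
    simp [hm, mul_assoc]
  have hx_fix : ∀ i a, a i = true → x i * w a * x i = w a := fun i a h => by
    rw [hwt a i h, hconjc _ _ _ (hxsq i) (hcomm_rest _ _ _ (hxn i)), hxq, mul_assoc q, hxsq,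
      mul_one]
  have hy_fix : ∀ i a, a i = false → y i * w a * y i = w a := fun i a h => by
    rw [hwf a i h, hconjc _ _ _ (hysq i) (hcomm_rest _ _ _ (hyn' i))]
    have e1 : n i * y i = x i * n i := by
      calc n i * y i = n i * (y i * (n i * n i)) := by rw [hnsq, mul_one]
        _ = n i * (y i * n i) * n i := by simp [mul_assoc]
        _ = (n i * n i) * x i * n i := by rw [hyn]; simp [mul_assoc]
        _ = x i * n i := by rw [hnsq, one_mul]
    have e2 : y i * m i * y i = m i := by
      calc y i * m i * y i = (y i * n i) * q * (n i * y i) := by simp [hm, mul_assoc]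
        _ = n i * (x i * q * x i) * n i := by rw [hyn, e1]; simp [mul_assoc]
        _ = m i := by rw [hxq, mul_assoc q, hxsq, mul_one]
    rw [e2]
  have hx_add : ∀ i a, a i = false →
      x i * w a * x i = w a * w (Function.update a i true) := fun i a h => by
    rw [hwf a i h, hwt (Function.update a i true) i (Function.update_self ..),
      rest_congr (a := Function.update a i true) (b := a)
        (fun j hj => Function.update_of_ne hj _ _),
      hconjc _ _ _ (hxsq i) (hcomm_rest _ _ _ (hxn i)), hkey]
    simp [mul_assoc]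
  have hy_add : ∀ i a, a i = true →
      y i * w a * y i = w a * w (Function.update a i false) := fun i a h => by
    rw [hwt a i h, hwf (Function.update a i false) i (Function.update_self ..),
      rest_congr (a := Function.update a i false) (b := a)
        (fun j hj => Function.update_of_ne hj _ _),
      hconjc _ _ _ (hysq i) (hcomm_rest _ _ _ (hyn' i)), hkey']
    simp [mul_assoc]
  -- generation
  set H := closure (Set.range w ∪ Set.range x ∪ Set.range y) with hH
  have hwH : ∀ a, w a ∈ H := fun a => subset_closure (Or.inl (Or.inl ⟨a, rfl⟩))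
  have hxH : ∀ i, x i ∈ H := fun i => subset_closure (Or.inl (Or.inr ⟨i, rfl⟩))
  have hyH : ∀ i, y i ∈ H := fun i => subset_closure (Or.inr ⟨i, rfl⟩)
  have hqH : q ∈ H := by
    have := hwH fun _ => true
    simpa [w, hPtrue] using this
  set W0 := closure (Set.range w) with hW0
  have hwW : ∀ a, w a ∈ W0 := fun a => subset_closure ⟨a, rfl⟩
  have hW0Q : W0 ≤ S.Q := (closure_le _).2 (by rintro _ ⟨a, rfl⟩; exact hwQ a)
  have hstab : ∀ z : G, z ∈ centralizer ({t} : Set G) → (∀ a, z * w a * z⁻¹ ∈ W0) →
      ∀ d ∈ W0, z * d * z⁻¹ ∈ W0 := by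
    intro z _ hz d hd
    induction hd using Subgroup.closure_induction with
    | mem d hd => obtain ⟨a, rfl⟩ := hd; exact hz a
    | one => simp
    | mul d d' _ _ ih ih' =>
      have e : z * (d * d') * z⁻¹ = z * d * z⁻¹ * (z * d' * z⁻¹) := by simp [mul_assoc]
      rw [e]; exact W0.mul_mem ih ih'
    | inv d _ ih =>
      have e : z * d⁻¹ * z⁻¹ = (z * d * z⁻¹)⁻¹ := by simp [mul_assoc]
      rw [e]; exact W0.inv_mem ih
  have hxW : ∀ i, ∀ d ∈ W0, x i * d * (x i)⁻¹ ∈ W0 := fun i => by
    refine hstab _ (X i).2 fun a => ?_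
    rw [inv_eq_of_mul_eq_one_right (hxsq i)]
    rcases Bool.eq_false_or_eq_true (a i) with h | h
    · rw [hx_fix i a h]; exact hwW a
    · rw [hx_add i a h]; exact W0.mul_mem (hwW a) (hwW _)
  have hyW : ∀ i, ∀ d ∈ W0, y i * d * (y i)⁻¹ ∈ W0 := fun i => by
    refine hstab _ (Y i).2 fun a => ?_
    rw [inv_eq_of_mul_eq_one_right (hysq i)]
    rcases Bool.eq_false_or_eq_true (a i) with h | h
    · rw [hy_add i a h]; exact W0.mul_mem (hwW a) (hwW _)
    · rw [hy_fix i a h]; exact hwW a
  let U : AddSubgroup (V S) :=
    { carrier := {z | ∃ (d : G) (hd : d ∈ W0), v S ⟨d, hW0Q hd⟩ = z}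
      zero_mem' := ⟨1, W0.one_mem, (v_eq_zero S _).2 (Or.inl rfl)⟩
      add_mem' := by
        rintro _ _ ⟨d, hd, rfl⟩ ⟨d', hd', rfl⟩
        exact ⟨d * d', W0.mul_mem hd hd', v_mul S ⟨d, hW0Q hd⟩ ⟨d', hW0Q hd'⟩⟩
      neg_mem' := by
        rintro _ ⟨d, hd, rfl⟩
        exact ⟨d, hd, (neg_eq_of_add_eq_zero_left (v_two S _)).symm⟩ }
  have hUtop : U = ⊤ := by
    refine F.span U ?_ ?_
    · have hwq : w (fun _ => true) = q := by simp [w, hPtrue]
      refine ⟨w (fun _ => true), hwW _, ?_⟩
      exact congrArg (v S) (Subtype.ext hwq)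
    · rintro i _ ⟨d, hd, rfl⟩
      -- the rotation is the image of `y x`
      have hφ : S.φ (N i * X i) = Pi.mulSingle i rot := by
        rw [map_mul, hNφ, hXφ, ← Pi.mulSingle_mul, mul_assoc, F.σ_sq, mul_one]
      refine ⟨n i * x i * d * (n i * x i)⁻¹, ?_, ?_⟩
      · have e1 : n i * x i * d * (n i * x i)⁻¹ =
            x i * (y i * (x i * (x i * d * (x i)⁻¹) * (x i)⁻¹) * (y i)⁻¹) * (x i)⁻¹ := by
          simp [n, x, y, hN, mul_assoc]
        rw [e1]
        exact hxW i _ (hyW i _ (hxW i _ (hxW i _ hd)))
      · show _ = ρ S _ _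
        rw [← hφ, ρ_φ, act_v]
        rfl
  have hQW : ∀ a ∈ S.Q, a ∈ W0 ∨ a * t ∈ W0 := by
    intro a ha
    obtain ⟨d, hd, hdv⟩ : v S ⟨a, ha⟩ ∈ U := hUtop ▸ AddSubgroup.mem_top _
    rcases (v_eq S _ _).1 hdv with h | h
    · exact Or.inl ((show d = a from h) ▸ hd)
    · exact Or.inr ((show d = a * t from h) ▸ hd)
  have hnone : w (fun _ => false) * q ≠ q * w (fun _ => false) := by
    intro hc
    -- otherwise the conjugate would be central in the core
    have hgen : ∀ a, w a * q = q * w a := by
      intro a
      rcases fin_true a with rfl | ⟨i, hi⟩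
      · simp [w, hPtrue]
      rcases fin_false a i hi with ⟨h1, h2⟩ | ⟨h1, h2⟩ | ⟨h1, h2⟩ | rfl
      · have : rest n a i = 1 := by rw [rest, word_true h1, word_true h2, one_mul]
        rw [hwf a i hi, this, one_mul, inv_one, mul_one, hmq]
      · have : rest n a i = n (i + 1) := by rw [rest, word_false h1, word_true h2, mul_one]
        rw [hwf a i hi, this, hninv]
        have := hJ _ _ (hmQ i) (hmJ i) (hmQ (i + 1)) (hmJ (i + 1))
        calc n (i + 1) * m i * n (i + 1) * q
            = n (i + 1) * (m i * m (i + 1)) * n (i + 1) := by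
              simp only [hm]; simp [mul_assoc, hnsq, hnn]
          _ = n (i + 1) * (m (i + 1) * m i) * n (i + 1) := by rw [this]
          _ = q * (n (i + 1) * m i * n (i + 1)) := by
              simp only [hm]; simp [mul_assoc, hnsq, hnn]
      · have : rest n a i = n (i + 2) := by rw [rest, word_true h1, word_false h2, one_mul]
        rw [hwf a i hi, this, hninv]
        have := hJ _ _ (hmQ i) (hmJ i) (hmQ (i + 2)) (hmJ (i + 2))
        calc n (i + 2) * m i * n (i + 2) * q
            = n (i + 2) * (m i * m (i + 2)) * n (i + 2) := by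
              simp only [hm]; simp [mul_assoc, hnsq, hnn]
          _ = n (i + 2) * (m (i + 2) * m i) * n (i + 2) := by rw [this]
          _ = q * (n (i + 2) * m i * n (i + 2)) := by
              simp only [hm]; simp [mul_assoc, hnsq, hnn]
      · exact hc
    have hW : ∀ d ∈ W0, d * q = q * d := fun d hd => by
      have : W0 ≤ centralizer ({q} : Set G) := (closure_le _).2 (by
        rintro _ ⟨a, rfl⟩; exact mem_centralizer_singleton_iff.2 (hgen a))
      exact mem_centralizer_singleton_iff.1 (this hd)
    rcases S.center q F.hq (fun b hb => (by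
      rcases hQW b hb with h | h
      · exact (hW b h).symm
      · have h' : b * t * q = q * (b * t) := hW _ h
        calc q * b = q * (b * t) * t := by rw [mul_assoc q, mul_assoc b, t_sq S, mul_one]
          _ = b * t * q * t := by rw [h']
          _ = b * (t * q) * t := by rw [mul_assoc b t q]
          _ = b * q * (t * t) := by rw [← t_comm S F.hq]; simp only [mul_assoc, hq]
          _ = b * q := by rw [t_sq S, mul_one])) with h | h
    · exact q_ne_one S h
    · exact F.hne h
  have htH : t ∈ H := by
    rcases S.comm _ (hwQ fun _ => false) _ F.hq with h | h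
    · exact absurd ((commutatorElement_eq_one_iff_mul_comm (g₁ := w fun _ => false)).1 h) hnone
    · rw [← h]
      exact H.mul_mem (H.mul_mem (H.mul_mem (hwH _) hqH) (H.inv_mem (hwH _))) (H.inv_mem hqH)
  have hW0H : W0 ≤ H := (closure_le _).2 (by rintro _ ⟨a, rfl⟩; exact hwH a)
  have hQH : S.Q ≤ H := fun a ha => by
    rcases hQW a ha with h | h
    · exact hW0H h
    · have := H.mul_mem (hW0H h) htH
      rwa [mul_assoc, t_sq S, mul_one] at this
  have hgenC : centralizer ({t} : Set G) ≤ H := by
    intro c hc
    set M := (H.subgroupOf (centralizer ({t} : Set G))).map S.φ with hM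
    have hxM : ∀ i, Pi.mulSingle i (F.σ i) ∈ M := fun i => ⟨X i, hxH i, hXφ i⟩
    have hrM : ∀ i, Pi.mulSingle i rot ∈ M := fun i => by
      have := M.mul_mem (hxM i) (show S.φ (Y i) ∈ M from ⟨Y i, hyH i, rfl⟩)
      rwa [← hXφ i, ← map_mul, hXY', heφ] at this
    have hone : ∀ (i : Fin 3) (z : Equiv.Perm (Fin 3)), Pi.mulSingle i z ∈ M := by
      intro i z
      rcases perm_gen' (F.σ i) z ⟨F.σ_ne i, F.σ_sq i⟩ with rfl | rfl | rfl | rfl | rfl | rfl
      · rw [Pi.mulSingle_one]; exact M.one_mem
      · exact hrM i
      · rw [Pi.mulSingle_mul]; exact M.mul_mem (hrM i) (hrM i)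
      · exact hxM i
      · rw [Pi.mulSingle_mul]; exact M.mul_mem (hrM i) (hxM i)
      · rw [Pi.mulSingle_mul, Pi.mulSingle_mul]
        exact M.mul_mem (M.mul_mem (hrM i) (hrM i)) (hxM i)
    obtain ⟨d, hd, hdc⟩ : S.φ ⟨c, hc⟩ ∈ M := by
      have e1 : S.φ ⟨c, hc⟩ = Pi.mulSingle 0 (S.φ ⟨c, hc⟩ 0) * Pi.mulSingle 1 (S.φ ⟨c, hc⟩ 1) *
          Pi.mulSingle 2 (S.φ ⟨c, hc⟩ 2) := by
        funext j
        fin_cases j <;> simp
      rw [e1]
      exact M.mul_mem (M.mul_mem (hone _ _) (hone _ _)) (hone _ _)
    have hk : ((d⁻¹ * ⟨c, hc⟩ : ↥(centralizer ({t} : Set G))) : G) ∈ S.Q :=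
      (S.ker _).1 (by rw [map_mul, map_inv, hdc, inv_mul_cancel])
    have := H.mul_mem hd (hQH hk)
    simpa using this
  -- the commutator relations
  have hw_comm : ∀ a b, w a * w b = w b * w a * (if b = (fun i => !a i) then t else 1) := by
    have hbase : ∀ b, q * w b = w b * q * (if b = (fun _ => false) then t else 1) := by
      intro b
      rcases S.comm _ (hwQ b) _ F.hq with h | h
      · have hc : w b * q = q * w b :=
          (commutatorElement_eq_one_iff_mul_comm (g₁ := w b)).1 h
        split_ifs with hb
        · subst hb; exact absurd hc hnone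
        · rw [mul_one, hc]
      · change w b * q * (w b)⁻¹ * q⁻¹ = t at h
        have hne : w b * q ≠ q * w b := fun hc => t_ne S (by
          rw [← h, hc]; simp)
        have hb : b = fun _ => false := by
          by_contra hb
          refine hne ?_
          rcases fin_true b with rfl | ⟨i, hi⟩
          · simp [w, hPtrue]
          rcases fin_false b i hi with ⟨h1, h2⟩ | ⟨h1, h2⟩ | ⟨h1, h2⟩ | hb'
          · have : rest n b i = 1 := by rw [rest, word_true h1, word_true h2, one_mul]
            rw [hwf b i hi, this, one_mul, inv_one, mul_one, hmq]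
          · have : rest n b i = n (i + 1) := by rw [rest, word_false h1, word_true h2, mul_one]
            rw [hwf b i hi, this, hninv]
            have := hJ _ _ (hmQ i) (hmJ i) (hmQ (i + 1)) (hmJ (i + 1))
            calc n (i + 1) * m i * n (i + 1) * q
                = n (i + 1) * (m i * m (i + 1)) * n (i + 1) := by
                  simp only [hm]; simp [mul_assoc, hnsq, hnn]
              _ = n (i + 1) * (m (i + 1) * m i) * n (i + 1) := by rw [this]
              _ = q * (n (i + 1) * m i * n (i + 1)) := by
                  simp only [hm]; simp [mul_assoc, hnsq, hnn]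
          · have : rest n b i = n (i + 2) := by rw [rest, word_true h1, word_false h2, one_mul]
            rw [hwf b i hi, this, hninv]
            have := hJ _ _ (hmQ i) (hmJ i) (hmQ (i + 2)) (hmJ (i + 2))
            calc n (i + 2) * m i * n (i + 2) * q
                = n (i + 2) * (m i * m (i + 2)) * n (i + 2) := by
                  simp only [hm]; simp [mul_assoc, hnsq, hnn]
              _ = n (i + 2) * (m (i + 2) * m i) * n (i + 2) := by rw [this]
              _ = q * (n (i + 2) * m i * n (i + 2)) := by
                  simp only [hm]; simp [mul_assoc, hnsq, hnn]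
          · exact absurd hb' hb
        rw [if_pos hb]
        calc q * w b = q * w b * (t * t) := by rw [t_sq S, mul_one]
          _ = w b * q * t := by
              have e1 : w b * q = t * (q * w b) := by
                exact (mul_inv_eq_iff_eq_mul.1 (mul_inv_eq_iff_eq_mul.1 h)).trans (mul_assoc _ _ _)
              rw [e1, ← t_comm S (show q * w b ∈ S.Q from S.Q.mul_mem F.hq (hwQ b))]
              simp only [mul_assoc]
    intro a b
    have hflip : P a * P b = P (fun i => a i == b i) := by
      have hw2 : ∀ i, word n a i * word n b i = word n (fun i => a i == b i) i := fun i => by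
        rcases Bool.eq_false_or_eq_true (a i) with h | h <;>
          rcases Bool.eq_false_or_eq_true (b i) with h' | h' <;> simp [word, h, h', hnsq]
      have hwn : ∀ (c d : Fin 3 → Bool) i j, word n c i * word n d j = word n d j * word n c i := by
        intro c d i j
        simp only [word]
        split <;> split <;> simp [hn i j]
      show prod3 n a * prod3 n b = prod3 n _
      simp only [prod3, ← hw2]
      calc word n a 0 * word n a 1 * word n a 2 * (word n b 0 * word n b 1 * word n b 2)
          = word n a 0 * (word n a 1 * (word n a 2 * word n b 0)) * word n b 1 * word n b 2 := by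
            simp [mul_assoc]
        _ = word n a 0 * (word n a 1 * word n b 0) * (word n a 2 * word n b 1) * word n b 2 := by
            rw [hwn a b 2 0]; simp [mul_assoc]
        _ = word n a 0 * word n b 0 * (word n a 1 * word n b 1) *
            (word n a 2 * word n b 2) := by
            rw [hwn a b 1 0, hwn a b 2 1]; simp [mul_assoc]
    have hPinv : ∀ c, (P c)⁻¹ = P c := fun c => by
      refine inv_eq_of_mul_eq_one_right ?_
      have h2 : P c * P c = P (fun i => c i == c i) := by
        have hw2 : ∀ i, word n c i * word n c i = 1 := fun i => by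
          rcases Bool.eq_false_or_eq_true (c i) with h | h <;> simp [word, h, hnsq]
        have hwn : ∀ i j, word n c i * word n c j = word n c j * word n c i := fun i j => by
          simp only [word]
          split <;> split <;> simp [hn i j]
        show prod3 n c * prod3 n c = prod3 n _
        simp only [prod3]
        calc word n c 0 * word n c 1 * word n c 2 * (word n c 0 * word n c 1 * word n c 2)
            = word n c 0 * (word n c 1 * (word n c 2 * word n c 0)) * word n c 1 * word n c 2 := by
              simp [mul_assoc]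
          _ = word n c 0 * (word n c 1 * word n c 0) * (word n c 2 * word n c 1) * word n c 2 := by
              rw [hwn 2 0]; simp [mul_assoc]
          _ = word n c 0 * word n c 0 * (word n c 1 * word n c 1) *
              (word n c 2 * word n c 2) := by
              rw [hwn 1 0, hwn 2 1]; simp [mul_assoc]
          _ = _ := by rw [hw2, hw2, hw2]; simp [word]
      rw [h2]
      simp [P, prod3, word]
    set c : Fin 3 → Bool := fun i => a i == b i with hc
    have hwb : P a * w b * P a = w c := by
      show P a * (P b * q * (P b)⁻¹) * P a = P c * q * (P c)⁻¹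
      conv_rhs => rw [← hflip, mul_inv_rev, hPinv a]
      simp [mul_assoc]
    have hiff : (b = fun i => !a i) ↔ (c = fun _ => false) := by
      rw [hc]
      simp only [funext_iff]
      refine forall_congr' fun i => ?_
      cases a i <;> cases b i <;> decide
    have hPP : P a * P a = 1 := by
      conv_lhs => arg 1; rw [← hPinv a]
      exact inv_mul_cancel _
    have hwb' : w b = P a * w c * P a := by
      rw [← hwb]
      calc w b = (P a * P a) * w b * (P a * P a) := by rw [hPP, one_mul, mul_one]
        _ = _ := by simp only [mul_assoc]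
    have hwa : w a = P a * q * P a := by
      show P a * q * (P a)⁻¹ = _
      rw [hPinv]
    have htP : t * P a = P a * t := (mem_centralizer_singleton_iff.1 (hPC a)).symm
    rw [if_congr hiff rfl rfl]
    calc w a * w b = P a * q * (P a * P a) * w c * P a := by rw [hwa, hwb']; simp [mul_assoc]
      _ = P a * (q * w c) * P a := by rw [hPP, mul_one]; simp [mul_assoc]
      _ = P a * (w c * q * (if c = (fun _ => false) then t else 1)) * P a := by rw [← hbase]
      _ = P a * w c * (P a * P a) * q *
          ((if c = (fun _ => false) then t else 1) * P a) := by rw [hPP]; simp [mul_assoc]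
      _ = P a * w c * (P a * P a) * q *
          (P a * (if c = (fun _ => false) then t else 1)) := by
          congr 1
          split_ifs <;> simp [htP]
      _ = w b * w a * (if c = (fun _ => false) then t else 1) := by
          rw [hwa, hwb']; simp [mul_assoc]
  refine ⟨⟨w, x, y⟩,
    { top := by simp [w, hPtrue, hq]
      w_mem := hwQ
      w_sq := hwsq
      w_conj := hwc
      w_comm := hw_comm
      x_mem := fun i => (X i).2
      y_mem := fun i => (Y i).2
      x_memc := hXQ
      x_sq := hxsq
      y_sq := hysq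
      braid := fun i => congrArg Subtype.val (hbraid i)
      xy_ne := fun i h => ?_
      xx := fun i j => congrArg Subtype.val (hXX i j)
      yy := fun i j => congrArg Subtype.val (hYYc i j).eq
      xy := fun i j h => congrArg Subtype.val (hXcomm i j h).eq
      x_fix := hx_fix
      x_add := hx_add
      y_fix := hy_fix
      y_add := hy_add
      x_conj := hXc
      x_t := hXt
      gen := hgenC
      in_Q := fun a ha hc hne => F.in_Q ha hc hne }⟩
  have h' : X i = Y i := Subtype.ext h
  have h1 := hXY' i
  rw [← h', hsq] at h1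
  have h2 := heφ i
  rw [← h1, map_one, eq_comm, Pi.mulSingle_eq_one_iff] at h2
  exact absurd h2 (by decide)

end Flips

end FrameProof

universe u

/-- The coordinates. -/
theorem frame : FrameStmt.{u} := by
  intro G _ _ t S g P
  obtain ⟨F⟩ := FrameProof.exists_flips P.mem P.ne
  exact F.exists_frame

end CfsgLib.DFour
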