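import Cfsg.Agent.Lib.DFour.FrameSwap

/-!
# A complement to the core in the centralizer (S3345, piece `Frame`)

Three commuting root involutions are completed by elements of order three: the first centralises
two of the involutions and is inverted by the third, the others are taken in its centralizer, which
is small because the element has no fixed point on the core modulo the centre.
-/

set_option autoImplicit false
set_option linter.unusedSectionVars false

namespace CfsgLib.DFour.FrameProof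

open Subgroup PairPerm Pair

universe u

variable {G : Type u} [Group G] [Finite G] {t : G} {S : Setting t} {g : G}

/-- The involution `t` as an element of its centralizer. -/
def tC (t : G) : ↥(centralizer ({t} : Set G)) := ⟨t, mem_centralizer_singleton_iff.2 rfl⟩

theorem tC_comm (x : ↥(centralizer ({t} : Set G))) : x * tC t = tC t * x := Subtype.ext (mem_centralizer_singleton_iff.1 x.2)

theorem tC_ne (S : Setting t) : tC t ≠ 1 := fun h => t_ne S (congrArg Subtype.val h)

theorem tC_sq (S : Setting t) : tC t * tC t = 1 := Subtype.ext (t_sq S)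

theorem conjQ_coe (c : ↥(centralizer ({t} : Set G))) (a : ↥S.Q) : (conjQ S c a : G) = (c : G) * a * (c : G)⁻¹ := rfl

/-- Two elements of order three do not differ by `t`. -/
theorem cube_t (S : Setting t) {x y : ↥(centralizer ({t} : Set G))} (hx : x ^ 3 = 1) (hy : y ^ 3 = 1)
    (h : y = x ∨ y = x * tC t) : y = x := by
  refine h.resolve_right fun e => tC_ne S ?_
  have h3 : (x * tC t) ^ 3 = x ^ 3 * tC t ^ 3 := Commute.mul_pow (tC_comm x) 3
  rw [← e, hx, hy, one_mul, pow_succ, pow_two, tC_sq S, one_mul] at h3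
  exact h3.symm

theorem cube_inv {x : ↥(centralizer ({t} : Set G))} (hx : x ^ 3 = 1) : x⁻¹ ^ 3 = 1 := by rw [inv_pow, hx, inv_one]

namespace Flips

variable (F : Flips S g)
include F

/-- An element of the centralizer over a rotation fixes only the centre of the core. -/
theorem closeup {i : Fin 3} {e x : ↥(centralizer ({t} : Set G))} (he : S.φ e = Pi.mulSingle i rot) (hx : S.φ x = 1)
    (hc : x * e = e * x) : x = 1 ∨ x = tC t := by
  have hxQ := (S.ker x).1 hx
  have h0 : v S ⟨(x : G), hxQ⟩ = 0 := by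
    refine F.free i _ ?_
    rw [← he, ρ_φ, act_v]
    refine (v_eq S _ _).2 (Or.inl ?_)
    rw [conjQ_coe]
    exact mul_inv_eq_iff_eq_mul.2 (congrArg Subtype.val hc).symm
  rcases (v_eq_zero S _).1 h0 with h | h
  · exact Or.inl (Subtype.ext h)
  · exact Or.inr (Subtype.ext h)

/-- Elements of order three over the same rotation are conjugate under the core. -/
theorem conj_three {i : Fin 3} {e e' : ↥(centralizer ({t} : Set G))} (he : S.φ e = Pi.mulSingle i rot) (he' : S.φ e' = S.φ e)
    (h3 : e ^ 3 = 1) (h3' : e' ^ 3 = 1) : ∃ b : ↥(centralizer ({t} : Set G)), S.φ b = 1 ∧ b * e * b⁻¹ = e' := by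
  have haQ : ((e' * e⁻¹ : ↥(centralizer ({t} : Set G))) : G) ∈ S.Q := (S.ker _).1 (by rw [map_mul, map_inv, he', mul_inv_cancel])
  have hinj : Function.Injective fun x : V S => x + F.p i x := fun x y h => by
    have h' : x + F.p i x = y + F.p i y := h
    have : F.p i (x + y) = x + y := by
      refine LocalModule.eq_of_add (actS S F.σ F.σ_ne F.σ_sq) ?_
      rw [map_add]
      calc F.p i x + F.p i y + (x + y) = (x + F.p i x) + (y + F.p i y) := by abel
        _ = 0 := by rw [h']; exact v_two S _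
    exact LocalModule.eq_of_add (actS S F.σ F.σ_ne F.σ_sq) (F.free i _ this)
  obtain ⟨x, hx⟩ := Finite.surjective_of_injective hinj (v S ⟨_, haQ⟩)
  obtain ⟨b, rfl⟩ := exists_v S x
  let bC : ↥(centralizer ({t} : Set G)) := ⟨(b : G), S.Q_le b.2⟩
  have hb : S.φ bC = 1 := (S.ker _).2 b.2
  refine ⟨bC, hb, cube_t S h3' (by rw [conj_pow, h3, mul_one, mul_inv_cancel]) ?_⟩
  have e1 : v S (b * (conjQ S e b)⁻¹) = v S ⟨_, haQ⟩ := by
    rw [v_mul, show v S (conjQ S e b)⁻¹ = -v S (conjQ S e b) from rfl, conjQ_v, he,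
      neg_eq_of_add_eq_zero_left (v_two S _)]
    exact hx
  rcases (v_eq S _ _).1 e1 with h | h
  · left
    refine Subtype.ext ?_
    have h' : (b : G) * ((e : G) * b * (e : G)⁻¹)⁻¹ = (e' : G) * (e : G)⁻¹ := h
    show (b : G) * e * (b : G)⁻¹ = e'
    calc (b : G) * e * (b : G)⁻¹ = (b : G) * ((e : G) * b * (e : G)⁻¹)⁻¹ * e := by simp [mul_assoc]
      _ = e' := by rw [h']; simp
  · right
    refine Subtype.ext ?_
    have h' : (b : G) * ((e : G) * b * (e : G)⁻¹)⁻¹ = (e' : G) * (e : G)⁻¹ * t := h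
    show (b : G) * e * (b : G)⁻¹ = e' * t
    calc (b : G) * e * (b : G)⁻¹ = (b : G) * ((e : G) * b * (e : G)⁻¹)⁻¹ * e := by simp [mul_assoc]
      _ = (e' : G) * (e : G)⁻¹ * (t * e) := by rw [h', mul_assoc]
      _ = e' * t := by
          rw [← mem_centralizer_singleton_iff.1 e.2]
          simp [mul_assoc]

/-- The centralizer of an element of order three covers the centralizer of its rotation. -/
theorem exists_lift {i : Fin 3} {e : ↥(centralizer ({t} : Set G))} (he : S.φ e = Pi.mulSingle i rot) (h3 : e ^ 3 = 1) {w : W}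
    (hw : w * Pi.mulSingle i rot = Pi.mulSingle i rot * w) :
    ∃ c : ↥(centralizer ({t} : Set G)), S.φ c = w ∧ c * e = e * c := by
  obtain ⟨c, hc⟩ := S.surj w
  have hφ : S.φ (c * e * c⁻¹) = Pi.mulSingle i rot := by
    rw [map_mul, map_mul, map_inv, hc, he, hw, mul_inv_cancel_right]
  obtain ⟨b, hb, hbe⟩ := F.conj_three hφ (he.trans hφ.symm)
    (by rw [conj_pow, h3, mul_one, mul_inv_cancel]) h3
  refine ⟨b * c, by rw [map_mul, hb, one_mul, hc], ?_⟩
  have : b * c * e * (b * c)⁻¹ = e := by
    calc b * c * e * (b * c)⁻¹ = b * (c * e * c⁻¹) * b⁻¹ := by simp [mul_assoc]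
      _ = e := hbe
  exact mul_inv_eq_iff_eq_mul.1 this

/-- The fourth power of an element over a rotation has order three. -/
theorem pow_four {i : Fin 3} {x : ↥(centralizer ({t} : Set G))} (hx : S.φ x = Pi.mulSingle i rot) :
    S.φ (x ^ 4) = Pi.mulSingle i rot ∧ (x ^ 4) ^ 3 = 1 := by
  constructor
  · rw [map_pow, hx, ← Pi.mulSingle_pow, show rot ^ 4 = rot by decide]
  · have h3 : ((x ^ 3 : ↥(centralizer ({t} : Set G))) : G) ∈ S.Q := (S.ker _).1 (by
      rw [map_pow, hx, ← Pi.mulSingle_pow, show rot ^ 3 = 1 by decide, Pi.mulSingle_one])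
    rw [← pow_mul, show 4 * 3 = 3 * 4 from rfl, pow_mul]
    refine Subtype.ext ?_
    show ((x ^ 3 : ↥(centralizer ({t} : Set G))) : G) ^ 4 = 1
    rw [show 4 = 2 + 2 from rfl, pow_add, pow_two]
    exact four S h3

/-- An element of the centralizer can be corrected by the core to centralise a root involution,
preserving the root involutions it centralises already. -/
theorem centralise {X : Fin 3 → ↥(centralizer ({t} : Set G))} (hφ : ∀ i, S.φ (X i) = Pi.mulSingle i (F.σ i))
    (hsq : ∀ i, X i * X i = 1) (hcomm : ∀ i j, X i * X j = X j * X i)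
    (hXt : ∀ i, ¬ IsConj t ((X i : G) * t)) (hXc : ∀ i, IsConj t (X i : G))
    {j : Fin 3} {c : ↥(centralizer ({t} : Set G))} (hc : S.φ c * S.φ (X j) = S.φ (X j) * S.φ c) :
    ∃ b : ↥(centralizer ({t} : Set G)), S.φ b = 1 ∧ b * c * X j = X j * (b * c) ∧
      ∀ k, k ≠ j → c * X k = X k * c → b * c * X k = X k * (b * c) := by
  have noT : ∀ (k : Fin 3) (d : ↥(centralizer ({t} : Set G))), d * X k * d⁻¹ = X k ∨ d * X k * d⁻¹ = X k * tC t →
      d * X k * d⁻¹ = X k := fun k d h => h.resolve_right fun e =>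
    hXt k ((hXc k).trans (isConj_iff.2 ⟨(d : G), congrArg Subtype.val e⟩))
  have hXinv : ∀ k, (X k)⁻¹ = X k := fun k => inv_eq_of_mul_eq_one_right (hsq k)
  set y := c * X j * c⁻¹ with hy
  have hy2 : y * y = 1 := by
    rw [hy]
    calc c * X j * c⁻¹ * (c * X j * c⁻¹) = c * (X j * X j) * c⁻¹ := by simp [mul_assoc]
      _ = 1 := by rw [hsq]; simp
  have haQ : ((X j * y : ↥(centralizer ({t} : Set G))) : G) ∈ S.Q := (S.ker _).1 (by
    rw [hy, map_mul, map_mul, map_mul, map_inv, hc, mul_inv_cancel_right, ← map_mul, hsq, map_one])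
  set a : ↥S.Q := ⟨_, haQ⟩
  have hτ : ∀ k (d : ↥S.Q), v S (conjQ S (X k) d) = F.τ k (v S d) := fun k d => by
    rw [conjQ_v, hφ]; rfl
  -- the difference is fixed by the flip
  have hfix : F.τ j (v S a) = v S a := by
    rw [← hτ, show conjQ S (X j) a = a⁻¹ by
      refine Subtype.ext ?_
      show (X j : G) * ((X j * y : ↥(centralizer ({t} : Set G))) : G) * (X j : G)⁻¹ = ((X j * y : ↥(centralizer ({t} : Set G))) : G)⁻¹
      rw [← Subgroup.coe_mul, ← Subgroup.coe_inv, ← Subgroup.coe_inv, ← Subgroup.coe_mul,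
        mul_inv_rev, hXinv, inv_eq_of_mul_eq_one_right hy2, ← mul_assoc, hsq, one_mul]]
    show -v S a = v S a
    exact neg_eq_of_add_eq_zero_left (v_two S _)
  obtain ⟨b, hb⟩ := exists_v S (F.p j (v S a))
  let bC : ↥(centralizer ({t} : Set G)) := ⟨(b : G), S.Q_le b.2⟩
  have hbQ : S.φ bC = 1 := (S.ker _).2 b.2
  refine ⟨bC, hbQ, ?_, fun k hk hck => ?_⟩
  · refine mul_inv_eq_iff_eq_mul.1 (noT j _ ?_)
    -- `b y b⁻¹` is `X j` up to `t`
    have hd : v S (b * a * (conjQ S (X j) b⁻¹)) = 0 → (bC * c) * X j * (bC * c)⁻¹ = X j ∨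
        (bC * c) * X j * (bC * c)⁻¹ = X j * tC t := by
      intro h0
      have hm : (bC * c) * X j * (bC * c)⁻¹ = X j * ((X j * bC * (X j)⁻¹) * (X j * y) * bC⁻¹) := by
        rw [hXinv, hy]
        calc bC * c * X j * (bC * c)⁻¹
            = (X j * X j) * bC * (X j * X j) * (c * X j * c⁻¹) * bC⁻¹ := by
              rw [hsq]; simp [mul_assoc]
          _ = _ := by simp [mul_assoc]
      set D : ↥S.Q := conjQ S (X j) b * a * b⁻¹
      have hD : v S D = 0 := by
        rw [v_mul, v_mul, show v S b⁻¹ = -v S b from rfl]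
        rw [v_mul, v_mul, hτ, show v S b⁻¹ = -v S b from rfl, map_neg] at h0
        rw [hτ, ← h0, neg_eq_of_add_eq_zero_left (v_two S _),
          neg_eq_of_add_eq_zero_left (v_two S _)]
        abel
      rcases (v_eq_zero S _).1 hD with h | h
      · left; rw [hm, show X j * bC * (X j)⁻¹ * (X j * y) * bC⁻¹ = 1 from Subtype.ext h, mul_one]
      · right; rw [hm, show X j * bC * (X j)⁻¹ * (X j * y) * bC⁻¹ = tC t from Subtype.ext h]
    refine hd ?_
    rw [v_mul, v_mul, hτ, show v S b⁻¹ = -v S b from rfl, map_neg, hb, F.τ_p, hfix,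
      neg_eq_of_add_eq_zero_left (v_two S _)]
    calc _ = (F.p j (v S a) + F.p j (v S a)) + (v S a + v S a) := by abel
      _ = 0 := by simp only [v_two S]
  · -- the other involutions are still centralised
    refine mul_inv_eq_iff_eq_mul.1 (noT k _ ?_)
    have hak : F.τ k (v S a) = v S a := by
      rw [← hτ]
      refine (v_eq S _ _).2 (Or.inl ?_)
      have e : X k * (X j * y) = (X j * y) * X k := by
        have e1 : X k * y = y * X k := by
          rw [hy]
          calc X k * (c * X j * c⁻¹) = (X k * c) * X j * c⁻¹ := by simp [mul_assoc]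
            _ = c * (X k * X j) * c⁻¹ := by rw [← hck]; simp [mul_assoc]
            _ = c * X j * (X k * c⁻¹) := by rw [hcomm]; simp [mul_assoc]
            _ = c * X j * (c⁻¹ * X k) := by rw [(Commute.inv_right (hck.symm : Commute (X k) c)).eq]
            _ = _ := by simp [mul_assoc]
        rw [← mul_assoc, hcomm k j, mul_assoc, e1, ← mul_assoc]
      exact mul_inv_eq_iff_eq_mul.2 (congrArg Subtype.val e)
    have hbk : v S (conjQ S (X k) b) = v S b := by
      rw [hτ, hb, F.τ_p' hk, hak]
    have e : bC * c * X k * (bC * c)⁻¹ = bC * X k * bC⁻¹ := by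
      calc bC * c * X k * (bC * c)⁻¹ = bC * (c * X k * c⁻¹) * bC⁻¹ := by simp [mul_assoc]
        _ = _ := by rw [hck, mul_inv_cancel_right]
    rw [e]
    rcases (v_eq S _ _).1 hbk with h | h
    · left
      refine mul_inv_eq_iff_eq_mul.2 (Subtype.ext ?_)
      exact (mul_inv_eq_iff_eq_mul.1 h).symm
    · right
      refine mul_inv_eq_iff_eq_mul.2 (Subtype.ext ?_)
      show (b : G) * X k = (X k : G) * t * b
      rw [mul_assoc, ← t_comm S b.2, ← mul_assoc]
      have h' : (X k : G) * b * (X k : G)⁻¹ = b * t := h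
      calc (b : G) * X k = (b : G) * t * t * X k := by
            rw [mul_assoc (b : G) t t, t_sq S, mul_one]
        _ = (X k : G) * b * (X k : G)⁻¹ * (t * X k) := by rw [h', mul_assoc]
        _ = (X k : G) * b * t := by
            rw [← mem_centralizer_singleton_iff.1 (X k).2]; simp [mul_assoc]

/-- A complement: rotations commuting with each other, centralising the other involutions and
inverted by their own. -/
theorem exists_complement {X : Fin 3 → ↥(centralizer ({t} : Set G))} (hφ : ∀ i, S.φ (X i) = Pi.mulSingle i (F.σ i))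
    (hsq : ∀ i, X i * X i = 1) (hcomm : ∀ i j, X i * X j = X j * X i)
    (hXt : ∀ i, ¬ IsConj t ((X i : G) * t)) (hXc : ∀ i, IsConj t (X i : G)) :
    ∃ e : Fin 3 → ↥(centralizer ({t} : Set G)), (∀ i, S.φ (e i) = Pi.mulSingle i rot) ∧ (∀ i, e i ^ 3 = 1) ∧
      (∀ i j, e i * e j = e j * e i) ∧ (∀ i j, i ≠ j → X i * e j = e j * X i) ∧
      ∀ i, X i * e i * X i = e i ^ 2 := by
  have noT : ∀ (k : Fin 3) (d : ↥(centralizer ({t} : Set G))), d * X k * d⁻¹ = X k ∨ d * X k * d⁻¹ = X k * tC t →
      d * X k * d⁻¹ = X k := fun k d h => h.resolve_right fun e =>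
    hXt k ((hXc k).trans (isConj_iff.2 ⟨(d : G), congrArg Subtype.val e⟩))
  have hXinv : ∀ k, (X k)⁻¹ = X k := fun k => inv_eq_of_mul_eq_one_right (hsq k)
  have hsingle : ∀ (i j : Fin 3) (a b : Equiv.Perm (Fin 3)), i ≠ j →
      (Pi.mulSingle i a : W) * Pi.mulSingle j b = Pi.mulSingle j b * Pi.mulSingle i a :=
    fun i j a b h => Pi.mulSingle_commute (f := fun _ => Equiv.Perm (Fin 3)) h a b
  -- the first rotation
  obtain ⟨c, hc⟩ := S.surj (Pi.mulSingle 0 rot)
  obtain ⟨b1, hb1, hc1, -⟩ := F.centralise hφ hsq hcomm hXt hXc (j := 1) (c := c)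
    (by rw [hc, hφ]; exact hsingle _ _ _ _ (by decide))
  have hc' : S.φ (b1 * c) = Pi.mulSingle 0 rot := by rw [map_mul, hb1, one_mul, hc]
  obtain ⟨b2, hb2, hc2, hkeep⟩ := F.centralise hφ hsq hcomm hXt hXc (j := 2) (c := b1 * c)
    (by rw [hc', hφ]; exact hsingle _ _ _ _ (by decide))
  set d := b2 * (b1 * c)
  have hd : S.φ d = Pi.mulSingle 0 rot := by rw [map_mul, hb2, one_mul, hc']
  have hd1 : Commute (X 1) d := (hkeep 1 (by decide) hc1).symm
  have hd2 : Commute (X 2) d := hc2.symm
  set z := X 0 * d * X 0 * d⁻¹ with hz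
  have hzφ : S.φ z = Pi.mulSingle 0 rot := by
    rw [hz, map_mul, map_mul, map_mul, map_inv, hd, hφ, ← Pi.mulSingle_inv, ← Pi.mulSingle_mul,
      ← Pi.mulSingle_mul, ← Pi.mulSingle_mul]
    congr 1
    rw [perm_flip _ (F.σ_ne 0) (F.σ_sq 0)]
    rw [mul_assoc (rot * rot), F.σ_sq, mul_one]
    decide
  have hzc : ∀ k, k ≠ 0 → Commute (X k) d → Commute (X k) z := fun k _ h =>
    (((Commute.mul_right (hcomm k 0) h).mul_right (hcomm k 0)).mul_right h.inv_right)
  have hz0 : X 0 * z * (X 0)⁻¹ = z⁻¹ := by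
    have hXX : ∀ y, X 0 * (X 0 * y) = y := fun y => by rw [← mul_assoc, hsq, one_mul]
    refine eq_inv_of_mul_eq_one_left ?_
    rw [hz, hXinv]
    simp only [mul_assoc, hXX, inv_mul_cancel_left, mul_inv_cancel]
  set e0 := z ^ 4 with he0def
  obtain ⟨he0, he03⟩ := F.pow_four hzφ
  have hX1 : Commute (X 1) e0 := (hzc 1 (by decide) hd1).pow_right 4
  have hX2 : Commute (X 2) e0 := (hzc 2 (by decide) hd2).pow_right 4
  have hX0 : X 0 * e0 * (X 0)⁻¹ = e0⁻¹ := by rw [← conj_pow, hz0, inv_pow]
  -- the other two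
  have hXe0 : ∀ k, k ≠ 0 → Commute (X k) e0 := fun k hk => by
    rcases fin_third 0 k hk.symm with rfl | rfl
    · exact hX1
    · exact hX2
  have hnext : ∀ j, j ≠ 0 → ∃ e : ↥(centralizer ({t} : Set G)), S.φ e = Pi.mulSingle j rot ∧ e ^ 3 = 1 ∧ Commute e e0 ∧
      (∀ k, k ≠ j → Commute (X k) e) ∧ X j * e * X j = e ^ 2 := by
    intro j hj
    obtain ⟨c, hc, hce⟩ := F.exists_lift he0 he03 (hsingle j 0 rot rot hj)
    obtain ⟨hφe, he3⟩ := F.pow_four hc
    refine ⟨c ^ 4, hφe, he3, (Commute.pow_left hce 4), fun k hk => ?_, ?_⟩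
    · refine (mul_inv_eq_iff_eq_mul.1 (noT k (c ^ 4) ?_) : _).symm
      set e := c ^ 4
      have hee : Commute e e0 := Commute.pow_left hce 4
      set w := (X k)⁻¹ * (e * X k * e⁻¹) with hw
      have hwφ : S.φ w = 1 := by
        rw [hw, map_mul, map_mul, map_mul, map_inv, map_inv, hφe, hφ,
          hsingle j k _ _ hk.symm, mul_inv_cancel_right, inv_mul_cancel]
      have hwc : w * e0 = e0 * w := by
        rcases eq_or_ne k 0 with rfl | hk0
        · -- `X 0` inverts `e0`, which `e` centralises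
          have h1 : Commute ((X 0)⁻¹ * e * X 0) e0 := by
            have hi : Commute e e0⁻¹ := hee.inv_right
            have := hi.conj (X 0)⁻¹
            rw [inv_inv] at this
            have e' : (X 0)⁻¹ * e0⁻¹ * X 0 = e0 := by
              rw [← hX0, hXinv]
              calc X 0 * (X 0 * e0 * X 0) * X 0 = (X 0 * X 0) * e0 * (X 0 * X 0) := by
                    simp [mul_assoc]
                _ = e0 := by rw [hsq]; simp
            rwa [e'] at this
          have e' : w = ((X 0)⁻¹ * e * X 0) * e⁻¹ := by simp [hw, mul_assoc]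
          rw [e']
          exact (h1.mul_left hee.inv_left).eq
        · exact (((hXe0 k hk0).inv_left).mul_left
            ((hee.mul_left (hXe0 k hk0)).mul_left hee.inv_left)).eq
      have hdec : e * X k * e⁻¹ = X k * w := (mul_inv_cancel_left _ _).symm
      rcases F.closeup he0 hwφ hwc with h | h
      · left; rw [hdec, h, mul_one]
      · right; rw [hdec, h]
    · set e := c ^ 4
      have hee : Commute e e0 := Commute.pow_left hce 4
      set w := X j * e * X j * e with hw
      have hwφ : S.φ w = 1 := by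
        rw [hw, map_mul, map_mul, map_mul, hφe, hφ, ← Pi.mulSingle_mul, ← Pi.mulSingle_mul,
          ← Pi.mulSingle_mul, perm_flip _ (F.σ_ne j) (F.σ_sq j), mul_assoc (rot * rot),
          F.σ_sq, mul_one, rot_cube, Pi.mulSingle_one]
      have hwc : Commute w e0 :=
        (((hXe0 j hj).mul_left hee).mul_left (hXe0 j hj)).mul_left hee
      have hinv3 : (X j * e * X j) ^ 3 = 1 := by
        conv_lhs => enter [1, 2]; rw [← hXinv j]
        rw [conj_pow, he3, mul_one, mul_inv_cancel]
      have he2 : e ^ 2 = e⁻¹ := eq_inv_of_mul_eq_one_left (by rw [← pow_succ]; exact he3)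
      refine cube_t S (x := e ^ 2) ?_ hinv3 ?_
      · rw [he2, cube_inv he3]
      · have hdec : X j * e * X j = w * e⁻¹ := (mul_inv_cancel_right _ _).symm
        rcases F.closeup he0 hwφ hwc.eq with h | h
        · left; rw [hdec, h, one_mul, he2]
        · right; rw [hdec, h, he2, tC_comm]
  obtain ⟨e1, p1, q1, c10, cX1, i1⟩ := hnext 1 (by decide)
  obtain ⟨e2, p2, q2, c20, cX2, i2⟩ := hnext 2 (by decide)
  have h12 : Commute e2 e1 := by
    refine mul_inv_eq_iff_eq_mul.1 (cube_t S q1 (by rw [conj_pow, q1, mul_one, mul_inv_cancel]) ?_)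
    set w := e1⁻¹ * (e2 * e1 * e2⁻¹) with hw
    have hwφ : S.φ w = 1 := by
      rw [hw, map_mul, map_mul, map_mul, map_inv, map_inv, p1, p2,
        hsingle 2 1 _ _ (by decide), mul_inv_cancel_right, inv_mul_cancel]
    have hwc : Commute w e0 := c10.inv_left.mul_left ((c20.mul_left c10).mul_left c20.inv_left)
    have hdec : e2 * e1 * e2⁻¹ = e1 * w := (mul_inv_cancel_left _ _).symm
    rcases F.closeup he0 hwφ hwc.eq with h | h
    · left; rw [hdec, h, mul_one]
    · right; rw [hdec, h]
  refine ⟨![e0, e1, e2], fun i => ?_, fun i => ?_, fun i j => ?_, fun i j hij => ?_, fun i => ?_⟩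
  · fin_cases i <;> assumption
  · fin_cases i <;> assumption
  · fin_cases i <;> fin_cases j
    · rfl
    · exact c10.eq.symm
    · exact c20.eq.symm
    · exact c10.eq
    · rfl
    · exact h12.eq.symm
    · exact c20.eq
    · exact h12.eq
    · rfl
  · fin_cases j
    · exact (hXe0 i hij).eq
    · exact (cX1 i hij).eq
    · exact (cX2 i hij).eq
  · fin_cases i
    · show X 0 * e0 * X 0 = e0 ^ 2
      conv_lhs => enter [2]; rw [← hXinv 0]
      rw [hX0]
      exact (eq_inv_of_mul_eq_one_left (by rw [← pow_succ]; exact he03)).symm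
    · exact i1
    · exact i2

end Flips

end CfsgLib.DFour.FrameProof
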