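import Cfsg.Agent.Lib.DFour.Pair

/-!
# The core modulo its centre as the natural module (S3345, piece `Frame`)
-/

set_option autoImplicit false
set_option linter.unusedSectionVars false

namespace CfsgLib.DFour.FrameProof

open Subgroup PairPerm Pair

/-- A power of the chosen element of order three. -/
def IsRot (r : Equiv.Perm (Fin 3)) : Prop := r = 1 ∨ r = rot ∨ r = rot * rot

theorem isRot_mul {a b : Equiv.Perm (Fin 3)} (ha : IsRot a) (hb : IsRot b) : IsRot (a * b) := by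
  unfold IsRot
  rcases ha with rfl | rfl | rfl <;> rcases hb with rfl | rfl | rfl <;> decide

theorem isRot_inj {a b : Equiv.Perm (Fin 3)} (ha : IsRot a) (hb : IsRot b)
    (h : a⁻¹ * b * (a⁻¹ * b) = 1) : a = b := by
  revert h
  rcases ha with rfl | rfl | rfl <;> rcases hb with rfl | rfl | rfl <;> decide

theorem perm_conj' : ∀ s s' : Equiv.Perm (Fin 3), s ≠ 1 ∧ s * s = 1 ∧ s' ≠ 1 ∧ s' * s' = 1 →
    s' * 1 = 1 * s ∨ s' * rot = rot * s ∨ s' * (rot * rot) = rot * rot * s := by decide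

theorem perm_conj {s s' : Equiv.Perm (Fin 3)} (h : s ≠ 1) (h' : s * s = 1) (k : s' ≠ 1)
    (k' : s' * s' = 1) : ∃ r, IsRot r ∧ s' * r = r * s := by
  rcases perm_conj' s s' ⟨h, h', k, k'⟩ with e | e | e
  · exact ⟨1, Or.inl rfl, e⟩
  · exact ⟨rot, Or.inr (Or.inl rfl), e⟩
  · exact ⟨rot * rot, Or.inr (Or.inr rfl), e⟩

universe u

variable {G : Type u} [Group G] [Finite G] {t : G}

/-- The flips belonging to a conjugate of `t` in the core. -/
structure Flips (S : Setting t) (g : G) where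
  hq : g * t * g⁻¹ ∈ S.Q
  hne : g * t * g⁻¹ ≠ t
  σ : Fin 3 → Equiv.Perm (Fin 3)
  σ_ne : ∀ i, σ i ≠ 1
  σ_sq : ∀ i, σ i * σ i = 1
  σ_mem : ∀ i, Pi.mulSingle i (σ i) ∈ (imgQc S g).range

variable {S : Setting t} {g : G}

theorem exists_flips (hq : g * t * g⁻¹ ∈ S.Q) (hne : g * t * g⁻¹ ≠ t) :
    Nonempty (Flips S g) := by
  obtain ⟨σ, h1, h2, h3, -⟩ := sylow (fun x hx => imgQc_sq S (g := g) hx)
    (card_range_imgQc S hq hne)
  exact ⟨⟨hq, hne, σ, h1, h2, h3⟩⟩

namespace Flips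

variable (F : Flips S g)
include F

/-- The vector of the conjugate. -/
def u : V S := v S ⟨g * t * g⁻¹, F.hq⟩

theorem u_ne : F.u ≠ 0 := fun h => by
  rcases (v_eq_zero S _).1 h with h | h
  · exact q_ne_one S h
  · exact F.hne h

theorem free (i : Fin 3) (x : V S) (h : ρ S (Pi.mulSingle i rot) x = x) : x = 0 :=
  (module_facts S F.hq F.hne).1 i x h

/-- The flip `σ i` on the module. -/
noncomputable def τ (i : Fin 3) : V S →+ V S := ρ S (Pi.mulSingle i (F.σ i))

/-- The element of order three of the coordinate `i` on the module. -/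
noncomputable def p (_F : Flips S g) (i : Fin 3) : V S →+ V S := ρ S (Pi.mulSingle i rot)

theorem cube (i : Fin 3) (x : V S) : F.p i (F.p i (F.p i x)) = x :=
  (actS S F.σ F.σ_ne F.σ_sq).cube i x

theorem p_sq (i : Fin 3) (x : V S) : F.p i (F.p i x) = F.p i x + x := by
  have h : F.p i (F.p i x) + F.p i x + x = 0 := F.free i _ (by
    show F.p i (F.p i (F.p i x) + F.p i x + x) = _
    simp only [map_add, F.cube]
    abel)
  exact (LocalModule.eq_of_add (actS S F.σ F.σ_ne F.σ_sq) (by rw [← h]; abel))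

theorem τ_p (i : Fin 3) (x : V S) : F.τ i (F.p i x) = F.p i (F.τ i x) + F.τ i x := by
  rw [← F.p_sq]
  exact (actS S F.σ F.σ_ne F.σ_sq).flip i x

theorem τ_p' {i j : Fin 3} (h : i ≠ j) (x : V S) : F.τ i (F.p j x) = F.p j (F.τ i x) :=
  (actS S F.σ F.σ_ne F.σ_sq).tp i j x h

theorem pp (i j : Fin 3) (x : V S) : F.p i (F.p j x) = F.p j (F.p i x) := by
  rcases eq_or_ne i j with rfl | h
  · rfl
  · exact (actS S F.σ F.σ_ne F.σ_sq).pp i j x h

theorem τ_u (i : Fin 3) : F.τ i F.u = F.u := by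
  obtain ⟨b, hb⟩ := F.σ_mem i
  show ρ S _ _ = _
  rw [← hb]
  refine ((ρ_φ S _ _).trans (act_v S _ _)).trans ((v_eq S _ _).2 (Or.inl ?_))
  show (b : G) * (g * t * g⁻¹) * (b : G)⁻¹ = g * t * g⁻¹
  exact mul_inv_eq_iff_eq_mul.2 (mem_centralizer_singleton_iff.1 (Qc_le S b.2.1))

theorem fix_unique {x : V S} (h : ∀ i, F.τ i x = x) : x = 0 ∨ x = F.u :=
  LocalModule.fix_unique (actS S F.σ F.σ_ne F.σ_sq) (card_V S) F.free F.τ_u F.u_ne h

/-- Elements of the module given by powers of the elements of order three determine them. -/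
theorem ρ_inj {w w' : W} (hw : ∀ i, IsRot (w i)) (hw' : ∀ i, IsRot (w' i))
    (h : ρ S w F.u = ρ S w' F.u) : w = w' := by
  obtain ⟨c, hc⟩ := S.surj (w⁻¹ * w')
  have hfix : act S c F.u = F.u := by
    rw [← ρ_φ, hc, ρ_mul, ← h, ← ρ_mul, inv_mul_cancel, ρ_one]
  have hsq := imgQc_sq S (stab_mem S F.hq F.hne c ((v_eq S _ _).1 hfix))
  rw [hc] at hsq
  exact funext fun i => isRot_inj (hw i) (hw' i) (congrFun hsq i)

theorem ρ_ne_zero (w : W) : ρ S w F.u ≠ 0 := fun h => F.u_ne (by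
  rw [← ρ_one S F.u, ← inv_mul_cancel w, ρ_mul, h, map_zero])

theorem fix_coord {w : W} {i : Fin 3} (h : w i = 1) : F.τ i (ρ S w F.u) = ρ S w F.u := by
  have hc : Pi.mulSingle i (F.σ i) * w = w * Pi.mulSingle i (F.σ i) := by
    funext j
    rcases eq_or_ne j i with rfl | hj
    · simp [h]
    · simp [Pi.mulSingle_eq_of_ne hj]
  show ρ S _ _ = _
  rw [← ρ_mul, hc, ρ_mul]
  exact congrArg _ (F.τ_u i)

theorem diff_coord {w : W} {i : Fin 3} (hr : IsRot (w i)) (h : w i ≠ 1) :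
    F.τ i (ρ S w F.u) + ρ S w F.u = ρ S (Function.update w i 1) F.u := by
  set y := ρ S (Function.update w i 1) F.u
  have hy : F.τ i y = y := F.fix_coord (Function.update_self ..)
  have hw : ρ S w F.u = ρ S (Pi.mulSingle i (w i)) y := by
    rw [← ρ_mul]
    congr 2
    funext j
    rcases eq_or_ne j i with rfl | hj
    · simp
    · simp [hj]
  rw [hw]
  have h2 := v_two S
  rcases hr.resolve_left h with e | e <;> rw [e]
  · show F.τ i (F.p i y) + F.p i y = y
    rw [F.τ_p, hy]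
    calc F.p i y + y + F.p i y = y + (F.p i y + F.p i y) := by abel
      _ = y := by rw [h2, add_zero]
  · rw [Pi.mulSingle_mul, ρ_mul]
    show F.τ i (F.p i (F.p i y)) + F.p i (F.p i y) = y
    rw [F.p_sq, map_add, F.τ_p, hy]
    calc F.p i y + y + y + (F.p i y + y) = y + (y + y) + (F.p i y + F.p i y) := by abel
      _ = y := by rw [h2, h2, add_zero, add_zero]

theorem τ_lift (i : Fin 3) (a : ↥S.Q) : ∃ b ∈ S.Qc g ⊓ centralizer ({t} : Set G), ∃ hb,
    F.τ i (v S a) = v S ⟨b * (a : G) * b⁻¹, hb⟩ := by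
  obtain ⟨b, hb⟩ := F.σ_mem i
  refine ⟨b, b.2, S.normal _ b.2.2 _ a.2, ?_⟩
  show ρ S _ _ = _
  rw [← hb]
  exact (ρ_φ S _ _).trans (act_v S _ _)

/-- The vectors of the meet of the two cores. -/
theorem mem_meet_iff (a : ↥S.Q) : (a : G) ∈ S.Qc g ↔
    ∀ i, F.τ i (v S a) + v S a = 0 ∨ F.τ i (v S a) + v S a = F.u := by
  let e : ↥S.Q →* Multiplicative (V S) :=
    { toFun := fun a => Multiplicative.ofAdd (v S a)
      map_one' := rfl
      map_mul' := fun a b => rfl }
  let D : V S →+ (Fin 3 → V S) :=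
    AddMonoidHom.mk' (fun x i => F.τ i x + x) fun x y => funext fun i => by
      show F.τ i (x + y) + (x + y) = F.τ i x + x + (F.τ i y + y)
      rw [map_add]
      abel
  let U : AddSubgroup (V S) := AddSubgroup.zmultiples F.u
  have hU : ∀ x, x ∈ U ↔ x = 0 ∨ x = F.u := by
    intro x
    refine ⟨fun hx => ?_, fun h => ?_⟩
    · obtain ⟨n, rfl⟩ := hx
      rcases Int.even_or_odd' n with ⟨k, rfl | rfl⟩
      · left
        show (2 * k) • F.u = 0
        rw [mul_comm, mul_zsmul, two_zsmul, v_two S, zsmul_zero]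
      · right
        show (2 * k + 1) • F.u = F.u
        rw [add_zsmul, one_zsmul, mul_comm, mul_zsmul, two_zsmul, v_two S, zsmul_zero, zero_add]
    · rcases h with rfl | rfl
      · exact U.zero_mem
      · exact AddSubgroup.mem_zmultiples _
  let L : AddSubgroup (V S) := (AddSubgroup.pi Set.univ fun _ : Fin 3 => U).comap D
  have hL : ∀ x, x ∈ L ↔ ∀ i, F.τ i x + x = 0 ∨ F.τ i x + x = F.u := fun x => by
    simp only [L, AddSubgroup.mem_comap, AddSubgroup.mem_pi, Set.mem_univ, true_implies, hU]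
    rfl
  let K : Subgroup ↥S.Q := (AddSubgroup.toSubgroup L).comap e
  have hJK : (S.Q ⊓ S.Qc g).subgroupOf S.Q ≤ K := by
    intro x hx
    refine (hL _).2 fun i => ?_
    show F.τ i (v S x) + v S x = 0 ∨ F.τ i (v S x) + v S x = F.u
    obtain ⟨b, hb, hbQ, he⟩ := F.τ_lift i x
    rw [he]
    have h1 := (mem_Qc S).1 hb.1
    have h2 : g⁻¹ * (x : G) * g ∈ S.Q := (mem_Qc S).1 hx.2
    have e' : b * (x : G) * b⁻¹ * (x : G)⁻¹ = g * (g⁻¹ * b * g * (g⁻¹ * x * g) *
        (g⁻¹ * b * g)⁻¹ * (g⁻¹ * x * g)⁻¹) * g⁻¹ := by simp [mul_assoc]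
    rcases S.comm _ h1 _ h2 with h | h <;> rw [h] at e'
    · left
      have : (⟨b * (x : G) * b⁻¹, hbQ⟩ : ↥S.Q) = x :=
        Subtype.ext (mul_inv_eq_one.1 (e'.trans (by simp)))
      rw [this]
      exact v_two S _
    · right
      have : (⟨b * (x : G) * b⁻¹, hbQ⟩ : ↥S.Q) = ⟨g * t * g⁻¹, F.hq⟩ * x :=
        Subtype.ext (mul_inv_eq_iff_eq_mul.1 e')
      rw [this, v_mul, add_assoc, v_two S, add_zero]
      rfl
  -- `K` has order at most `32`
  have hKer : Nat.card (D.comp L.subtype).ker ≤ 2 := by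
    refine (Nat.card_le_card_of_injective
      (fun x : (D.comp L.subtype).ker =>
        (⟨((x : L) : V S), (hU _).2 (F.fix_unique fun i =>
          LocalModule.eq_of_add (actS S F.σ F.σ_ne F.σ_sq) (congrFun x.2 i))⟩ : U))
      fun x y h => Subtype.ext (Subtype.ext (congrArg (fun z : U => (z : V S)) h))).trans ?_
    rw [Nat.card_zmultiples]
    exact Nat.le_of_dvd two_pos (addOrderOf_dvd_of_nsmul_eq_zero (by rw [two_nsmul]; exact v_two S _))
  have hUc : Nat.card U ≤ 2 := by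
    rw [Nat.card_zmultiples]
    exact Nat.le_of_dvd two_pos (addOrderOf_dvd_of_nsmul_eq_zero (by rw [two_nsmul]; exact v_two S _))
  have hRange : Nat.card (D.comp L.subtype).range ≤ 8 := by
    refine (Nat.card_le_card_of_injective
      (fun x : (D.comp L.subtype).range => fun i => (⟨(x : Fin 3 → V S) i, by
        obtain ⟨y, hy⟩ := x.2
        rw [← hy]
        exact y.2 i (Set.mem_univ i)⟩ : U))
      fun x y h => Subtype.ext (funext fun i => congrArg Subtype.val (congrFun h i))).trans ?_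
    rw [Nat.card_pi, Fin.prod_univ_three]
    calc Nat.card U * Nat.card U * Nat.card U ≤ 2 * 2 * 2 :=
          Nat.mul_le_mul (Nat.mul_le_mul hUc hUc) hUc
      _ = 8 := rfl
  have hLc : Nat.card L ≤ 16 := by
    rw [← (D.comp L.subtype).ker.card_mul_index, AddSubgroup.index_ker]
    exact (Nat.mul_le_mul hKer hRange).trans (by norm_num)
  have hKc : Nat.card K ≤ 32 := by
    let f : K →* Multiplicative (V S) := e.comp K.subtype
    have h1 : Nat.card f.ker ≤ 2 := by
      rw [← card_center S]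
      exact Nat.card_le_card_of_injective
        (fun x : f.ker => (⟨(x : K), (mem_center_iff' S).2 ((v_eq_zero S _).1 x.2)⟩ :
          center ↥S.Q))
        fun x y h => Subtype.ext (Subtype.ext (congrArg (fun z : center ↥S.Q => (z : ↥S.Q)) h))
    have h2 : Nat.card f.range ≤ Nat.card L :=
      Nat.card_le_card_of_injective
        (fun x : f.range => (⟨Multiplicative.toAdd (x : Multiplicative (V S)), by
          obtain ⟨y, hy⟩ := x.2
          rw [← hy]
          exact y.2⟩ : L))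
        fun x y h => Subtype.ext (congrArg (fun z : L => Multiplicative.ofAdd (z : V S)) h)
    rw [← f.ker.card_mul_index, Subgroup.index_ker]
    exact (Nat.mul_le_mul h1 (h2.trans hLc)).trans (by norm_num)
  have hJc : Nat.card ((S.Q ⊓ S.Qc g).subgroupOf S.Q) = 32 := by
    rw [Nat.card_congr (Subgroup.subgroupOfEquivOfLe inf_le_left).toEquiv,
      meet_card S F.hq F.hne]
  have hKJ := Subgroup.eq_of_le_of_card_ge hJK (hKc.trans hJc.ge)
  constructor
  · intro h
    exact (hL _).1 (hJK (show a ∈ _ from ⟨a.2, h⟩))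
  · intro h
    have h' : a ∈ K := (hL _).2 h
    exact (show a ∈ (S.Q ⊓ S.Qc g).subgroupOf S.Q from hKJ.symm ▸ h').2

/-- A vector of the orbit of `u` in the meet differs from `u` in at most one coordinate. -/
theorem meet_pure {w : W} (hw : ∀ i, IsRot (w i)) {a : ↥S.Q} (ha : v S a = ρ S w F.u)
    (hm : (a : G) ∈ S.Qc g) {i j : Fin 3} (hij : i ≠ j) : w i = 1 ∨ w j = 1 := by
  by_contra h
  rw [not_or] at h
  have := (F.mem_meet_iff a).1 hm i
  rw [ha, F.diff_coord (hw i) h.1] at this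
  rcases this with h0 | hu
  · exact F.ρ_ne_zero _ h0
  · have h1 : Function.update w i 1 = 1 := F.ρ_inj (fun k => by
      rcases eq_or_ne k i with rfl | hk
      · rw [Function.update_self]; exact Or.inl rfl
      · rw [Function.update_of_ne hk]; exact hw k) (fun k => Or.inl rfl)
      (by rw [hu, ρ_one])
    have := congrFun h1 j
    rw [Function.update_of_ne hij.symm] at this
    exact h.2 this

/-- Every conjugate of `t` in the core other than `t` lies over the orbit of `u`. -/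
theorem pure {g' : G} (hq : g' * t * g'⁻¹ ∈ S.Q) (hne : g' * t * g'⁻¹ ≠ t) :
    ∃ w : W, (∀ i, IsRot (w i)) ∧ v S ⟨g' * t * g'⁻¹, hq⟩ = ρ S w F.u := by
  obtain ⟨F'⟩ := exists_flips hq hne
  choose r hr hr' using fun i => perm_conj (F.σ_ne i) (F.σ_sq i) (F'.σ_ne i) (F'.σ_sq i)
  refine ⟨r, hr, ?_⟩
  set x := ρ S r⁻¹ F'.u with hx
  have hfix : ∀ i, F.τ i x = x := fun i => by
    have e : Pi.mulSingle i (F.σ i) * r⁻¹ = r⁻¹ * Pi.mulSingle i (F'.σ i) := by
      funext k
      rcases eq_or_ne k i with rfl | hk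
      · simp only [Pi.mul_apply, Pi.inv_apply, Pi.mulSingle_eq_same]
        rw [eq_inv_mul_iff_mul_eq, ← mul_assoc, ← hr' k, mul_inv_cancel_right]
      · simp [Pi.mulSingle_eq_of_ne hk]
    show ρ S _ _ = _
    rw [hx, ← ρ_mul, e, ρ_mul]
    exact congrArg _ (F'.τ_u i)
  have : x = F.u := (F.fix_unique hfix).resolve_left fun h => F'.u_ne (by
    rw [← ρ_one S F'.u, ← mul_inv_cancel r, ρ_mul, ← hx, h, map_zero])
  rw [← this, hx, ← ρ_mul, mul_inv_cancel, ρ_one]
  rfl

/-- All conjugates of `t` in the core other than `t` form one orbit. -/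
theorem in_Q {a : G} (ha : a ∈ S.Q) (hc : IsConj t a) (hne : a ≠ t) :
    ∃ c ∈ centralizer ({t} : Set G), c * (g * t * g⁻¹) * c⁻¹ = a := by
  obtain ⟨g', rfl⟩ := isConj_iff.1 hc
  obtain ⟨w, -, hw⟩ := F.pure ha hne
  obtain ⟨c, rfl⟩ := S.surj w
  have hw' : v S ⟨g' * t * g'⁻¹, ha⟩ = v S (conjQ S c ⟨g * t * g⁻¹, F.hq⟩) :=
    hw.trans ((ρ_φ S _ _).trans (act_v S _ _))
  rcases (v_eq S _ _).1 hw' with h | h
  · exact ⟨c, c.2, h.symm⟩
  · obtain ⟨b, hb, hbq⟩ := exists_moves S F.hq F.hne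
    refine ⟨(c : G) * b, Subgroup.mul_mem _ c.2 (S.Q_le hb), ?_⟩
    have h' : g' * t * g'⁻¹ = (c : G) * (g * t * g⁻¹) * (c : G)⁻¹ * t := h
    rw [h']
    calc (c : G) * b * (g * t * g⁻¹) * ((c : G) * b)⁻¹
        = (c : G) * (b * (g * t * g⁻¹) * b⁻¹) * (c : G)⁻¹ := by simp [mul_assoc]
      _ = (c : G) * (g * t * g⁻¹) * (t * (c : G)⁻¹) := by rw [hbq]; simp [mul_assoc]
      _ = (c : G) * (g * t * g⁻¹) * ((c : G)⁻¹ * t) := by
          rw [mem_centralizer_singleton_iff.1 (Subgroup.inv_mem _ c.2)]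
      _ = (c : G) * (g * t * g⁻¹) * (c : G)⁻¹ * t := by simp [mul_assoc]

/-- An additive subgroup containing `u` and closed under the three rotations is everything. -/
theorem span (X : AddSubgroup (V S)) (hu : F.u ∈ X) (hp : ∀ i x, x ∈ X → F.p i x ∈ X) :
    X = ⊤ := by
  set A := actS S F.σ F.σ_ne F.σ_sq
  have he : ∀ i x, LocalModule.e A i x = x := fun i x => by
    rw [LocalModule.e_apply]
    show F.p i x + F.p i (F.p i x) = x
    rw [F.p_sq, ← add_assoc, v_two S, zero_add]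
  set X0 := AddSubgroup.zmultiples F.u
  set X1 := X0 ⊔ X0.map (A.p 0) with hX1
  set X2 := X1 ⊔ X1.map (A.p 1) with hX2
  have h2 := LocalModule.two_le_card F.u_ne
  have hf : ∀ i, ∀ x ∈ X0, A.τ i x = x := fun i => LocalModule.fix_zmultiples _ (F.τ_u i)
  have hf1 : ∀ i, i ≠ 0 → ∀ x ∈ X1, A.τ i x = x := fun i hi =>
    LocalModule.sup_fix A _ 0 X0 (hf i) fun x => A.tp i 0 x hi
  have c1 : 4 ≤ Nat.card X1 := le_trans (Nat.mul_le_mul h2 h2)
    (LocalModule.grow A 0 X0 (hf 0) fun x _ => he 0 x)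
  have c2 : 16 ≤ Nat.card X2 := le_trans (Nat.mul_le_mul c1 c1)
    (LocalModule.grow A 1 X1 (hf1 1 (by decide)) fun x _ => he 1 x)
  have c3 : 256 ≤ Nat.card (X2 ⊔ X2.map (A.p 2) : AddSubgroup (V S)) :=
    le_trans (Nat.mul_le_mul c2 c2) (LocalModule.grow A 2 X2
      (LocalModule.sup_fix A _ 1 X1 (hf1 2 (by decide)) fun x => A.tp 2 1 x (by decide))
      fun x _ => he 2 x)
  have hle : ∀ i, ∀ Y : AddSubgroup (V S), Y ≤ X → Y ⊔ Y.map (A.p i) ≤ X := fun i Y hY =>
    sup_le hY (by rintro _ ⟨x, hx, rfl⟩; exact hp i x (hY hx))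
  have h0 : X0 ≤ X := AddSubgroup.zmultiples_le.2 hu
  refine AddSubgroup.eq_top_of_le_card _ ?_
  rw [card_V S]
  exact c3.trans (AddSubgroup.card_le_of_le (hle 2 _ (hle 1 _ (hle 0 _ h0))))

end Flips

end CfsgLib.DFour.FrameProof
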