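import Cfsg.Agent.Lib.DFour.FrameModule

/-!
# The three outer root elements from the swap of `t` and `q` (S3345, piece `Frame`)

An element `h` exchanging `t` and `q` carries the vectors `p j p k u` of the core to involutions of
`C_{Q'}(t)` outside `Q`; each of these centralises two of the three conjugates in the meet, so its
image in the Levi complement is a single flip.
-/

set_option autoImplicit false
set_option linter.unusedSectionVars false

namespace CfsgLib.DFour.FrameProof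

open Subgroup PairPerm Pair

universe u

variable {G : Type u} [Group G] [Finite G] {t : G} {S : Setting t} {g : G}

theorem fin_third : ∀ i k : Fin 3, i ≠ k → k = i + 1 ∨ k = i + 2 := by decide

theorem fin_ne1 : ∀ i : Fin 3, i + 1 ≠ i := by decide

theorem fin_ne2 : ∀ i : Fin 3, i + 2 ≠ i := by decide

theorem fin_ne12 : ∀ i : Fin 3, i + 1 ≠ i + 2 := by decide

theorem fin_pair : ∀ i l : Fin 3, i ≠ l →
    (l = i + 1 ∧ i = l + 2) ∨ (l = i + 2 ∧ i = l + 1) := by decide

/-- A commuting pair stays so modulo the centre. -/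
theorem comm_congr {a a' b : ↥S.Q} (h : v S a = v S a') (hb : a * b = b * a) : a' * b = b * a' := by
  refine Subtype.ext ?_
  have hb' : (a : G) * b = b * a := congrArg Subtype.val hb
  show (a' : G) * b = b * a'
  rcases (v_eq S _ _).1 h.symm with e | e
  · rw [e, hb']
  · rw [e, mul_assoc, ← t_comm S b.2, ← mul_assoc, hb', mul_assoc]

theorem conjQ_v (c : ↥(centralizer ({t} : Set G))) (a : ↥S.Q) :
    v S (conjQ S c a) = ρ S (S.φ c) (v S a) := ((ρ_φ S c _).trans (act_v S c a)).symm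

namespace Flips

variable (F : Flips S g)
include F

/-- The conjugate of `t` as an element of the core. -/
def qQ : ↥S.Q := ⟨g * t * g⁻¹, F.hq⟩

theorem range_fix_u {w : W} (hw : w ∈ (imgQc S g).range) : ρ S w F.u = F.u := by
  obtain ⟨b, rfl⟩ := hw
  refine ((ρ_φ S _ _).trans (act_v S _ _)).trans ((v_eq S _ _).2 (Or.inl ?_))
  show (b : G) * (g * t * g⁻¹) * (b : G)⁻¹ = g * t * g⁻¹
  exact mul_inv_eq_iff_eq_mul.2 (mem_centralizer_singleton_iff.1 (Qc_le S b.2.1))

/-- Membership of the other core depends on the class modulo the centre. -/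
theorem mem_of_v {a b : ↥S.Q} (h : v S a = v S b) (hb : (b : G) ∈ S.Qc g) : (a : G) ∈ S.Qc g := by
  rw [F.mem_meet_iff, h]
  exact (F.mem_meet_iff b).1 hb

theorem exists_swap : ∃ h : G, h * t * h⁻¹ = g * t * g⁻¹ ∧ h * (g * t * g⁻¹) * h⁻¹ = t ∧
    (∀ x, x ∈ S.Qc g ↔ h⁻¹ * x * h ∈ S.Q) ∧ ∀ x, x ∈ S.Qc g ↔ h * x * h⁻¹ ∈ S.Q := by
  have h1 : g⁻¹ * t * g ∈ S.Q := (mem_Qc S).1 (t_mem S F.hq F.hne)
  have h2 : g⁻¹ * t * g ≠ t := fun e => F.hne (by
    calc g * t * g⁻¹ = g * (g⁻¹ * t * g) * g⁻¹ := by rw [e]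
      _ = t := by simp [mul_assoc])
  obtain ⟨c, hc, hcq⟩ := F.in_Q h1 (isConj_iff.2 ⟨g⁻¹, by simp⟩) h2
  have hct : c * t * c⁻¹ = t := mul_inv_eq_iff_eq_mul.2 (mem_centralizer_singleton_iff.1 hc)
  have e1 : g * c * t * (g * c)⁻¹ = g * t * g⁻¹ := by
    calc g * c * t * (g * c)⁻¹ = g * (c * t * c⁻¹) * g⁻¹ := by simp [mul_assoc]
      _ = _ := by rw [hct]
  have e2 : g * c * (g * t * g⁻¹) * (g * c)⁻¹ = t := by
    calc g * c * (g * t * g⁻¹) * (g * c)⁻¹ = g * (c * (g * t * g⁻¹) * c⁻¹) * g⁻¹ := by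
          simp [mul_assoc]
      _ = t := by rw [hcq]; simp [mul_assoc]
  have hm : g * c * g ∈ centralizer ({t} : Set G) := by
    refine mem_centralizer_singleton_iff.2 ?_
    refine mul_inv_eq_iff_eq_mul.1 ?_
    calc g * c * g * t * (g * c * g)⁻¹ = g * c * (g * t * g⁻¹) * (g * c)⁻¹ := by simp [mul_assoc]
      _ = t := e2
  refine ⟨g * c, e1, e2, fun x => ?_, fun x => ?_⟩
  · rw [mem_Qc S]
    constructor
    · intro hx
      simpa [mul_assoc] using S.normal _ (Subgroup.inv_mem _ hc) _ hx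
    · intro hx
      simpa [mul_assoc] using S.normal _ hc _ hx
  · rw [mem_Qc S]
    constructor
    · intro hx
      simpa [mul_assoc] using S.normal _ hm _ hx
    · intro hx
      simpa [mul_assoc] using S.normal _ (Subgroup.inv_mem _ hm) _ hx

/-- The three commuting root involutions of `C_{Q'}(t)` outside the core. -/
theorem exists_X : ∃ X : Fin 3 → ↥(centralizer ({t} : Set G)),
    (∀ i, (X i : G) ∈ S.Qc g) ∧ (∀ i, S.φ (X i) = Pi.mulSingle i (F.σ i)) ∧
    (∀ i, IsConj t (X i : G)) ∧ (∀ i j, X i * X j = X j * X i) ∧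
    ∀ i, ¬ IsConj t ((X i : G) * t) := by
  have hrot1 : rot ≠ 1 := by decide
  choose c hc using fun i : Fin 3 => S.surj (Pi.mulSingle i rot)
  have hv : ∀ i (a : ↥S.Q), v S (conjQ S (c i) a) = F.p i (v S a) := fun i a => by
    rw [conjQ_v, hc]
    rfl
  -- the conjugates in the meet
  set r : Fin 3 → ↥S.Q := fun k => conjQ S (c k) F.qQ with hr
  have hvr : ∀ k, v S (r k) = F.p k F.u := fun k => hv k _
  have hrc : ∀ k, IsConj t (r k : G) := fun k => isConj_iff.2 ⟨(c k : G) * g, by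
    show _ = (c k : G) * (g * t * g⁻¹) * (c k : G)⁻¹
    simp [mul_assoc]⟩
  have hrJ : ∀ k, (r k : G) ∈ S.Qc g := fun k => by
    rw [F.mem_meet_iff, hvr]
    intro i
    rcases eq_or_ne i k with rfl | h
    · right
      rw [F.τ_p, F.τ_u]
      calc F.p i F.u + F.u + F.p i F.u = F.u + (F.p i F.u + F.p i F.u) := by abel
        _ = F.u := by rw [v_two S, add_zero]
    · left
      rw [F.τ_p' h, F.τ_u]
      exact v_two S _
  have hqJ : (F.qQ : G) ∈ S.Qc g := (mem_Qc S).2 (by simpa [qQ, mul_assoc] using S.t_mem)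
  have hJc : ∀ a b : ↥S.Q, (a : G) ∈ S.Qc g → (b : G) ∈ S.Qc g → a * b = b * a :=
    fun a b ha hb => Subtype.ext (meet_comm S F.hq F.hne a ⟨a.2, ha⟩ b ⟨b.2, hb⟩)
  -- the vectors outside the meet
  set A : Fin 3 → ↥S.Q := fun i => conjQ S (c (i + 1)) (r (i + 2)) with hA
  have hvA : ∀ i, v S (A i) = F.p (i + 1) (F.p (i + 2) F.u) := fun i => by rw [hA, hv, hvr]
  have hvA' : ∀ i, v S (conjQ S (c (i + 2)) (r (i + 1))) = v S (A i) := fun i => by
    rw [hvA, hv, hvr, F.pp]
  have hconj : ∀ k (a b : ↥S.Q), a * b = b * a →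
      conjQ S (c k) a * conjQ S (c k) b = conjQ S (c k) b * conjQ S (c k) a := fun k a b h => by
    rw [← map_mul, ← map_mul, h]
  -- they commute with the conjugate, with two vectors of the meet, and with each other
  have hAq : ∀ i, A i * F.qQ = F.qQ * A i := fun i => by
    set q' := conjQ S (c (i + 1))⁻¹ F.qQ with hq'
    have hv' : v S q' = v S (r (i + 1) * F.qQ) := by
      rw [hq', conjQ_v, map_inv, hc, v_mul, hvr]
      have h2 : (Pi.mulSingle (i + 1) rot : W)⁻¹ = Pi.mulSingle (i + 1) (rot * rot) := by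
        rw [← Pi.mulSingle_inv, show rot⁻¹ = rot * rot by decide]
      rw [h2, Pi.mulSingle_mul, ρ_mul]
      show F.p _ (F.p _ F.u) = _
      rw [F.p_sq]
      rfl
    have hq'J : (q' : G) ∈ S.Qc g := F.mem_of_v hv' (Subgroup.mul_mem _ (hrJ _) hqJ)
    have e : F.qQ = conjQ S (c (i + 1)) q' := Subtype.ext (by simp [hq', conjQ, mul_assoc])
    rw [hA, e]
    exact hconj _ _ _ (hJc _ _ (hrJ _) hq'J)
  have hAr : ∀ i k, i ≠ k → A i * r k = r k * A i := fun i k hik => by
    rcases fin_third i k hik with rfl | rfl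
    · exact hconj _ _ _ (hJc _ _ (hrJ _) hqJ)
    · exact comm_congr (hvA' i) (hconj _ _ _ (hJc _ _ (hrJ _) hqJ))
  have hAA : ∀ i l, A i * A l = A l * A i := by
    intro i l
    rcases eq_or_ne i l with rfl | hil
    · rfl
    rcases fin_pair i l hil with ⟨hl, hi⟩ | ⟨hl, hi⟩
    · subst hl
      have e1 : i + 2 = i + 1 + 1 := by rw [add_assoc]; rfl
      refine comm_congr (hvA' i) ?_
      have e : A (i + 1) = conjQ S (c (i + 2)) (r (i + 1 + 2)) := by
        show conjQ S (c (i + 1 + 1)) _ = _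
        rw [← e1]
      rw [e]
      exact hconj _ _ _ (hJc _ _ (hrJ _) (hrJ _))
    · subst hl
      have e1 : i + 1 = i + 2 + 2 := by rw [add_assoc]; exact congrArg (i + ·) (by decide)
      have h := hvA' (i + 2)
      rw [← e1] at h
      exact (comm_congr h (hconj _ _ (r (i + 2)) (hJc (r (i + 2 + 1)) _ (hrJ _) (hrJ _)))).symm
  -- their position
  have hd : ∀ i, F.τ (i + 1) (v S (A i)) + v S (A i) = F.p (i + 2) F.u := fun i => by
    rw [hvA, F.τ_p, F.τ_p' (fin_ne12 i), F.τ_u]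
    calc _ = F.p (i + 2) F.u + (F.p (i + 1) (F.p (i + 2) F.u) +
          F.p (i + 1) (F.p (i + 2) F.u)) := by abel
      _ = _ := by rw [v_two S, add_zero]
  have hd' : ∀ i, F.τ (i + 2) (v S (A i)) + v S (A i) = F.p (i + 1) F.u := fun i => by
    rw [hvA, F.pp, F.τ_p, F.τ_p' (fin_ne12 i).symm, F.τ_u]
    calc _ = F.p (i + 1) F.u + (F.p (i + 2) (F.p (i + 1) F.u) +
          F.p (i + 2) (F.p (i + 1) F.u)) := by abel
      _ = _ := by rw [v_two S, add_zero]
  have hp0 : ∀ k, F.p k F.u ≠ 0 := fun k => F.ρ_ne_zero _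
  have hpu : ∀ k, F.p k F.u ≠ F.u := fun k h => F.u_ne (F.free k _ h)
  have hdp : ∀ i l, i ≠ l → F.p i F.u + F.p l F.u ≠ 0 ∧ F.p i F.u + F.p l F.u ≠ F.u := by
    intro i l hil
    have h1 : F.τ i (F.p i F.u + F.p l F.u) + (F.p i F.u + F.p l F.u) = F.u := by
      rw [map_add, F.τ_p, F.τ_p' hil, F.τ_u]
      calc _ = F.u + (F.p i F.u + F.p i F.u) + (F.p l F.u + F.p l F.u) := by abel
        _ = F.u := by simp only [v_two S, add_zero]
    constructor <;> intro h <;> rw [h] at h1
    · rw [map_zero, zero_add] at h1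
      exact F.u_ne h1.symm
    · rw [F.τ_u, v_two S] at h1
      exact F.u_ne h1.symm
  have hAJ : ∀ i, (A i : G) ∉ S.Qc g := fun i h => by
    rcases (F.mem_meet_iff _).1 h (i + 1) with e | e <;> rw [hd] at e
    · exact hp0 _ e
    · exact hpu _ e
  have hAAJ : ∀ i l, i ≠ l → ((A i * A l : ↥S.Q) : G) ∉ S.Qc g := fun i l hil h => by
    have h' := (F.mem_meet_iff _).1 h
    rcases fin_pair i l hil with ⟨hl, hi⟩ | ⟨hl, hi⟩
    · subst hl
      have e1 : i + 1 + 1 = i + 2 := by rw [add_assoc]; rfl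
      have e2 : i + 1 + 2 = i := hi.symm
      have e : F.τ (i + 2) (v S (A i * A (i + 1))) + v S (A i * A (i + 1)) =
          F.p (i + 1) F.u + F.p i F.u := by
        rw [v_mul, map_add, ← hd' i]
        have h1 := hd (i + 1)
        rw [e1, e2] at h1
        rw [← h1]
        abel
      rcases h' (i + 2) with k | k <;> rw [e] at k
      · exact (hdp _ _ (fin_ne1 i)).1 k
      · exact (hdp _ _ (fin_ne1 i)).2 k
    · subst hl
      have e1 : i + 2 + 2 = i + 1 := by rw [add_assoc]; exact congrArg (i + ·) (by decide)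
      have e2 : i + 2 + 1 = i := hi.symm
      have e : F.τ (i + 1) (v S (A i * A (i + 2))) + v S (A i * A (i + 2)) =
          F.p (i + 2) F.u + F.p i F.u := by
        rw [v_mul, map_add, ← hd i]
        have h1 := hd' (i + 2)
        rw [e1, e2] at h1
        rw [← h1]
        abel
      rcases h' (i + 1) with k | k <;> rw [e] at k
      · exact (hdp _ _ (fin_ne2 i)).1 k
      · exact (hdp _ _ (fin_ne2 i)).2 k
  have hAc : ∀ i, IsConj t (A i : G) := fun i => (hrc (i + 2)).trans (isConj_iff.2 ⟨_, rfl⟩)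
  have hAqc : ∀ i, ¬ IsConj t ((A i * F.qQ : ↥S.Q) : G) := fun i hconjt => by
    set y := A i * F.qQ
    have hy : v S y = v S (A i) + F.u := v_mul S _ _
    have hτi : F.τ i (v S y) = v S y := by
      rw [hy, map_add, F.τ_u, hvA, F.τ_p' (fin_ne1 i).symm, F.τ_p' (fin_ne2 i).symm, F.τ_u]
    have h1 : ∀ k, F.τ k (v S y) + v S y = F.τ k (v S (A i)) + v S (A i) := fun k => by
      rw [hy, map_add, F.τ_u]
      calc _ = F.τ k (v S (A i)) + v S (A i) + (F.u + F.u) := by abel
        _ = _ := by rw [v_two S, add_zero]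
    by_cases hyt : (y : G) = t
    · have := h1 (i + 1)
      rw [hd, (v_eq_zero S y).2 (Or.inr hyt), map_zero, add_zero] at this
      exact hp0 _ this.symm
    · obtain ⟨g', hg'⟩ := isConj_iff.1 hconjt
      obtain ⟨w, hw, hvw⟩ := F.pure (g' := g') (by rw [hg']; exact y.2) (by rw [hg']; exact hyt)
      have hyw : v S y = ρ S w F.u := by rw [← hvw]; exact congrArg (v S) (Subtype.ext hg'.symm)
      have hwi : w i = 1 := by
        by_contra hne
        refine F.ρ_ne_zero (Function.update w i 1) ?_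
        rw [← F.diff_coord (hw i) hne, ← hyw, hτi]
        exact v_two S _
      have hupd : ∀ k m : Fin 3, F.τ k (v S y) + v S y = F.p m F.u →
          Function.update w k 1 = Pi.mulSingle m rot ∧ w k ≠ 1 := by
        intro k m hkm
        have hne : w k ≠ 1 := fun h => by
          rw [hyw, F.fix_coord h, v_two S] at hkm
          exact hp0 m hkm.symm
        refine ⟨F.ρ_inj (fun j => ?_) (fun j => ?_) ?_, hne⟩
        · rcases eq_or_ne j k with rfl | hj
          · rw [Function.update_self]; exact Or.inl rfl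
          · rw [Function.update_of_ne hj]; exact hw j
        · rcases eq_or_ne j m with rfl | hj
          · rw [Pi.mulSingle_eq_same]; exact Or.inr (Or.inl rfl)
          · rw [Pi.mulSingle_eq_of_ne hj]; exact Or.inl rfl
        · rw [← F.diff_coord (hw k) hne, ← hyw, hkm]
          rfl
      obtain ⟨u1, -⟩ := hupd (i + 1) (i + 2) ((h1 _).trans (hd i))
      obtain ⟨u2, -⟩ := hupd (i + 2) (i + 1) ((h1 _).trans (hd' i))
      have hw2 : w (i + 2) = rot := by
        have := congrFun u1 (i + 2)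
        rwa [Function.update_of_ne (fin_ne12 i).symm, Pi.mulSingle_eq_same] at this
      have hw1 : w (i + 1) = rot := by
        have := congrFun u2 (i + 1)
        rwa [Function.update_of_ne (fin_ne12 i), Pi.mulSingle_eq_same] at this
      have hweq : w = Pi.mulSingle (i + 1) rot * Pi.mulSingle (i + 2) rot := by
        funext j
        rcases eq_or_ne i j with rfl | hj
        · simp [hwi, (fin_ne1 i).symm, (fin_ne2 i).symm]
        · rcases fin_third i j hj with rfl | rfl
          · simp [hw1, fin_ne12 i]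
          · simp [hw2, (fin_ne12 i).symm]
      refine F.u_ne ?_
      have : v S (A i) + F.u = v S (A i) := by
        rw [← hy, hyw, hweq, ρ_mul, hvA]
        rfl
      exact add_eq_left.1 this
  -- the swap
  obtain ⟨h, hht, hhq, hQc, hQc'⟩ := F.exists_swap
  have hsC : ∀ i, h * (A i : G) * h⁻¹ ∈ centralizer ({t} : Set G) := fun i => by
    refine mem_centralizer_singleton_iff.2 ?_
    have e : (A i : G) * (g * t * g⁻¹) = g * t * g⁻¹ * A i := congrArg Subtype.val (hAq i)
    have e' : h * (A i : G) * h⁻¹ * (h * (g * t * g⁻¹) * h⁻¹) =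
        h * (g * t * g⁻¹) * h⁻¹ * (h * (A i : G) * h⁻¹) :=
      calc h * (A i : G) * h⁻¹ * (h * (g * t * g⁻¹) * h⁻¹)
          = h * ((A i : G) * (g * t * g⁻¹)) * h⁻¹ := by simp [mul_assoc]
        _ = h * (g * t * g⁻¹ * A i) * h⁻¹ := by rw [e]
        _ = h * (g * t * g⁻¹) * h⁻¹ * (h * (A i : G) * h⁻¹) := by simp [mul_assoc]
    rwa [hhq] at e'
  set s : Fin 3 → ↥(centralizer ({t} : Set G)) := fun i => ⟨_, hsC i⟩
  have hsQc : ∀ i, (s i : G) ∈ S.Qc g := fun i => (hQc _).2 (by simp [s, mul_assoc])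
  have hsφ : ∀ i, S.φ (s i) ∈ (imgQc S g).range := fun i =>
    ⟨⟨(s i : G), hsQc i, (s i).2⟩, rfl⟩
  have hsne : ∀ i, S.φ (s i) ≠ 1 := fun i e => hAJ i ((hQc' _).2 ((S.ker _).1 e))
  have hss : ∀ i l, i ≠ l → S.φ (s i) ≠ S.φ (s l) := fun i l hil e => by
    refine hAAJ i l hil ((hQc' _).2 ?_)
    have e2 : S.φ (s i * s l) = 1 := by rw [map_mul, e, imgQc_sq S (hsφ l)]
    simpa [s, mul_assoc] using (S.ker _).1 e2
  have huQ : ∀ k, h * (r k : G) * h⁻¹ ∈ S.Q := fun k => (hQc' _).1 (hrJ k)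
  have huQc : ∀ k, h * (r k : G) * h⁻¹ ∈ S.Qc g := fun k => (hQc _).2 (by simp [mul_assoc])
  have huv : ∀ k (z : ↥S.Q), (z : G) = h * (r k : G) * h⁻¹ →
      v S z ≠ 0 ∧ v S z ≠ F.u := fun k z hz => by
    have hback : (r k : G) = h⁻¹ * z * h := by rw [hz]; simp [mul_assoc]
    have hq2 : h⁻¹ * t * h = g * t * g⁻¹ := by
      calc h⁻¹ * t * h = h⁻¹ * (h * (g * t * g⁻¹) * h⁻¹) * h := by rw [hhq]
        _ = _ := by simp [mul_assoc]
    have ht2 : h⁻¹ * (g * t * g⁻¹) * h = t := by
      calc h⁻¹ * (g * t * g⁻¹) * h = h⁻¹ * (h * t * h⁻¹) * h := by rw [hht]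
        _ = _ := by simp [mul_assoc]
    constructor <;> intro e
    · rcases (v_eq_zero S z).1 e with e' | e' <;> rw [e'] at hback
      · refine hp0 k ?_
        rw [← hvr, v_eq_zero]
        exact Or.inl (by simpa using hback)
      · rw [hq2] at hback
        refine hpu k ?_
        rw [← hvr, show r k = F.qQ from Subtype.ext hback]
        rfl
    · rcases (v_eq S z F.qQ).1 e with e' | e' <;> rw [e'] at hback
      · refine hp0 k ?_
        rw [← hvr, v_eq_zero]
        exact Or.inr (hback.trans ht2)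
      · refine hpu k ?_
        have : (r k : G) = t * (g * t * g⁻¹) := by
          calc (r k : G) = h⁻¹ * (g * t * g⁻¹ * t) * h := hback
            _ = h⁻¹ * (g * t * g⁻¹) * h * (h⁻¹ * t * h) := by simp [mul_assoc]
            _ = _ := by rw [ht2, hq2]
        rw [← hvr, show r k = ⟨t, S.t_mem⟩ * F.qQ from Subtype.ext this, v_mul,
          (v_eq_zero S ⟨t, S.t_mem⟩).2 (Or.inr rfl), zero_add]
        rfl
  -- each conjugate in the meet lies over one coordinate
  have hpos : ∀ k, ∃ j, ∃ x : Equiv.Perm (Fin 3), IsRot x ∧ x ≠ 1 ∧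
      v S ⟨_, huQ k⟩ = ρ S (Pi.mulSingle j x) F.u := by
    intro k
    obtain ⟨g', hg'⟩ := isConj_iff.1 ((hrc k).trans (isConj_iff.2 ⟨h, rfl⟩))
    have hne : h * (r k : G) * h⁻¹ ≠ t := fun e =>
      (huv k ⟨_, huQ k⟩ rfl).1 ((v_eq_zero S _).2 (Or.inr e))
    obtain ⟨w, hw, hvw⟩ := F.pure (g' := g') (by rw [hg']; exact huQ k) (by rw [hg']; exact hne)
    have hvw' : v S ⟨_, huQ k⟩ = ρ S w F.u := by
      rw [← hvw]; exact congrArg (v S) (Subtype.ext hg'.symm)
    obtain ⟨j, hj⟩ : ∃ j, w j ≠ 1 := by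
      by_contra! hall
      refine (huv k ⟨_, huQ k⟩ rfl).2 ?_
      rw [hvw', show w = 1 from funext hall, ρ_one]
    refine ⟨j, w j, hw j, hj, ?_⟩
    rw [hvw']
    congr 2
    funext m
    rcases eq_or_ne m j with rfl | hm
    · rw [Pi.mulSingle_eq_same]
    · rw [Pi.mulSingle_eq_of_ne hm]
      exact (F.meet_pure hw (a := ⟨_, huQ k⟩) hvw' (huQc k) hm).resolve_right hj
  choose π x hxr hx1 hvu using hpos
  have hπ : Function.Injective π := by
    intro k l hkl
    by_contra hne
    -- equal coordinates give vectors differing by at most `u`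
    have hval : ∀ m, v S ⟨_, huQ m⟩ = F.p (π m) F.u ∨ v S ⟨_, huQ m⟩ = F.p (π m) F.u + F.u := by
      intro m
      rcases (hxr m).resolve_left (hx1 m) with e | e
      · left; rw [hvu, e]; rfl
      · right
        rw [hvu, e, Pi.mulSingle_mul, ρ_mul]
        exact F.p_sq _ _
    have hsum : v S (⟨_, huQ k⟩ * ⟨_, huQ l⟩ : ↥S.Q) = 0 ∨
        v S (⟨_, huQ k⟩ * ⟨_, huQ l⟩ : ↥S.Q) = F.u := by
      rw [v_mul]
      rcases hval k with a | a <;> rcases hval l with b | b <;> rw [a, b, hkl]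
      · left; exact v_two S _
      · right; rw [← add_assoc, v_two S, zero_add]
      · right
        rw [add_comm, ← add_assoc, v_two S, zero_add]
      · left; exact v_two S _
    have hback : ((r k * r l : ↥S.Q) : G) =
        h⁻¹ * ((⟨_, huQ k⟩ * ⟨_, huQ l⟩ : ↥S.Q) : G) * h := by simp [mul_assoc]
    have hq2 : h⁻¹ * t * h = g * t * g⁻¹ := by
      calc h⁻¹ * t * h = h⁻¹ * (h * (g * t * g⁻¹) * h⁻¹) * h := by rw [hhq]
        _ = _ := by simp [mul_assoc]
    have ht2 : h⁻¹ * (g * t * g⁻¹) * h = t := by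
      calc h⁻¹ * (g * t * g⁻¹) * h = h⁻¹ * (h * t * h⁻¹) * h := by rw [hht]
        _ = _ := by simp [mul_assoc]
    have hvrl : v S (r k * r l) = F.p k F.u + F.p l F.u := by rw [v_mul, hvr, hvr]
    rcases hsum with e | e
    · rcases (v_eq_zero S _).1 e with e' | e' <;> rw [e'] at hback
      · refine (hdp k l hne).1 ?_
        rw [← hvrl, v_eq_zero]
        exact Or.inl (by simpa using hback)
      · refine (hdp k l hne).2 ?_
        rw [← hvrl]
        exact (v_eq S _ _).2 (Or.inl (hback.trans hq2))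
    · rcases (v_eq S _ F.qQ).1 e with e' | e' <;> rw [e'] at hback
      · refine (hdp k l hne).1 ?_
        rw [← hvrl, v_eq_zero]
        exact Or.inr (hback.trans ht2)
      · refine (hdp k l hne).2 ?_
        rw [← hvrl]
        refine (v_eq S _ _).2 (Or.inr ?_)
        calc ((r k * r l : ↥S.Q) : G) = h⁻¹ * (g * t * g⁻¹ * t) * h := hback
          _ = h⁻¹ * (g * t * g⁻¹) * h * (h⁻¹ * t * h) := by simp [mul_assoc]
          _ = t * (g * t * g⁻¹) := by rw [ht2, hq2]
          _ = g * t * g⁻¹ * t := (t_comm S F.hq).symm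
  have hπb : Function.Bijective π := Finite.injective_iff_bijective.1 hπ
  -- the image of each of the three is a single flip
  have hzero : ∀ i k, i ≠ k → S.φ (s i) (π k) = 1 := by
    intro i k hik
    set j := π k
    set φs := S.φ (s i)
    have hfix : ρ S φs (v S ⟨_, huQ k⟩) = v S ⟨_, huQ k⟩ := by
      rw [ρ_φ, act_v]
      refine (v_eq S _ _).2 (Or.inl ?_)
      have e : (A i : G) * r k = r k * A i := congrArg Subtype.val (hAr i k hik)
      show h * (A i : G) * h⁻¹ * (h * (r k : G) * h⁻¹) * (h * (A i : G) * h⁻¹)⁻¹ =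
        h * (r k : G) * h⁻¹
      calc _ = h * ((A i : G) * r k) * (A i : G)⁻¹ * h⁻¹ := by simp [mul_assoc]
        _ = _ := by rw [e]; simp [mul_assoc]
    have hcomp : φs j = 1 ∨ φs j = F.σ j :=
      perm_cent _ _ (F.σ_ne j) (F.σ_sq j) (by
        have := congrFun (comm_of_sq (fun x hx => imgQc_sq S hx) (hsφ i) (F.σ_mem j)) j
        simpa using this)
    refine hcomp.resolve_right fun hj => ?_
    set rest := Pi.mulSingle j (F.σ j) * φs with hrest
    have hrj : rest j = 1 := by simp [hrest, hj, F.σ_sq]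
    have hru : ρ S rest F.u = F.u := F.range_fix_u (Subgroup.mul_mem _ (F.σ_mem j) (hsφ i))
    have hfixr : ρ S rest (v S ⟨_, huQ k⟩) = v S ⟨_, huQ k⟩ := by
      rw [hvu, ← ρ_mul, show rest * Pi.mulSingle j (x k) = Pi.mulSingle j (x k) * rest by
        funext m
        rcases eq_or_ne m j with rfl | hm
        · simp [hrj]
        · simp [hm], ρ_mul, hru]
    have hτfix : F.τ j (v S ⟨_, huQ k⟩) = v S ⟨_, huQ k⟩ := by
      have e : φs = Pi.mulSingle j (F.σ j) * rest := by
        rw [hrest, ← mul_assoc, ← Pi.mulSingle_mul, F.σ_sq, Pi.mulSingle_one, one_mul]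
      rw [e, ρ_mul, hfixr] at hfix
      exact hfix
    have := F.diff_coord (w := Pi.mulSingle j (x k)) (i := j)
      (by rw [Pi.mulSingle_eq_same]; exact hxr k) (by rw [Pi.mulSingle_eq_same]; exact hx1 k)
    rw [← hvu, hτfix, v_two S] at this
    exact F.ρ_ne_zero _ this.symm
  have hsingle : ∀ i, S.φ (s i) = Pi.mulSingle (π i) (F.σ (π i)) := by
    intro i
    have hother : ∀ m, m ≠ π i → S.φ (s i) m = 1 := by
      intro m hm
      obtain ⟨k, rfl⟩ := hπb.2 m
      exact hzero i k fun e => hm (by rw [e])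
    have hcomp : S.φ (s i) (π i) = F.σ (π i) :=
      (perm_cent _ _ (F.σ_ne _) (F.σ_sq _) (by
        have := congrFun (comm_of_sq (fun x hx => imgQc_sq S hx) (hsφ i) (F.σ_mem (π i))) (π i)
        simpa using this)).resolve_left fun e => hsne i (funext fun m => by
          rcases eq_or_ne m (π i) with rfl | hm
          · exact e
          · exact hother m hm)
    funext m
    rcases eq_or_ne m (π i) with rfl | hm
    · rw [hcomp, Pi.mulSingle_eq_same]
    · rw [hother m hm, Pi.mulSingle_eq_of_ne hm]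
  let π' := (Equiv.ofBijective π hπb).symm
  refine ⟨fun j => s (π' j), fun j => hsQc _, fun j => ?_, fun j => ?_, fun i j => ?_, fun j e => ?_⟩
  · rw [hsingle, show π (π' j) = j from (Equiv.ofBijective π hπb).apply_symm_apply j]
  · exact (hAc _).trans (isConj_iff.2 ⟨h, rfl⟩)
  · refine Subtype.ext ?_
    have e : (A (π' i) : G) * A (π' j) = A (π' j) * A (π' i) := congrArg Subtype.val (hAA _ _)
    show h * (A (π' i) : G) * h⁻¹ * (h * (A (π' j) : G) * h⁻¹) =
      h * (A (π' j) : G) * h⁻¹ * (h * (A (π' i) : G) * h⁻¹)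
    calc _ = h * ((A (π' i) : G) * A (π' j)) * h⁻¹ := by simp [mul_assoc]
      _ = _ := by rw [e]; simp [mul_assoc]
  · refine hAqc (π' j) (e.trans (isConj_iff.2 ⟨h⁻¹, ?_⟩))
    show h⁻¹ * (h * (A (π' j) : G) * h⁻¹ * t) * h⁻¹⁻¹ = (A (π' j) : G) * (g * t * g⁻¹)
    have hq2 : h⁻¹ * t * h = g * t * g⁻¹ := by
      calc h⁻¹ * t * h = h⁻¹ * (h * (g * t * g⁻¹) * h⁻¹) * h := by rw [hhq]
        _ = _ := by simp [mul_assoc]
    rw [← hq2]
    simp [mul_assoc]

end Flips

end CfsgLib.DFour.FrameProof
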