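import Cfsg.Agent.Lib.DFour.HomTable
import Cfsg.Agent.Lib.CurtisTits.Iso
import Cfsg.Agent.Lib.CurtisTits.CertD4
import Cfsg.Agent.Lib.ChevIso.Types
import Cfsg.Agent.Lib.Geometry.AutSylow
import Cfsg.Agent.Lib.Geometry.StdForms
import Cfsg.Agent.S2397
import Cfsg.Agent.S2396
import Cfsg.Agent.S1054

/-!
# S3345: the Curtis–Tits generators generate `Ω⁺₈(2)`
-/

set_option autoImplicit false
set_option maxRecDepth 20000
set_option synthInstance.maxSize 4096
set_option synthInstance.maxHeartbeats 400000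

namespace CfsgLib.DFour

open Subgroup Cfsg.Lie

universe u

namespace Hom

/-- A two-element value. -/
theorem zmod_two (t : ZMod 2) : t = 0 ∨ t = 1 := by revert t; decide

/-- Every root of a rank two subsystem is in the table. -/
theorem used_sub : ∀ r < 24, r ∈ used → ∃ i < 4, ∃ j < 4, chevD4.InRankTwoSub i j r := by
  unfold ChevalleyDatum.InRankTwoSub
  decide +kernel

/-- The non-zero part of the commutator word is given by the table. -/
theorem table_complete : ∀ r < 24, ∀ s < 24, (∃ i < 4, ∃ j < 4,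
    chevD4.InRankTwoSub i j r ∧ chevD4.InRankTwoSub i j s) → s ≠ r → s ≠ chevD4.neg r →
      ∃ p ∈ table, p.1 = r ∧ p.2.1 = s ∧ ∀ t u : ZMod 2,
        ((chevD4.commWord (ZMod 2) r s t u).filter fun q => decide (q.2 ≠ 0)).map Prod.fst =
          if t ≠ 0 ∧ u ≠ 0 then p.2.2 else [] := by
  unfold ChevalleyDatum.InRankTwoSub
  decide +kernel

/-- Roots outside the table are sent to the identity. -/
theorem gen_eq_one {G : Type*} [Group G] (N : Nodes G) {r : ℕ} (h : r ∉ used) : gen N r = 1 := by
  unfold gen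
  split <;> first | rfl | exact absurd (by decide) h

/-- The generators are involutions or trivial. -/
theorem gen_sq {G : Type*} [Group G] {N : Nodes G} (h : N.Rels) (r : ℕ) :
    gen N r * gen N r = 1 := by
  unfold gen
  split <;> first
    | exact one_mul 1
    | exact h.e_sq | exact h.f_sq | exact h.x_sq _ | exact h.y_sq _ | exact h.r_sq _ | exact h.z_sq _

/-- The value of a Steinberg generator. -/
noncomputable def val {G : Type*} [Group G] (N : Nodes G) (p : Fin chevD4.nroots × ZMod 2) : G :=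
  if p.2 = 0 then 1 else gen N p.1

/-- The value of a generator in range. -/
theorem lift_stX {G : Type*} [Group G] (N : Nodes G) (r : ℕ) (t : ZMod 2) :
    FreeGroup.lift (val N) (chevD4.stX r t) = if t = 0 then 1 else gen N r := by
  unfold ChevalleyDatum.stX
  split_ifs with h1 h2 h2
  · simp [val, h2]
  · simp [val, h2]
  · simp
  · rw [map_one, gen_eq_one]
    intro h
    have hall : ∀ q ∈ used, q < 24 := by decide
    exact h1 (hall r h)

/-- The value of a word. -/
theorem lift_stWord {G : Type*} [Group G] (N : Nodes G) (w : List (ℕ × ZMod 2)) :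
    FreeGroup.lift (val N) (chevD4.stWord w) =
      (((w.filter fun q => decide (q.2 ≠ 0)).map Prod.fst).map (gen N)).prod := by
  induction w with
  | nil => simp [ChevalleyDatum.stWord]
  | cons p w ih =>
    have e : chevD4.stWord (p :: w) = chevD4.stX p.1 p.2 * chevD4.stWord w := by
      simp [ChevalleyDatum.stWord]
    rw [e, map_mul, lift_stX, ih]
    by_cases h : p.2 = 0
    · simp [h]
    · simp [h]

/-- The Curtis–Tits relators hold. -/
theorem lift_rels {G : Type*} [Group G] {N : Nodes G} (h : N.Rels) :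
    ∀ y ∈ chevD4.curtisTitsRels (ZMod 2), FreeGroup.lift (val N) y = 1 := by
  have hinv : ∀ r, (gen N r)⁻¹ = gen N r := fun r => inv_eq_of_mul_eq_one_right (gen_sq h r)
  rintro y (((⟨r, t, hr, hno, rfl⟩ | ⟨i, k, r, t₁, t₂, hik, rfl⟩) |
    ⟨i, k, r, s, t, u, hr, hs, hsr, hsn, rfl⟩) | ⟨i, k, r, t₁, t₂, hik, h1, h2, rfl⟩)
  · rw [lift_stX]
    split_ifs with ht
    · rfl
    · refine gen_eq_one N fun hu => ?_
      obtain ⟨i, -, j, -, hij⟩ := used_sub r hr hu
      exact hno i j hij
  · simp only [map_mul, map_inv, lift_stX]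
    rcases zmod_two t₁ with rfl | rfl <;> rcases zmod_two t₂ with rfl | rfl
    · simp
    · simp
    · simp
    · rw [show (1 : ZMod 2) + 1 = 0 from by decide]
      simp [gen_sq h r]
  · have hrlt : r < 24 := hr.1
    have hslt : s < 24 := hs.1
    obtain ⟨p, hp, hpr, hps, hw⟩ :=
      table_complete r hrlt s hslt ⟨i, hr.2.1, k, hr.2.2.1, hr, hs⟩ hsr hsn
    simp only [map_mul, map_inv, lift_stX, lift_stWord, hw t u]
    rcases zmod_two t with rfl | rfl <;> rcases zmod_two u with rfl | rfl
    · simp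
    · simp
    · simp
    · have hrel := table_rels h p hp
      rw [hpr, hps] at hrel
      simp [hinv, hrel]
  · rcases zmod_two t₁ with rfl | rfl
    · exact absurd rfl h1
    rcases zmod_two t₂ with rfl | rfl
    · exact absurd rfl h2
    rw [mul_one, map_mul, map_inv, mul_inv_eq_one]
    have hH : FreeGroup.lift (val N) (chevD4.stH r (1 : ZMod 2)) = 1 := by
      rw [ChevalleyDatum.stH, lift_stWord]
      simp only [ChevalleyDatum.hWord, ChevalleyDatum.nWord, List.cons_append, List.nil_append]
      simp only [inv_one, show (-1 : ZMod 2) = 1 from by decide]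
      simp only [List.filter_cons, decide_eq_true (one_ne_zero : (1 : ZMod 2) ≠ 0), if_true,
        List.filter_nil, List.map_cons, List.map_nil, List.prod_cons, List.prod_nil, mul_one]
      set a := gen N r with ha
      set b := gen N (chevD4.neg r) with hb
      have haa : a * a = 1 := gen_sq h r
      have hbb : b * b = 1 := gen_sq h _
      calc a * (b * (a * (a * (b * a)))) = a * (b * ((a * a) * (b * a))) := by
            simp only [mul_assoc]
        _ = 1 := by rw [haa, one_mul, ← mul_assoc b b a, hbb, one_mul, haa]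
    rw [map_mul, hH, mul_one]

/-- The centre of `Ω⁺₈(2)` is trivial. -/
theorem center_omega_two {ι : Type} [Fintype ι] [DecidableEq ι]
    (Q : QuadraticForm (ZMod 2) (ι → ZMod 2))
    (hQ : (QuadraticMap.polarBilin Q).Nondegenerate) (h5 : 5 ≤ Fintype.card ι)
    {Q' : (ι → ZMod 2) → ZMod 2} (e : ⇑Q = Q') :
    Subgroup.center (Cfsg.Omega (ZMod 2) Q') = ⊥ := by
  subst e
  rw [eq_bot_iff]
  intro z hz
  obtain ⟨t, ht, hv⟩ :=
    (CfsgLib.Geometry.mem_center_omega_iff hQ (by simpa using h5)
      (CfsgLib.Geometry.omegaEquiv Q z)).1 <| Subgroup.mem_center_iff.2 fun y => by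
        obtain ⟨x, rfl⟩ := (CfsgLib.Geometry.omegaEquiv Q).surjective y
        rw [← map_mul, ← map_mul, Subgroup.mem_center_iff.1 hz x]
  have ht1 : t = 1 := (by decide : ∀ u : ZMod 2, u * u = 1 → u = 1) t ht
  refine Subgroup.mem_bot.2 (CfsgLib.Geometry.omAct_injective (LinearEquiv.ext fun v => ?_))
  rw [map_one]
  show CfsgLib.Geometry.omAct Q z v = v
  have := hv v
  rw [ht1, one_smul] at this
  exact this

/-- The model is the Chevalley group. -/
theorem model_iso : Nonempty (↥(chevD4.group (ZMod 2)) ≃* Model) := by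
  have : Fact (Nat.Prime 2) := ⟨Nat.prime_two⟩
  obtain ⟨e⟩ := CfsgLib.ChevIso.chevD4_iso (F := ZMod 2)
  have hc : Subgroup.center (Cfsg.Omega (ZMod 2) (Cfsg.quadFormPlus 4 (ZMod 2))) = ⊥ :=
    center_omega_two (CfsgLib.Geometry.matQuad (CfsgLib.Geometry.plusMat 4 (ZMod 2)))
      (CfsgLib.Geometry.nondegenerate_matQuad
        (by rw [CfsgLib.Geometry.det_plus_gram]; exact pow_ne_zero _ (by simp)))
      (by simp) (CfsgLib.Geometry.coe_matQuad_plus 4)
  exact ⟨e.trans ((QuotientGroup.quotientMulEquivOfEq hc).trans QuotientGroup.quotientBot)⟩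

end Hom

open Hom in
/-- Piece: the Curtis–Tits generators generate `Ω⁺₈(2)`. -/
theorem hom : HomStmt.{u} := by
  intro G _ _ N h hZ
  have : Fact (Nat.Prime 2) := ⟨Nat.prime_two⟩
  have hrange : ∀ p, val N p ∈ N.M := by
    intro p
    unfold val
    split_ifs
    · exact one_mem _
    have hx : ∀ i, N.x i ∈ N.M := fun i => subset_closure (Or.inl (Or.inl ⟨i, rfl⟩))
    have hy : ∀ i, N.y i ∈ N.M := fun i => subset_closure (Or.inl (Or.inr ⟨i, rfl⟩))
    have he : N.e ∈ N.M := subset_closure (Or.inr (Or.inl rfl))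
    have hf : N.f ∈ N.M := subset_closure (Or.inr (Or.inr rfl))
    have hr : ∀ i, N.r i ∈ N.M := fun i =>
      h.x_e i ▸ mul_mem (mul_mem (mul_mem (hx i) he) (hx i)) he
    have hz : ∀ i, N.z i ∈ N.M := fun i =>
      h.y_f i ▸ mul_mem (mul_mem (mul_mem (hy i) hf) (hy i)) hf
    unfold gen
    split <;> first | exact one_mem _ | exact he | exact hf | exact hx _ | exact hy _ | exact hr _ | exact hz _
  let L : chevD4.CurtisTitsGroup (ZMod 2) →* G := PresentedGroup.toGroup (lift_rels h)
  have hLM : L.range = N.M := by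
    refine le_antisymm ?_ ?_
    · rw [MonoidHom.range_eq_map, ← PresentedGroup.closure_range_of, MonoidHom.map_closure, closure_le]
      rintro _ ⟨_, ⟨p, rfl⟩, rfl⟩
      rw [show L (PresentedGroup.of p) = val N p from PresentedGroup.toGroup.of _]
      exact hrange p
    · refine (closure_le _).2 ?_
      have hg : ∀ r (hr : r < 24), gen N r ∈ L.range := fun r hr =>
        ⟨PresentedGroup.of (⟨r, hr⟩, 1), by
          rw [show L (PresentedGroup.of (⟨r, hr⟩, 1)) = val N (⟨r, hr⟩, 1) from
            PresentedGroup.toGroup.of _]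
          simp [val]⟩
      rintro g ((⟨i, rfl⟩ | ⟨i, rfl⟩) | rfl | rfl)
      · fin_cases i
        · exact hg 18 (by omega)
        · exact hg 13 (by omega)
        · exact hg 12 (by omega)
      · fin_cases i
        · exact hg 5 (by omega)
        · exact hg 10 (by omega)
        · exact hg 11 (by omega)
      · exact hg 14 (by omega)
      · exact hg 9 (by omega)
  -- from the universal group
  obtain ⟨e₁, -⟩ := Cfsg.Agent.S2397.result (K := ZMod 2) chevD4 (by simp)
    (by simp [chevD4, chevB2, chevG2])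
  obtain ⟨θ, hθ, hθk, -⟩ := Cfsg.Agent.S2396.result (K := ZMod 2) chevD4 (by simp)
    (by simp [chevD4, chevB2, chevG2])
  let e₂ := (CfsgLib.CurtisTits.ctEquiv (F := ZMod 2) CfsgLib.CurtisTits.ctD4).symm
  let ψ : chevD4.SteinbergCover (ZMod 2) →* ↥N.M :=
    (MulEquiv.subgroupCongr hLM).toMonoidHom.comp
      (L.rangeRestrict.comp (e₂.toMonoidHom.comp e₁.toMonoidHom))
  have hψ : Function.Surjective ψ :=
    (MulEquiv.subgroupCongr hLM).surjective.comp
      (L.rangeRestrict_surjective.comp (e₂.surjective.comp e₁.surjective))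
  have hker : θ.ker ≤ ψ.ker := by
    intro z hz
    rw [MonoidHom.mem_ker]
    refine Subtype.ext (hZ _ (ψ z).2 fun a ha => ?_)
    obtain ⟨y, hy⟩ := hψ ⟨a, ha⟩
    have hc : y * z = z * y := Subgroup.mem_center_iff.1 (hθk hz) y
    have := congrArg (fun m : ↥N.M => (m : G)) (congrArg ψ hc)
    simp only [map_mul, hy, Subgroup.coe_mul] at this
    exact this.symm
  let π : ↥(chevD4.group (ZMod 2)) →* ↥N.M :=
    θ.liftOfRightInverse _ (Function.rightInverse_surjInv hθ) ⟨ψ, hker⟩
  have hπ : ∀ z, π (θ z) = ψ z := fun z => MonoidHom.liftOfRightInverse_comp_apply _ _ _ _ z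
  have hπs : Function.Surjective π := fun m => by
    obtain ⟨z, hz⟩ := hψ m
    exact ⟨θ z, by rw [hπ, hz]⟩
  have hsimp := (Cfsg.Agent.S1054.result (F := ZMod 2) chevD4 (by simp)).1
  have hinj : Function.Injective π := by
    rw [← MonoidHom.ker_eq_bot_iff]
    refine (hsimp.eq_bot_or_eq_top_of_normal _ inferInstance).resolve_right fun htop => h.e_ne ?_
    obtain ⟨x, hx⟩ := hπs ⟨N.e, subset_closure (Or.inr (Or.inl rfl))⟩
    have : π x = 1 := MonoidHom.mem_ker.1 (htop ▸ Subgroup.mem_top x)
    exact congrArg Subtype.val (hx.symm.trans this)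
  obtain ⟨em⟩ := model_iso
  exact ⟨em.symm.trans (MulEquiv.ofBijective π ⟨hinj, hπs⟩)⟩

end CfsgLib.DFour
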