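import Cfsg.Agent.Lib.DFour.Defs

/-!
# S3345: the root elements of the rank two subsystems of `D₄`
-/

set_option autoImplicit false
set_option maxRecDepth 20000

namespace CfsgLib.DFour.Hom

/-- A commuting pair of involutions. -/
theorem comm_word {G : Type*} [Group G] {a b : G} (ha : a * a = 1) (hb : b * b = 1)
    (h : a * b = b * a) : a * b * a * b = ([] : List G).prod := by
  rw [h, mul_assoc b a a, ha, mul_one, hb, List.prod_nil]

/-- A commutator with one root. -/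
theorem one_word {G : Type*} [Group G] {w c : G} (h : w = c) : w = [c].prod := by
  rw [h, List.prod_singleton]

/-- The commutator of two involutions with involutory value is symmetric. -/
theorem swap_word {G : Type*} [Group G] {a b c : G} (ha : a * a = 1) (hb : b * b = 1)
    (hc : c * c = 1) (h : b * a * b * a = c) : a * b * a * b = c := by
  have ha' : a⁻¹ = a := inv_eq_of_mul_eq_one_right ha
  have hb' : b⁻¹ = b := inv_eq_of_mul_eq_one_right hb
  have hc' : c⁻¹ = c := inv_eq_of_mul_eq_one_right hc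
  rw [← hc', ← h, mul_inv_rev, mul_inv_rev, mul_inv_rev, ha', hb']
  group

/-- The indices of the roots in the rank two subsystems. -/
def used : List ℕ := [4, 5, 7, 8, 9, 10, 11, 12, 13, 14, 15, 16, 18, 19]

/-- The value of a generator. -/
def gen {G : Type*} [Group G] (N : Nodes G) : ℕ → G
  | 4 => N.z 0
  | 5 => N.y 0
  | 7 => N.z 1
  | 8 => N.z 2
  | 9 => N.f
  | 10 => N.y 1
  | 11 => N.y 2
  | 12 => N.x 2
  | 13 => N.x 1
  | 14 => N.e
  | 15 => N.r 2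
  | 16 => N.r 1
  | 18 => N.x 0
  | 19 => N.r 0
  | _ => 1

/-- The commutator of two root elements in a common rank two subsystem. -/
def table : List (ℕ × ℕ × List ℕ) :=
  [
    (4, 5, []), (4, 9, []), (4, 14, [5]), (4, 18, [9]), (5, 4, []), (5, 9, [4]), (5, 10, []),
    (5, 11, []), (5, 12, []), (5, 13, []), (5, 14, []), (5, 19, [14]), (7, 9, []), (7, 10, []),
    (7, 13, [9]), (7, 14, [10]), (8, 9, []), (8, 11, []), (8, 12, [9]), (8, 14, [11]), (9, 4, []),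
    (9, 5, [4]), (9, 7, []), (9, 8, []), (9, 10, [7]), (9, 11, [8]), (9, 12, []), (9, 13, []),
    (9, 15, [12]), (9, 16, [13]), (9, 18, []), (9, 19, [18]), (10, 5, []), (10, 7, []), (10, 9, [7]),
    (10, 11, []), (10, 12, []), (10, 14, []), (10, 16, [14]), (10, 18, []), (11, 5, []), (11, 8, []),
    (11, 9, [8]), (11, 10, []), (11, 13, []), (11, 14, []), (11, 15, [14]), (11, 18, []), (12, 5, []),
    (12, 8, [9]), (12, 9, []), (12, 10, []), (12, 13, []), (12, 14, [15]), (12, 15, []), (12, 18, []),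
    (13, 5, []), (13, 7, [9]), (13, 9, []), (13, 11, []), (13, 12, []), (13, 14, [16]), (13, 16, []),
    (13, 18, []), (14, 4, [5]), (14, 5, []), (14, 7, [10]), (14, 8, [11]), (14, 10, []), (14, 11, []),
    (14, 12, [15]), (14, 13, [16]), (14, 15, []), (14, 16, []), (14, 18, [19]), (14, 19, []), (15, 9, [12]),
    (15, 11, [14]), (15, 12, []), (15, 14, []), (16, 9, [13]), (16, 10, [14]), (16, 13, []), (16, 14, []),
    (18, 4, [9]), (18, 9, []), (18, 10, []), (18, 11, []), (18, 12, []), (18, 13, []), (18, 14, [19]),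
    (18, 19, []), (19, 5, [14]), (19, 9, [18]), (19, 14, []), (19, 18, [])]

/-- The relations of the table. -/
theorem table_rels {G : Type*} [Group G] {N : Nodes G} (h : N.Rels) :
    ∀ p ∈ table, gen N p.2.1 * gen N p.1 * gen N p.2.1 * gen N p.1 = (p.2.2.map (gen N)).prod := by
  simp only [table, List.forall_mem_cons, gen, List.map_cons, List.map_nil]
  refine ⟨
    comm_word (h.y_sq 0) (h.z_sq 0) (h.yz 0),
    comm_word h.f_sq (h.z_sq 0) (h.fz 0),
    one_word (swap_word h.e_sq (h.z_sq 0) (h.y_sq 0) (h.z_e 0)),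
    one_word (swap_word (h.x_sq 0) (h.z_sq 0) h.f_sq (h.z_x 0)),
    comm_word (h.z_sq 0) (h.y_sq 0) (h.yz 0).symm,
    one_word (swap_word h.f_sq (h.y_sq 0) (h.z_sq 0) (h.y_f 0)),
    comm_word (h.y_sq 1) (h.y_sq 0) (h.yy 0 1).symm,
    comm_word (h.y_sq 2) (h.y_sq 0) (h.yy 0 2).symm,
    comm_word (h.x_sq 2) (h.y_sq 0) (h.xy 2 0 (by decide)),
    comm_word (h.x_sq 1) (h.y_sq 0) (h.xy 1 0 (by decide)),
    comm_word h.e_sq (h.y_sq 0) (h.ye 0).symm,
    one_word (h.r_y 0),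
    comm_word h.f_sq (h.z_sq 1) (h.fz 1),
    comm_word (h.y_sq 1) (h.z_sq 1) (h.yz 1),
    one_word (swap_word (h.x_sq 1) (h.z_sq 1) h.f_sq (h.z_x 1)),
    one_word (swap_word h.e_sq (h.z_sq 1) (h.y_sq 1) (h.z_e 1)),
    comm_word h.f_sq (h.z_sq 2) (h.fz 2),
    comm_word (h.y_sq 2) (h.z_sq 2) (h.yz 2),
    one_word (swap_word (h.x_sq 2) (h.z_sq 2) h.f_sq (h.z_x 2)),
    one_word (swap_word h.e_sq (h.z_sq 2) (h.y_sq 2) (h.z_e 2)),
    comm_word (h.z_sq 0) h.f_sq (h.fz 0).symm,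
    one_word (h.y_f 0),
    comm_word (h.z_sq 1) h.f_sq (h.fz 1).symm,
    comm_word (h.z_sq 2) h.f_sq (h.fz 2).symm,
    one_word (h.y_f 1),
    one_word (h.y_f 2),
    comm_word (h.x_sq 2) h.f_sq (h.xf 2),
    comm_word (h.x_sq 1) h.f_sq (h.xf 1),
    one_word (h.r_f 2),
    one_word (h.r_f 1),
    comm_word (h.x_sq 0) h.f_sq (h.xf 0),
    one_word (h.r_f 0),
    comm_word (h.y_sq 0) (h.y_sq 1) (h.yy 0 1),
    comm_word (h.z_sq 1) (h.y_sq 1) (h.yz 1).symm,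
    one_word (swap_word h.f_sq (h.y_sq 1) (h.z_sq 1) (h.y_f 1)),
    comm_word (h.y_sq 2) (h.y_sq 1) (h.yy 1 2).symm,
    comm_word (h.x_sq 2) (h.y_sq 1) (h.xy 2 1 (by decide)),
    comm_word h.e_sq (h.y_sq 1) (h.ye 1).symm,
    one_word (h.r_y 1),
    comm_word (h.x_sq 0) (h.y_sq 1) (h.xy 0 1 (by decide)),
    comm_word (h.y_sq 0) (h.y_sq 2) (h.yy 0 2),
    comm_word (h.z_sq 2) (h.y_sq 2) (h.yz 2).symm,
    one_word (swap_word h.f_sq (h.y_sq 2) (h.z_sq 2) (h.y_f 2)),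
    comm_word (h.y_sq 1) (h.y_sq 2) (h.yy 1 2),
    comm_word (h.x_sq 1) (h.y_sq 2) (h.xy 1 2 (by decide)),
    comm_word h.e_sq (h.y_sq 2) (h.ye 2).symm,
    one_word (h.r_y 2),
    comm_word (h.x_sq 0) (h.y_sq 2) (h.xy 0 2 (by decide)),
    comm_word (h.y_sq 0) (h.x_sq 2) (h.xy 2 0 (by decide)).symm,
    one_word (h.z_x 2),
    comm_word h.f_sq (h.x_sq 2) (h.xf 2).symm,
    comm_word (h.y_sq 1) (h.x_sq 2) (h.xy 2 1 (by decide)).symm,
    comm_word (h.x_sq 1) (h.x_sq 2) (h.xx 1 2),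
    one_word (swap_word h.e_sq (h.x_sq 2) (h.r_sq 2) (h.x_e 2)),
    comm_word (h.r_sq 2) (h.x_sq 2) (h.xr 2).symm,
    comm_word (h.x_sq 0) (h.x_sq 2) (h.xx 0 2),
    comm_word (h.y_sq 0) (h.x_sq 1) (h.xy 1 0 (by decide)).symm,
    one_word (h.z_x 1),
    comm_word h.f_sq (h.x_sq 1) (h.xf 1).symm,
    comm_word (h.y_sq 2) (h.x_sq 1) (h.xy 1 2 (by decide)).symm,
    comm_word (h.x_sq 2) (h.x_sq 1) (h.xx 1 2).symm,
    one_word (swap_word h.e_sq (h.x_sq 1) (h.r_sq 1) (h.x_e 1)),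
    comm_word (h.r_sq 1) (h.x_sq 1) (h.xr 1).symm,
    comm_word (h.x_sq 0) (h.x_sq 1) (h.xx 0 1),
    one_word (h.z_e 0),
    comm_word (h.y_sq 0) h.e_sq (h.ye 0),
    one_word (h.z_e 1),
    one_word (h.z_e 2),
    comm_word (h.y_sq 1) h.e_sq (h.ye 1),
    comm_word (h.y_sq 2) h.e_sq (h.ye 2),
    one_word (h.x_e 2),
    one_word (h.x_e 1),
    comm_word (h.r_sq 2) h.e_sq (h.er 2).symm,
    comm_word (h.r_sq 1) h.e_sq (h.er 1).symm,
    one_word (h.x_e 0),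
    comm_word (h.r_sq 0) h.e_sq (h.er 0).symm,
    one_word (swap_word h.f_sq (h.r_sq 2) (h.x_sq 2) (h.r_f 2)),
    one_word (swap_word (h.y_sq 2) (h.r_sq 2) h.e_sq (h.r_y 2)),
    comm_word (h.x_sq 2) (h.r_sq 2) (h.xr 2),
    comm_word h.e_sq (h.r_sq 2) (h.er 2),
    one_word (swap_word h.f_sq (h.r_sq 1) (h.x_sq 1) (h.r_f 1)),
    one_word (swap_word (h.y_sq 1) (h.r_sq 1) h.e_sq (h.r_y 1)),
    comm_word (h.x_sq 1) (h.r_sq 1) (h.xr 1),
    comm_word h.e_sq (h.r_sq 1) (h.er 1),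
    one_word (h.z_x 0),
    comm_word h.f_sq (h.x_sq 0) (h.xf 0).symm,
    comm_word (h.y_sq 1) (h.x_sq 0) (h.xy 0 1 (by decide)).symm,
    comm_word (h.y_sq 2) (h.x_sq 0) (h.xy 0 2 (by decide)).symm,
    comm_word (h.x_sq 2) (h.x_sq 0) (h.xx 0 2).symm,
    comm_word (h.x_sq 1) (h.x_sq 0) (h.xx 0 1).symm,
    one_word (swap_word h.e_sq (h.x_sq 0) (h.r_sq 0) (h.x_e 0)),
    comm_word (h.r_sq 0) (h.x_sq 0) (h.xr 0).symm,
    one_word (swap_word (h.y_sq 0) (h.r_sq 0) h.e_sq (h.r_y 0)),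
    one_word (swap_word h.f_sq (h.r_sq 0) (h.x_sq 0) (h.r_f 0)),
    comm_word h.e_sq (h.r_sq 0) (h.er 0),
    comm_word (h.x_sq 0) (h.r_sq 0) (h.xr 0),
    fun _ hp => absurd hp (List.not_mem_nil)⟩

end CfsgLib.DFour.Hom
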