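import Cfsg.Agent.Lib.DFour.IsolatedClasses

/-!
# An involution weakly closed in the extraspecial core is isolated
-/

set_option autoImplicit false
set_option linter.unusedSectionVars false

namespace CfsgLib.DFour.Isolated

open Subgroup CfsgLib.Involutions.ExtraTransfer

/-- The elements of order three of the quotient commuting with an element. -/
noncomputable def weight (a : Trip) : ℕ := Nat.card {x : Trip // x ^ 3 = 1 ∧ x * a = a * x}

theorem perm_step : ∀ a x : Equiv.Perm (Fin 3), a * a = 1 → x * x * x = 1 →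
    x * a * x⁻¹ * a = a * (x * a * x⁻¹) → x * a = a * x := by decide

theorem perm_eq : ∀ s a : Equiv.Perm (Fin 3), s * s = 1 → a * a = 1 → s * a = a * s →
    (∀ x : Equiv.Perm (Fin 3), x * x * x = 1 → (x * s = s * x ↔ x * a = a * x)) → s = a := by
  decide

theorem trip_step {a x : Trip} (ha : a * a = 1) (hx : x * x * x = 1)
    (h : x * a * x⁻¹ * a = a * (x * a * x⁻¹)) : x * a = a * x := by
  obtain ⟨a₁, a₂, a₃⟩ := a
  obtain ⟨x₁, x₂, x₃⟩ := x
  simp only [Prod.mk_mul_mk, Prod.inv_mk, Prod.mk_eq_one, Prod.mk.injEq] at ha hx h ⊢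
  exact ⟨perm_step _ _ ha.1 hx.1 h.1, perm_step _ _ ha.2.1 hx.2.1 h.2.1,
    perm_step _ _ ha.2.2 hx.2.2 h.2.2⟩

theorem trip_eq {s a : Trip} (hs : s * s = 1) (ha : a * a = 1) (hsa : s * a = a * s)
    (h : ∀ x : Trip, x * x * x = 1 → x * s = s * x → x * a = a * x) (hw : weight a ≤ weight s) :
    s = a := by
  classical
  have hiff : ∀ x : Trip, x * x * x = 1 → (x * s = s * x ↔ x * a = a * x) := by
    have hle : {x : Trip | x ^ 3 = 1 ∧ x * s = s * x} ⊆ {x | x ^ 3 = 1 ∧ x * a = a * x} :=
      fun x hx => ⟨hx.1, h x (by rw [← hx.1, pow_three, mul_assoc]) hx.2⟩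
    have heq := Set.eq_of_subset_of_ncard_le hle (by
      rw [← Nat.card_coe_set_eq, ← Nat.card_coe_set_eq]; exact hw)
      (Set.toFinite _)
    intro x hx
    have h3 : x ^ 3 = 1 := by rw [pow_three, ← mul_assoc, hx]
    have := Set.ext_iff.1 heq x
    simp only [Set.mem_setOf_eq, h3, true_and] at this
    exact this
  obtain ⟨s₁, s₂, s₃⟩ := s
  obtain ⟨a₁, a₂, a₃⟩ := a
  simp only [Prod.mk_mul_mk, Prod.mk_eq_one, Prod.mk.injEq] at hs ha hsa
  have k1 := perm_eq s₁ a₁ hs.1 ha.1 hsa.1 fun x hx => by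
    simpa using hiff (x, 1, 1) (by simp [hx])
  have k2 := perm_eq s₂ a₂ hs.2.1 ha.2.1 hsa.2.1 fun x hx => by
    simpa using hiff (1, x, 1) (by simp [hx])
  have k3 := perm_eq s₃ a₃ hs.2.2 ha.2.2 hsa.2.2 fun x hx => by
    simpa using hiff (1, 1, x) (by simp [hx])
  rw [k1, k2, k3]

variable {G : Type*} [Group G] [Finite G] {t : G} {Q : Subgroup G}
  {φ : centralizer ({t} : Set G) →* Trip}

/-- The counting: no subgroup of order sixteen or set of conjugates of that size fits. -/
theorem count_contra (X : Hyp t Q φ) {r : G} (hr : IsOuter t Q r) (Y : Subgroup G)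
    (hYW : Y ≤ cen X r) (htY : t ∉ Y)
    (hK : ∀ w ∈ cen X r, w ∈ rng X r → w ≠ 1 → w * t ∈ Y ∧ w ∉ Y) : False := by
  classical
  have hrr := IsOuter.sq X hr
  have htW : t ∈ cen X r :=
    ⟨X.setup.mem, mem_centralizer_singleton_iff.2 (s_comm_t X hr).symm⟩
  by_cases hA : t ∈ rng X r
  · obtain ⟨q0, hq0, hlq0⟩ := hA
    -- the range is closed under multiplication by `t`
    have hmul : ∀ {p q : G}, p ∈ Q → q ∈ Q → l r p * l r q ∈ rng X r := by
      intro p q hp hq
      rcases X.setup.comm p hp (l r q) (l_mem X hr hq) with h | h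
      · exact ⟨p * q, mul_mem hp hq, by rw [l_mul X hr, h, mul_inv_cancel_right]⟩
      · refine ⟨p * q * q0, mul_mem (mul_mem hp hq) hq0, ?_⟩
        rw [l_mul X hr, l_mul X hr, hlq0, h, ← t_comm X (mul_mem hp hq), mul_inv_cancel_right,
          mul_assoc (l r q) p t, ← t_comm X hp, ← mul_assoc (l r q), mul_inv_cancel_right,
          mul_assoc, mul_assoc, tt X, mul_one]
    have small : ∀ x ∈ rng X r, x * x = 1 → x = 1 ∨ x = t := by
      intro x hx hxx
      have hxW : ∀ y ∈ rng X r, y * y = 1 → y ∈ cen X r := by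
        rintro _ ⟨p, hp, rfl⟩ hy
        refine ⟨l_mem X hr hp, mem_centralizer_singleton_iff.2 ?_⟩
        have hinv : l r p = p * r * p⁻¹ * r := by
          calc l r p = (l r p)⁻¹ := (inv_eq_of_mul_eq_one_right hy).symm
            _ = p * r⁻¹ * p⁻¹ * r⁻¹ := by simp only [l]; group
            _ = _ := by rw [IsOuter.inv X hr]
        calc l r p * r = p * r * p⁻¹ * (r * r) := by rw [hinv]; group
          _ = p * r * p⁻¹ := by rw [hrr, mul_one]
          _ = r * l r p := by rw [l_spec hrr p]; rfl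
      by_contra hne
      push Not at hne
      obtain ⟨h1, h2⟩ := hK x (hxW x hx hxx) hx hne.1
      obtain ⟨p, hp, rfl⟩ := hx
      have hxt : l r p * t ∈ rng X r := (congrArg (fun e => l r p * e) hlq0) ▸ hmul hp hq0
      have hxt1 : l r p * t ≠ 1 := fun e => hne.2 (by
        rw [mul_eq_one_iff_eq_inv] at e
        rw [e, inv_eq_of_mul_eq_one_right (tt X)])
      have hxtsq : l r p * t * (l r p * t) = 1 := by
        rw [mul_assoc, ← mul_assoc t, t_comm X (l_mem X hr hp), mul_assoc (l r p) t t, tt X,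
          mul_one, hxx]
      obtain ⟨h3, -⟩ := hK _ (hxW _ hxt hxtsq) hxt hxt1
      rw [mul_assoc, tt X, mul_one] at h3
      exact h2 h3
    have h16 := sixteen_le X hr
    obtain ⟨x, hx, hx1, hxt⟩ : ∃ x ∈ rng X r, x ≠ 1 ∧ x ≠ t := by
      by_contra h
      push Not at h
      have hsub : rng X r ⊆ {1, t} := fun x hx => by
        by_cases e : x = 1
        · exact Or.inl e
        · exact Or.inr (h x hx e)
      have h2 := Set.ncard_le_ncard hsub (Set.toFinite _)
      have h3 : Set.ncard ({1, t} : Set G) ≤ 2 :=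
        le_trans (Set.ncard_insert_le _ _) (by rw [Set.ncard_singleton])
      rw [← Nat.card_coe_set_eq] at h2
      omega
    -- all other elements have square `t`; two of them multiply to an involution
    have sqt : ∀ y ∈ rng X r, y ≠ 1 → y ≠ t → y * y = t := fun y hy h1 h2 => by
      rcases X.setup.sq y (by obtain ⟨p, hp, rfl⟩ := hy; exact l_mem X hr hp) with e | e
      · exact absurd (small y hy e) (by simp [h1, h2])
      · exact e
    obtain ⟨y, hy, hy1, hyt, hyx, hyx'⟩ :
        ∃ y ∈ rng X r, y ≠ 1 ∧ y ≠ t ∧ y ≠ x ∧ y ≠ x * t := by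
      by_contra h
      push Not at h
      have hsub : rng X r ⊆ (({1, t, x, x * t} : Finset G) : Set G) := fun z hz => by
        simp only [Finset.coe_insert, Finset.coe_singleton, Set.mem_insert_iff,
          Set.mem_singleton_iff]
        by_cases e1 : z = 1; · exact Or.inl e1
        by_cases e2 : z = t; · exact Or.inr (Or.inl e2)
        by_cases e3 : z = x; · exact Or.inr (Or.inr (Or.inl e3))
        exact Or.inr (Or.inr (Or.inr (h z hz e1 e2 e3)))
      have h2 := Set.ncard_le_ncard hsub (Set.toFinite _)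
      rw [Set.ncard_coe_finset, ← Nat.card_coe_set_eq] at h2
      have h3 : ({1, t, x, x * t} : Finset G).card ≤ 4 := Finset.card_le_four
      omega
    obtain ⟨px, hpx, rfl⟩ := hx
    obtain ⟨py, hpy, rfl⟩ := hy
    have hxy := hmul hpx hpy
    have exx := sqt _ ⟨px, hpx, rfl⟩ hx1 hxt
    have eyy := sqt _ ⟨py, hpy, rfl⟩ hy1 hyt
    have hxcy : l r px * l r py = l r py * l r px := by
      refine rng_comm_near X hr ?_ ⟨py, hpy, rfl⟩
      refine ⟨l_mem X hr hpx, Or.inr ?_⟩
      -- `r` inverts it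
      have e : r * l r px * r = (l r px)⁻¹ := by
        calc r * l r px * r = (r * r) * px * r * px⁻¹ * r := by simp only [l]; group
          _ = px * r * px⁻¹ * r := by rw [hrr, one_mul]
          _ = (l r px)⁻¹ := by
              simp only [l]
              calc px * r * px⁻¹ * r = px * r⁻¹ * px⁻¹ * r⁻¹ := by rw [IsOuter.inv X hr]
                _ = _ := by group
      show r * l r px * r * (l r px)⁻¹ = t
      rw [e, ← mul_inv_rev, exx, inv_eq_of_mul_eq_one_right (tt X)]
    have hsq : l r px * l r py * (l r px * l r py) = 1 := by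
      calc l r px * l r py * (l r px * l r py) = l r px * (l r py * l r px) * l r py := by group
        _ = (l r px * l r px) * (l r py * l r py) := by rw [← hxcy]; group
        _ = 1 := by rw [exx, eyy, tt X]
    rcases small _ hxy hsq with h | h
    · refine hyx' ?_
      calc l r py = (l r px)⁻¹ := eq_inv_of_mul_eq_one_right h
        _ = l r px * t := inv_eq_of_mul_eq_one_right (by rw [← mul_assoc, exx, tt X])
    · exact hyx (mul_left_cancel (h.trans exx.symm))
  · -- no conjugate is `r * t`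
    have hnear : ∀ p ∈ Q, l r p ∈ cen X r := by
      intro p hp
      refine (mem_cen_iff X hr).2 ⟨l_mem X hr hp, ?_⟩
      have hl := l_mem X hr hp
      have e : l r (l r p) = ((l r p) * (l r p))⁻¹ := by
        have e1 : r * l r p * r = (l r p)⁻¹ := by
          calc r * l r p * r = (r * r) * p * r * p⁻¹ * r := by simp only [l]; group
            _ = p * r * p⁻¹ * r := by rw [hrr, one_mul]
            _ = (l r p)⁻¹ := by
                simp only [l]
                calc p * r * p⁻¹ * r = p * r⁻¹ * p⁻¹ * r⁻¹ := by rw [IsOuter.inv X hr]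
                  _ = _ := by group
        show r * l r p * r * (l r p)⁻¹ = _
        rw [e1, mul_inv_rev]
      rcases X.setup.sq _ hl with h | h
      · rw [e, h, inv_one]
      · refine absurd ⟨_, hl, ?_⟩ hA
        rw [e, h, inv_eq_of_mul_eq_one_right (tt X)]
    have hsub : ∀ x ∈ rng X r, x ∈ cen X r := by
      rintro _ ⟨p, hp, rfl⟩; exact hnear p hp
    have hYhalf : 2 * Nat.card Y ≤ Nat.card (cen X r) := by
      have hlt : Y < cen X r := lt_of_le_of_ne hYW fun e => htY (e ▸ htW)
      obtain ⟨k, hk⟩ := card_dvd_of_le hlt.le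
      have : Nat.card Y < Nat.card (cen X r) := by
        refine lt_of_le_of_ne (card_le_of_le hlt.le) fun e => hlt.ne ?_
        exact eq_of_le_of_card_ge hlt.le e.ge
      have hk2 : 2 ≤ k := by
        by_contra h
        interval_cases k <;> simp_all
      rw [hk, mul_comm 2]
      exact Nat.mul_le_mul_left _ hk2
    let f : rng X r → Y := fun x =>
      if h : (x : G) = 1 then 1
      else ⟨x * t, (hK x (hsub x x.2) x.2 h).1⟩
    have hf : Function.Injective f := by
      intro a b hab
      simp only [f] at hab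
      split_ifs at hab with ha hb hb
      · exact Subtype.ext (ha.trans hb.symm)
      · exfalso
        have e : (b : G) * t = 1 := (congrArg Subtype.val hab).symm
        refine hA ?_
        rw [mul_eq_one_iff_eq_inv, inv_eq_of_mul_eq_one_right (tt X)] at e
        have hb2 := b.2
        rwa [e] at hb2
      · exfalso
        have e : (a : G) * t = 1 := congrArg Subtype.val hab
        refine hA ?_
        rw [mul_eq_one_iff_eq_inv, inv_eq_of_mul_eq_one_right (tt X)] at e
        have ha2 := a.2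
        rwa [e] at ha2
      · exact Subtype.ext (mul_right_cancel (congrArg Subtype.val hab :))
    have h16 := sixteen_le X hr
    have hY16 : 16 ≤ Nat.card Y := h16.trans (Nat.card_le_card_of_injective f hf)
    have hbij : Function.Bijective f := by
      refine (Function.Injective.bijective_of_nat_card_le hf ?_)
      have := card_cen_le X hr
      omega
    have cover : ∀ x ∈ Y, x ≠ 1 → x * t ∈ rng X r := by
      intro x hx hx1
      obtain ⟨a, ha⟩ := hbij.2 ⟨x, hx⟩
      simp only [f] at ha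
      split_ifs at ha with h
      · exact absurd (congrArg Subtype.val ha).symm hx1
      · have e : (a : G) * t = x := congrArg Subtype.val ha
        rw [← e, mul_assoc, tt X, mul_one]
        exact a.2
    have twist : ∀ {q x y : G}, q ∈ Q → x ∈ Y → y ∈ Y → y ≠ 1 → y ≠ x → l r q = x * t →
        q * y * q⁻¹ = y * t := by
      intro q x y hq hx hy hy1 hyx hlq
      obtain ⟨p, hp, hlp⟩ := cover y hy hy1
      rcases X.setup.comm q hq y ((hYW hy).1) with h | h
      swap
      · rw [h, mul_assoc y q t, ← t_comm X hq, ← mul_assoc, mul_inv_cancel_right]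
      exfalso
      have hmem : x * y ∈ rng X r := by
        refine ⟨q * p, mul_mem hq hp, ?_⟩
        rw [l_mul X hr, hlq, hlp]
        have hc : q * (y * t) * q⁻¹ = y * t := by
          calc q * (y * t) * q⁻¹ = (q * y) * (t * q⁻¹) := by group
            _ = (y * q) * (q⁻¹ * t) := by rw [h, t_comm X (inv_mem hq)]
            _ = y * t := by group
        rw [hc]
        calc x * t * (y * t) = x * (t * y) * t := by group
          _ = x * y * (t * t) := by rw [t_comm X ((hYW hy).1)]; group
          _ = x * y := by rw [tt X, mul_one]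
      have hne : x * y ≠ 1 := fun e => hyx (by
        have hxx := sq_cent X hr (hYW hx).1 (mem_centralizer_singleton_iff.1 (hYW hx).2)
        exact mul_left_cancel (e.trans hxx.symm))
      exact (hK _ (hsub _ hmem) hmem hne).2 (mul_mem hx hy)
    obtain ⟨x, hx, hx1⟩ : ∃ x ∈ Y, x ≠ 1 := by
      by_contra h
      push Not at h
      have : Nat.card Y ≤ 1 := by
        rw [(Y.eq_bot_iff_forall).2 h, card_bot]
      omega
    obtain ⟨y, hy, hy'⟩ : ∃ y ∈ Y, y ∉ ({1, x} : Finset G) := by
      by_contra h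
      push Not at h
      have h2 := Nat.card_le_card_of_injective (fun a : Y => (⟨a, h a a.2⟩ : ({1, x} : Finset G)))
        fun a b e => Subtype.ext (congrArg Subtype.val e :)
      rw [Nat.card_eq_fintype_card (α := ({1, x} : Finset G)), Fintype.card_coe] at h2
      have : ({1, x} : Finset G).card ≤ 2 := Finset.card_le_two
      omega
    obtain ⟨z, hz, hz'⟩ : ∃ z ∈ Y, z ∉ ({1, x, y, y⁻¹ * x, y⁻¹} : Finset G) := by
      by_contra h
      push Not at h
      have h2 := Nat.card_le_card_of_injective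
        (fun a : Y => (⟨a, h a a.2⟩ : ({1, x, y, y⁻¹ * x, y⁻¹} : Finset G)))
        fun a b e => Subtype.ext (congrArg Subtype.val e :)
      rw [Nat.card_eq_fintype_card (α := ({1, x, y, y⁻¹ * x, y⁻¹} : Finset G)), Fintype.card_coe] at h2
      have : ({1, x, y, y⁻¹ * x, y⁻¹} : Finset G).card ≤ 5 := Finset.card_le_five
      omega
    simp only [Finset.mem_insert, Finset.mem_singleton, not_or] at hy' hz'
    obtain ⟨q, hq, hlq⟩ := cover x hx hx1
    have h1 := twist hq hx hy hy'.1 hy'.2 hlq
    have h2 := twist hq hx hz hz'.1 hz'.2.1 hlq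
    have h3 := twist hq hx (mul_mem hy hz) (fun e => hz'.2.2.2.2 (eq_inv_of_mul_eq_one_right e))
      (fun e => hz'.2.2.2.1 (by rw [← e]; group)) hlq
    have h4 : q * (y * z) * q⁻¹ = y * z := by
      calc q * (y * z) * q⁻¹ = (q * y * q⁻¹) * (q * z * q⁻¹) := by group
        _ = y * (t * z) * t := by rw [h1, h2]; group
        _ = y * z * (t * t) := by rw [t_comm X (hYW hz).1]; group
        _ = y * z := by rw [tt X, mul_one]
    exact t_ne X (mul_eq_left.1 (h3.symm.trans h4))

/-- The main result: only `t` itself is a conjugate in its centraliser. -/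
theorem isolated (X : Hyp t Q φ) {g : G} (hg : g * t * g⁻¹ ∈ centralizer ({t} : Set G)) :
    g * t * g⁻¹ = t := by
  classical
  by_contra hne
  have hout : IsOuter t Q (g * t * g⁻¹) :=
    ⟨isConj_iff.2 ⟨g, rfl⟩, hg, fun h => hne (X.closed g h)⟩
  haveI : Fintype {s : G // IsOuter t Q s} := Fintype.ofFinite _
  obtain ⟨⟨s, hs⟩, -, hmax⟩ := Finset.exists_max_image
    (Finset.univ : Finset {s : G // IsOuter t Q s})
    (fun s => weight (φ ⟨s.1, s.2.2.1⟩)) ⟨⟨_, hout⟩, Finset.mem_univ _⟩
  obtain ⟨k, hk⟩ := isConj_iff.1 hs.1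
  set r := k⁻¹ * t * k with hr'
  have hrC : r ∈ centralizer ({t} : Set G) := by
    rw [mem_centralizer_singleton_iff, hr']
    have := s_comm_t X hs
    rw [← hk] at this
    calc k⁻¹ * t * k * t = k⁻¹ * (t * (k * t * k⁻¹)) * k := by group
      _ = k⁻¹ * (k * t * k⁻¹ * t) * k := by rw [this]
      _ = t * (k⁻¹ * t * k) := by group
  have hr : IsOuter t Q r := by
    refine ⟨isConj_iff.2 ⟨k⁻¹, by rw [hr', inv_inv]⟩, hrC, fun h => hs.2.2 ?_⟩
    have e := X.closed k⁻¹ (by rwa [inv_inv])
    rw [inv_inv] at e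
    have : s = t := by
      rw [← hk]
      calc k * t * k⁻¹ = k * (k⁻¹ * t * k) * k⁻¹ := by rw [e]
        _ = t := by group
    rw [this]; exact X.setup.mem
  have toC : ∀ {w : G}, w * r = r * w → k * w * k⁻¹ ∈ centralizer ({t} : Set G) := by
    intro w hw
    rw [mem_centralizer_singleton_iff]
    calc k * w * k⁻¹ * t = k * (w * r) * k⁻¹ := by rw [hr']; group
      _ = k * (r * w) * k⁻¹ := by rw [hw]
      _ = t * (k * w * k⁻¹) := by rw [hr']; group
  let ψ : cen X r →* Trip :=
    φ.comp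
      { toFun := fun w => ⟨k * w * k⁻¹, toC (mem_centralizer_singleton_iff.1 w.2.2)⟩
        map_one' := Subtype.ext (by simp)
        map_mul' := fun a b => Subtype.ext (by simp [mul_assoc]) }
  let Y : Subgroup G := ψ.ker.map (cen X r).subtype
  have hYiff : ∀ w, ∀ h : w ∈ cen X r, w ∈ Y ↔ k * w * k⁻¹ ∈ Q := by
    intro w h
    constructor
    · rintro ⟨⟨w', hw'⟩, hker, rfl⟩
      exact (X.ker _).1 hker
    · intro hq
      exact ⟨⟨w, h⟩, (X.ker _).2 hq, rfl⟩
  have htW : t ∈ cen X r :=
    ⟨X.setup.mem, mem_centralizer_singleton_iff.2 (s_comm_t X hr).symm⟩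
  have htY : t ∉ Y := fun h => hs.2.2 (hk ▸ (hYiff t htW).1 h)
  refine count_contra X hr Y (map_subtype_le _) htY fun w hw hrng hw1 => ?_
  -- `t * u` is a conjugate of `t`, with `u` the transported `w`
  set u := k * w * k⁻¹ with hu
  have huC : u ∈ centralizer ({t} : Set G) := toC (mem_centralizer_singleton_iff.1 hw.2)
  obtain ⟨p, hp, hlp⟩ := hrng
  have hconj : IsConj t (t * u) := by
    refine hr.1.trans ((isConj_iff.2 ⟨p, rfl⟩ : IsConj r (p * r * p⁻¹)).trans
      (isConj_iff.2 ⟨k, ?_⟩))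
    rw [l_spec (IsOuter.sq X hr) p]
    simp only [l] at hlp
    rw [hlp, hr', hu]
    group
  have htuC : t * u ∈ centralizer ({t} : Set G) :=
    mul_mem (mem_centralizer_singleton_iff.2 rfl) huC
  have hu1 : u ≠ 1 := fun e => hw1 (conj_eq_one_iff.1 e)
  have htuQ : t * u ∉ Q := fun h => by
    obtain ⟨j, hj⟩ := isConj_iff.1 hconj
    have := X.closed j (hj ▸ h)
    exact hu1 (mul_eq_left.1 (hj.symm.trans this))
  have houter : IsOuter t Q (t * u) := ⟨hconj, htuC, htuQ⟩
  have huQ : u ∉ Q := fun h => htuQ (mul_mem X.setup.mem h)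
  refine ⟨?_, fun h => huQ ((hYiff w hw).1 h)⟩
  have hw' := hmax ⟨t * u, houter⟩ (Finset.mem_univ _)
  set a := φ ⟨u, huC⟩ with ha
  set sb := φ ⟨s, hs.2.1⟩ with hsb
  have hta : φ ⟨t * u, htuC⟩ = a := by
    rw [show (⟨t * u, htuC⟩ : centralizer ({t} : Set G)) =
      ⟨t, mem_centralizer_singleton_iff.2 rfl⟩ * ⟨u, huC⟩ from rfl, map_mul,
      (X.ker _).2 X.setup.mem, one_mul]
  have hwt : weight a ≤ weight sb := by
    have : weight (φ ⟨t * u, htuC⟩) ≤ weight (φ ⟨s, hs.2.1⟩) := hw'
    rwa [hta] at this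
  have hu2 : u * u = 1 := by
    rw [hu, show k * w * k⁻¹ * (k * w * k⁻¹) = k * (w * w) * k⁻¹ by group,
      sq_cent X hr hw.1 (mem_centralizer_singleton_iff.1 hw.2), mul_one, mul_inv_cancel]
  have hsu : s * u = u * s := by
    have h1 : t * w = w * t := t_comm X hw.1
    rw [hu, ← hk]
    calc k * t * k⁻¹ * (k * w * k⁻¹) = k * (t * w) * k⁻¹ := by group
      _ = k * (w * t) * k⁻¹ := by rw [h1]
      _ = k * w * k⁻¹ * (k * t * k⁻¹) := by group
  have hsa : sb = a := by
    refine trip_eq ?_ ?_ ?_ (fun x hx hxs => ?_) hwt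
    · rw [hsb, ← map_mul, ← map_one φ]
      exact congrArg φ (Subtype.ext (IsOuter.sq X hs))
    · rw [ha, ← map_mul, ← map_one φ]
      exact congrArg φ (Subtype.ext hu2)
    · rw [hsb, ha, ← map_mul, ← map_mul]
      exact congrArg φ (Subtype.ext hsu)
    obtain ⟨⟨y, hy⟩, hyx⟩ := X.surj x
    have hy3 : y * y * y ∈ Q := by
      refine (X.ker ⟨y * y * y, mul_mem (mul_mem hy hy) hy⟩).1 ?_
      rw [show (⟨y * y * y, mul_mem (mul_mem hy hy) hy⟩ : centralizer ({t} : Set G)) =
        ⟨y, hy⟩ * ⟨y, hy⟩ * ⟨y, hy⟩ from rfl, map_mul, map_mul, hyx, hx]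
    have hys : s * (y * s * y⁻¹) ∈ Q := by
      refine (X.ker ⟨_, mul_mem hs.2.1 (mul_mem (mul_mem hy hs.2.1) (inv_mem hy))⟩).1 ?_
      rw [show (⟨s * (y * s * y⁻¹), mul_mem hs.2.1 (mul_mem (mul_mem hy hs.2.1) (inv_mem hy))⟩ :
        centralizer ({t} : Set G)) = ⟨s, hs.2.1⟩ * (⟨y, hy⟩ * ⟨s, hs.2.1⟩ * ⟨y, hy⟩⁻¹) from rfl,
        map_mul, map_mul, map_mul, map_inv, hyx, ← hsb, hxs, mul_inv_cancel_right, hsb, ← map_mul,
        ← map_one φ]
      exact congrArg φ (Subtype.ext (IsOuter.sq X hs))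
    obtain ⟨q, hq, hqy⟩ := exists_lift X hs hy hy3 hys
    set y' := q⁻¹ * y with hy'
    have hy'C : y' ∈ centralizer ({t} : Set G) := mul_mem (inv_mem (X.setup.le hq)) hy
    have hy'x : φ ⟨y', hy'C⟩ = x := by
      rw [show (⟨y', hy'C⟩ : centralizer ({t} : Set G)) =
        ⟨q, X.setup.le hq⟩⁻¹ * ⟨y, hy⟩ from rfl, map_mul, map_inv, (X.ker _).2 hq, inv_one,
        one_mul, hyx]
    -- `y'` carries `u` to another element coming from the centraliser of `r` in `Q`
    set j := k⁻¹ * y' * k with hj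
    have hjC : j ∈ centralizer ({t} : Set G) := by
      rw [mem_centralizer_singleton_iff, hj]
      rw [← hk] at hqy
      calc k⁻¹ * y' * k * t = k⁻¹ * (y' * (k * t * k⁻¹)) * k := by group
        _ = k⁻¹ * (k * t * k⁻¹ * y') * k := by rw [hqy]
        _ = t * (k⁻¹ * y' * k) := by group
    have hjr : j * r = r * j := by
      rw [hj, hr']
      calc k⁻¹ * y' * k * (k⁻¹ * t * k) = k⁻¹ * (y' * t) * k := by group
        _ = k⁻¹ * (t * y') * k := by rw [mem_centralizer_singleton_iff.1 hy'C]
        _ = k⁻¹ * t * k * (k⁻¹ * y' * k) := by group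
    have hwr := mem_centralizer_singleton_iff.1 hw.2
    have hw2r : j * w * j⁻¹ * r = r * (j * w * j⁻¹) :=
      (((show Commute j r from hjr).mul_left hwr).mul_left
        (show Commute j r from hjr).inv_left).eq
    have hcomm := comm_cent X hr (mem_Q_conj X hjC hw.1) hw2r hw.1 hwr
    have hu' : y' * u * y'⁻¹ * u = u * (y' * u * y'⁻¹) := by
      have e : y' * u * y'⁻¹ = k * (j * w * j⁻¹) * k⁻¹ := by rw [hu, hj]; group
      rw [e, hu]
      calc k * (j * w * j⁻¹) * k⁻¹ * (k * w * k⁻¹) = k * (j * w * j⁻¹ * w) * k⁻¹ := by group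
        _ = k * (w * (j * w * j⁻¹)) * k⁻¹ := by rw [hcomm]
        _ = k * w * k⁻¹ * (k * (j * w * j⁻¹) * k⁻¹) := by group
    refine trip_step ?_ hx ?_
    · rw [ha, ← map_mul, ← map_one φ]
      exact congrArg φ (Subtype.ext hu2)
    · rw [← hy'x, ha, ← map_inv, ← map_mul, ← map_mul, ← map_mul, ← map_mul]
      exact congrArg φ (Subtype.ext hu')
  refine (hYiff (w * t) (mul_mem hw htW)).2 ?_
  have hus : k * (w * t) * k⁻¹ = u * s := by rw [hu, ← hk]; group
  rw [hus]
  refine (X.ker ⟨u * s, mul_mem huC hs.2.1⟩).1 ?_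
  rw [show (⟨u * s, mul_mem huC hs.2.1⟩ : centralizer ({t} : Set G)) =
    ⟨u, huC⟩ * ⟨s, hs.2.1⟩ from rfl, map_mul, ← ha, ← hsb, hsa, ha, ← map_mul, ← map_one φ]
  exact congrArg φ (Subtype.ext hu2)

end CfsgLib.DFour.Isolated
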