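import Cfsg.Agent.Lib.CharsMore.ExtraTransfer.Pairing

/-!
# An involution centralizer with extraspecial core and quotient `S₃ × S₃ × S₃`: the setting
-/

set_option autoImplicit false
set_option linter.unusedSectionVars false

namespace CfsgLib.DFour.Isolated

open Subgroup CfsgLib.Involutions.ExtraTransfer

variable {G : Type*} [Group G]

/-- The quotient. -/
abbrev Trip := Equiv.Perm (Fin 3) × Equiv.Perm (Fin 3) × Equiv.Perm (Fin 3)

/-- The hypotheses. -/
structure Hyp [Finite G] (t : G) (Q : Subgroup G)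
    (φ : centralizer ({t} : Set G) →* Trip) : Prop where
  setup : Setup t Q
  card : Nat.card Q = 512
  surj : Function.Surjective φ
  ker : ∀ c : centralizer ({t} : Set G), φ c = 1 ↔ (c : G) ∈ Q
  closed : ∀ g : G, g * t * g⁻¹ ∈ Q → g * t * g⁻¹ = t

/-- The conjugates outside the core. -/
def IsOuter (t : G) (Q : Subgroup G) (s : G) : Prop :=
  IsConj t s ∧ s ∈ centralizer ({t} : Set G) ∧ s ∉ Q

/-- The commutator map of an involution. -/
def l (s q : G) : G := s * q * s * q⁻¹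

theorem l_spec {s : G} (hs : s * s = 1) (q : G) : q * s * q⁻¹ = s * (s * q * s * q⁻¹) := by
  simp [← mul_assoc, hs]

variable [Finite G] {t : G} {Q : Subgroup G} {φ : centralizer ({t} : Set G) →* Trip}
variable (X : Hyp t Q φ)
include X

theorem t_ne : t ≠ 1 := fun h => by
  have := X.setup.hz
  rw [h, orderOf_one] at this
  omega

theorem tt : t * t = 1 := X.setup.zz

theorem t_comm {q : G} (hq : q ∈ Q) : t * q = q * t := X.setup.zc (X.setup.le hq)

theorem mem_Q_conj {c q : G} (hc : c ∈ centralizer ({t} : Set G)) (hq : q ∈ Q) :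
    c * q * c⁻¹ ∈ Q := X.setup.nor c hc q hq

omit X [Finite G] in
theorem sq_of_conj {s : G} (ht : t * t = 1) (hs : IsConj t s) : s * s = 1 := by
  obtain ⟨g, rfl⟩ := isConj_iff.1 hs
  rw [show g * t * g⁻¹ * (g * t * g⁻¹) = g * (t * t) * g⁻¹ by group, ht, mul_one, mul_inv_cancel]

theorem IsOuter.sq {s : G} (hs : IsOuter t Q s) : s * s = 1 := sq_of_conj (tt X) hs.1

theorem IsOuter.inv {s : G} (hs : IsOuter t Q s) : s⁻¹ = s :=
  inv_eq_of_mul_eq_one_right (IsOuter.sq X hs)

theorem s_comm_t {s : G} (hs : IsOuter t Q s) : s * t = t * s :=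
  mem_centralizer_singleton_iff.1 hs.2.1

theorem l_mem {s q : G} (hs : IsOuter t Q s) (hq : q ∈ Q) : l s q ∈ Q := by
  have h := mem_Q_conj X hs.2.1 hq
  rw [IsOuter.inv X hs] at h
  exact mul_mem h (inv_mem hq)

theorem l_one {s : G} (hs : IsOuter t Q s) : l s 1 = 1 := by
  simp [l, IsOuter.sq X hs]

theorem l_mul {s : G} (hs : IsOuter t Q s) (p q : G) : l s (p * q) = l s p * (p * l s q * p⁻¹) := by
  have h := IsOuter.inv X hs
  simp only [l]
  calc s * (p * q) * s * (p * q)⁻¹ = s * p * (s * s⁻¹) * q * s * q⁻¹ * p⁻¹ := by group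
    _ = _ := by rw [h]; group

/-- Squares in the centraliser of an outer conjugate are trivial. -/
theorem sq_cent {s w : G} (hs : IsOuter t Q s) (hw : w ∈ Q) (hws : w * s = s * w) : w * w = 1 := by
  rcases X.setup.sq w hw with h | h
  · exact h
  exfalso
  obtain ⟨g, hg⟩ := isConj_iff.1 hs.1
  -- transported, `w` centralises `t`
  set u := g⁻¹ * w * g with hu
  have hg' : g * t * g⁻¹ = s := hg
  have huC : u ∈ centralizer ({t} : Set G) := by
    rw [mem_centralizer_singleton_iff, hu]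
    calc g⁻¹ * w * g * t = g⁻¹ * (w * (g * t * g⁻¹)) * g := by group
      _ = g⁻¹ * ((g * t * g⁻¹) * w) * g := by rw [hg', hws]
      _ = t * (g⁻¹ * w * g) := by group
  have hw4 : w ^ 4 = 1 := by
    rw [show w ^ 4 = (w * w) * (w * w) by simp [pow_succ, mul_assoc], h, tt X]
  have hu4 : u ^ 4 = 1 := by
    rw [hu, show g⁻¹ * w * g = g⁻¹ * w * g⁻¹⁻¹ by rw [inv_inv], conj_pow, hw4]
    group
  have key : ∀ x : Equiv.Perm (Fin 3), x * x * (x * x) = 1 → x * x = 1 := by decide
  have himg : φ (⟨u, huC⟩ * ⟨u, huC⟩) = 1 := by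
    have h4 : φ ⟨u, huC⟩ * φ ⟨u, huC⟩ * (φ ⟨u, huC⟩ * φ ⟨u, huC⟩) = 1 := by
      rw [← map_mul, ← map_mul]
      have : (⟨u, huC⟩ * ⟨u, huC⟩ * (⟨u, huC⟩ * ⟨u, huC⟩) : centralizer ({t} : Set G)) = 1 :=
        Subtype.ext (by
          show u * u * (u * u) = 1
          rw [← hu4]; simp [pow_succ, mul_assoc])
      rw [this, map_one]
    rw [map_mul]
    generalize φ ⟨u, huC⟩ = p at h4 ⊢
    obtain ⟨a, b, c⟩ := p
    simp only [Prod.mk_mul_mk, Prod.mk_eq_one] at h4 ⊢
    exact ⟨key a h4.1, key b h4.2.1, key c h4.2.2⟩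
  have hQ : u * u ∈ Q := (X.ker _).1 himg
  have huu : u * u = g⁻¹ * t * g⁻¹⁻¹ := by
    rw [hu, inv_inv, show g⁻¹ * w * g * (g⁻¹ * w * g) = g⁻¹ * (w * w) * g by group, h]
  rw [huu] at hQ
  have := X.closed g⁻¹ hQ
  refine hs.2.2 ?_
  have hst : s = t := by
    rw [← hg']
    calc g * t * g⁻¹ = g * (g⁻¹ * t * g⁻¹⁻¹) * g⁻¹ := by rw [this]
      _ = t := by group
  rw [hst]
  exact X.setup.mem

theorem comm_cent {s v w : G} (hs : IsOuter t Q s) (hv : v ∈ Q) (hvs : v * s = s * v) (hw : w ∈ Q)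
    (hws : w * s = s * w) : v * w = w * v := by
  have h1 := sq_cent X hs hv hvs
  have h2 := sq_cent X hs hw hws
  have h3 := sq_cent X hs (mul_mem hv hw)
    (by rw [mul_assoc, hws, ← mul_assoc, hvs, mul_assoc])
  calc v * w = v * (v * w * (v * w)) * w := by rw [h3, mul_one]
    _ = (v * v) * (w * v) * (w * w) := by group
    _ = w * v := by rw [h1, h2, one_mul, mul_one]

/-- The centraliser in `Q` of an outer conjugate. -/
def cen (_ : Hyp t Q φ) (s : G) : Subgroup G := Q ⊓ centralizer ({s} : Set G)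

theorem card_cen_le {s : G} (hs : IsOuter t Q s) : Nat.card (cen X s) ≤ 32 := by
  have h := CharsMore.ExtraTransfer.card_abelian_sq_le X.setup (A := cen X s) inf_le_left
    (fun a ha b hb => comm_cent X hs ha.1 (mem_centralizer_singleton_iff.1 ha.2) hb.1
      (mem_centralizer_singleton_iff.1 hb.2))
  rw [X.card] at h
  nlinarith

/-- The conjugates of `s` under `Q`, divided by `s`. -/
def rng (_ : Hyp t Q φ) (s : G) : Set G := {x | ∃ q ∈ Q, l s q = x}

theorem card_rng {s : G} (hs : IsOuter t Q s) :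
    Nat.card (rng X s) * Nat.card (cen X s) = 512 := by
  classical
  rw [← X.card]
  let W : Subgroup Q := (cen X s).subgroupOf Q
  have hW : Nat.card W = Nat.card (cen X s) :=
    Nat.card_congr (subgroupOfEquivOfLe (inf_le_left : cen X s ≤ Q)).toEquiv
  rw [← card_mul_index W, hW, mul_comm, Subgroup.index]
  congr 1
  have key : ∀ p q : Q, l s p = l s q ↔ (p : G)⁻¹ * q ∈ cen X s := by
    intro p q
    constructor
    · intro h
      refine ⟨Q.mul_mem (Q.inv_mem p.2) q.2, mem_centralizer_singleton_iff.2 ?_⟩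
      have hh : (p : G) * s * (p : G)⁻¹ = q * s * (q : G)⁻¹ := by
        rw [l_spec (IsOuter.sq X hs) (p : G), l_spec (IsOuter.sq X hs) (q : G)]
        simp only [l] at h
        rw [h]
      calc (p : G)⁻¹ * q * s = (p : G)⁻¹ * (q * s * (q : G)⁻¹) * q := by group
        _ = s * ((p : G)⁻¹ * q) := by rw [← hh]; group
    · intro h
      have hc := mem_centralizer_singleton_iff.1 h.2
      simp only [l]
      calc s * p * s * (p : G)⁻¹ = s * p * (s * ((p : G)⁻¹ * q)) * (q : G)⁻¹ := by group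
        _ = s * q * s * (q : G)⁻¹ := by rw [← hc]; group
  refine (Nat.card_congr (Equiv.ofBijective (fun c : Q ⧸ W =>
    (⟨l s c.out, c.out, c.out.2, rfl⟩ : rng X s)) ⟨?_, ?_⟩)).symm
  · intro c c' h
    rw [← c.out_eq, ← c'.out_eq]
    exact QuotientGroup.eq.2 ((key _ _).1 (congrArg Subtype.val h))
  · rintro ⟨x, q, hq, rfl⟩
    refine ⟨QuotientGroup.mk (⟨q, hq⟩ : Q), Subtype.ext ?_⟩
    refine (key _ ⟨q, hq⟩).2 ?_
    have h := QuotientGroup.out_eq' (QuotientGroup.mk (⟨q, hq⟩ : Q) : Q ⧸ W)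
    have h' := QuotientGroup.eq.1 h
    exact h'

theorem sixteen_le {s : G} (hs : IsOuter t Q s) : 16 ≤ Nat.card (rng X s) := by
  have h1 := card_rng X hs
  have h2 := card_cen_le X hs
  nlinarith

end CfsgLib.DFour.Isolated
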