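import Cfsg.Agent.Lib.DFour.IsolatedBasic

/-!
# At most two classes of outer conjugates in a coset
-/

set_option autoImplicit false
set_option linter.unusedSectionVars false

namespace CfsgLib.DFour.Isolated

open Subgroup CfsgLib.Involutions.ExtraTransfer

variable {G : Type*} [Group G] [Finite G] {t : G} {Q : Subgroup G}
  {φ : centralizer ({t} : Set G) →* Trip} (X : Hyp t Q φ)
include X

/-- The elements centralising `s` modulo the centre. -/
def near (_ : Hyp t Q φ) (s : G) : Set G := {q | q ∈ Q ∧ (l s q = 1 ∨ l s q = t)}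

theorem near_mul {s p q : G} (hs : IsOuter t Q s) (hp : p ∈ near X s) (hq : q ∈ near X s) :
    p * q ∈ near X s := by
  refine ⟨mul_mem hp.1 hq.1, ?_⟩
  have hc : p * t * p⁻¹ = t := by rw [← t_comm X hp.1, mul_inv_cancel_right]
  rw [l_mul X hs]
  rcases hp.2 with a | a <;> rcases hq.2 with b | b <;> rw [a, b] <;>
    simp [hc, tt X]

theorem near_inv {s p : G} (hs : IsOuter t Q s) (hp : p ∈ near X s) : p⁻¹ ∈ near X s := by
  refine ⟨inv_mem hp.1, ?_⟩
  have h := l_mul X hs p p⁻¹
  rw [mul_inv_cancel, l_one X hs] at h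
  have e : l s p⁻¹ = p⁻¹ * (l s p)⁻¹ * p := by
    calc l s p⁻¹ = p⁻¹ * ((l s p)⁻¹ * (l s p * (p * l s p⁻¹ * p⁻¹))) * p := by group
      _ = p⁻¹ * (l s p)⁻¹ * p := by rw [← h, mul_one]
  rw [e]
  rcases hp.2 with a | a <;> rw [a]
  · left; group
  · right
    rw [inv_eq_of_mul_eq_one_right (tt X), mul_assoc, t_comm X hp.1, inv_mul_cancel_left]

theorem one_near {s : G} (hs : IsOuter t Q s) : (1 : G) ∈ near X s :=
  ⟨one_mem _, Or.inl (l_one X hs)⟩

theorem mem_cen_iff {s q : G} (hs : IsOuter t Q s) : q ∈ cen X s ↔ q ∈ Q ∧ l s q = 1 := by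
  have h := IsOuter.sq X hs
  constructor
  · rintro ⟨hq, hc⟩
    refine ⟨hq, ?_⟩
    replace hc : q * s = s * q := mem_centralizer_singleton_iff.1 hc
    calc s * q * s * q⁻¹ = s * (q * s) * q⁻¹ := by group
      _ = s * (s * q) * q⁻¹ := by rw [hc]
      _ = s * s := by group
      _ = 1 := h
  · rintro ⟨hq, hl⟩
    refine ⟨hq, mem_centralizer_singleton_iff.2 ?_⟩
    calc q * s = s * (s * q * s * q⁻¹) * q := by
          rw [← l_spec h]; group
      _ = s * q := by simp only [l] at hl; rw [hl, mul_one]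

theorem cen_subset_near {s q : G} (hs : IsOuter t Q s) (hq : q ∈ cen X s) : q ∈ near X s :=
  ⟨((mem_cen_iff X hs).1 hq).1, Or.inl ((mem_cen_iff X hs).1 hq).2⟩

/-- The centraliser has index at most two. -/
theorem card_near_le {s : G} (hs : IsOuter t Q s) :
    Nat.card (near X s) ≤ 2 * Nat.card (cen X s) := by
  classical
  by_cases h : ∃ q0 ∈ near X s, q0 ∉ cen X s
  · obtain ⟨q0, hq0, hq0c⟩ := h
    have key : ∀ q ∈ near X s, q ∉ cen X s → q0⁻¹ * q ∈ cen X s := by
      intro q hq hqc
      have h1 : l s q0 = t := hq0.2.resolve_left fun e => hq0c ((mem_cen_iff X hs).2 ⟨hq0.1, e⟩)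
      have h2 : l s q = t := hq.2.resolve_left fun e => hqc ((mem_cen_iff X hs).2 ⟨hq.1, e⟩)
      refine (mem_cen_iff X hs).2 ⟨mul_mem (inv_mem hq0.1) hq.1, ?_⟩
      have h3 := l_mul X hs q0 (q0⁻¹ * q)
      rw [mul_inv_cancel_left, h1, h2] at h3
      have h4 : q0 * l s (q0⁻¹ * q) * q0⁻¹ = 1 := mul_eq_left.1 h3.symm
      rwa [conj_eq_one_iff] at h4
    let f : near X s → Bool × cen X s := fun q =>
      if hq : (q : G) ∈ cen X s then (true, ⟨q, hq⟩) else (false, ⟨q0⁻¹ * q, key q q.2 hq⟩)
    have hf : Function.Injective f := by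
      intro p q hpq
      simp only [f] at hpq
      split_ifs at hpq
      all_goals simp [Subtype.ext_iff] at hpq ⊢
      all_goals exact hpq
    have := Nat.card_le_card_of_injective f hf
    rwa [Nat.card_prod, show Nat.card Bool = 2 by simp] at this
  · push Not at h
    refine le_trans (Nat.card_le_card_of_injective
      (fun q : near X s => (⟨q, h q q.2⟩ : cen X s)) fun a b e =>
        Subtype.ext (congrArg Subtype.val e :)) (Nat.le_mul_of_pos_left _ two_pos)

/-- Commutators with `s` centralise everything centralising `s` modulo the centre. -/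
theorem rng_comm_near {s d x : G} (hs : IsOuter t Q s) (hd : d ∈ near X s) (hx : x ∈ rng X s) :
    d * x = x * d := by
  obtain ⟨q, hq, rfl⟩ := hx
  have hss := IsOuter.sq X hs
  have hsd : ∃ i : G, (i = 1 ∨ i = t) ∧ d * s * d⁻¹ = s * i :=
    ⟨l s d, hd.2, l_spec hss d⟩
  obtain ⟨i, hi, hsd⟩ := hsd
  have hdq : ∃ c : G, (c = 1 ∨ c = t) ∧ d * q * d⁻¹ = q * c := by
    rcases X.setup.comm d hd.1 q hq with h | h
    · exact ⟨1, Or.inl rfl, by rw [h]; group⟩
    · refine ⟨t, Or.inr rfl, ?_⟩
      rw [h, mul_assoc q d t, ← t_comm X hd.1, ← mul_assoc, mul_inv_cancel_right]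
  obtain ⟨c, hc, hdq⟩ := hdq
  have hcent : ∀ j : G, (j = 1 ∨ j = t) → j * s = s * j ∧ j * q = q * j ∧ j * j = 1 := by
    rintro j (rfl | rfl)
    · simp
    · exact ⟨(s_comm_t X hs).symm, t_comm X hq, tt X⟩
  obtain ⟨hi1, hi2, hi3⟩ := hcent i hi
  obtain ⟨hc1, hc2, hc3⟩ := hcent c hc
  have hci : c⁻¹ = c := inv_eq_of_mul_eq_one_right hc3
  have hic : i * c = c * i := by
    rcases hi with rfl | rfl <;> rcases hc with rfl | rfl <;> simp
  have h : d * l s q * d⁻¹ = l s q := by
    simp only [l]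
    calc d * (s * q * s * q⁻¹) * d⁻¹
        = (d * s * d⁻¹) * (d * q * d⁻¹) * (d * s * d⁻¹) * (d * q * d⁻¹)⁻¹ := by group
      _ = s * (i * q) * (c * s) * i * (c⁻¹ * q⁻¹) := by rw [hsd, hdq]; group
      _ = s * q * (i * s) * (c * i) * (c * q⁻¹) := by rw [hi2, hc1, hci]; simp only [mul_assoc]
      _ = s * q * s * (i * (i * c)) * (c * q⁻¹) := by rw [hi1, ← hic]; group
      _ = s * q * s * ((i * i) * (c * c)) * q⁻¹ := by group
      _ = s * q * s * q⁻¹ := by rw [hi3, hc3, mul_one, mul_one]
  calc d * l s q = d * l s q * d⁻¹ * d := by group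
    _ = l s q * d := by rw [h]

/-- Three pairwise inequivalent outer conjugates do not share a coset. -/
theorem no_three {s q₁ q₂ : G} (hs : IsOuter t Q s) (hq₁ : q₁ ∈ Q) (hq₂ : q₂ ∈ Q)
    (h₁ : IsOuter t Q (s * q₁)) (h₂ : IsOuter t Q (s * q₂))
    (n₁ : q₁ ∉ rng X s) (n₂ : q₂ ∉ rng X s)
    (n₁₂ : q₁⁻¹ * q₂ ∉ rng X (s * q₁)) : False := by
  classical
  have hss := IsOuter.sq X hs
  have mem_near : ∀ {q : G}, q ∈ Q → IsOuter t Q (s * q) → q ∈ near X s := by
    intro q hq ho
    refine ⟨hq, ?_⟩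
    have hinv : s * q * s = q⁻¹ := eq_inv_of_mul_eq_one_left
      (by rw [mul_assoc (s * q)]; exact IsOuter.sq X ho)
    simp only [l]
    rw [hinv]
    rcases X.setup.sq q hq with e | e
    · left; rw [← mul_inv_rev, e, inv_one]
    · right; rw [← mul_inv_rev, e, inv_eq_of_mul_eq_one_right (tt X)]
  have hq₁n := mem_near hq₁ h₁
  have hq₂n := mem_near hq₂ h₂
  -- all translated sets lie in `near`
  have rng_mul_near : ∀ {q x : G}, q ∈ Q → IsOuter t Q (s * q) → x ∈ rng X (s * q) →
      q * x ∈ near X s := by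
    intro q x hq ho hx
    obtain ⟨p, hp, rfl⟩ := hx
    refine mem_near (mul_mem hq (l_mem X ho hp)) ?_
    rw [← mul_assoc]
    simp only [l]
    rw [← l_spec (IsOuter.sq X ho) p]
    refine ⟨ho.1.trans (isConj_iff.2 ⟨p, rfl⟩),
      mul_mem (mul_mem (X.setup.le hp) ho.2.1) (inv_mem (X.setup.le hp)), fun hm => ho.2.2 ?_⟩
    have := mem_Q_conj X (inv_mem (X.setup.le hp)) hm
    rwa [inv_inv, show p⁻¹ * (p * (s * q) * p⁻¹) * p = s * q by group] at this
  have hs1 : IsOuter t Q (s * 1) := by rwa [mul_one]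
  let A : Set G := rng X s
  let B : Set G := (fun x => q₁ * x) '' rng X (s * q₁)
  let C : Set G := (fun x => q₂ * x) '' rng X (s * q₂)
  have back : ∀ {q q' x y : G}, q ∈ Q → IsOuter t Q (s * q) → q' ∈ Q → IsOuter t Q (s * q') →
      x ∈ rng X (s * q) → y ∈ rng X (s * q') → q * x = q' * y → q⁻¹ * q' ∈ rng X (s * q) := by
    intro q q' x y hq ho hq' ho' hx hy e
    obtain ⟨p, hp, rfl⟩ := hx
    obtain ⟨p', hp', rfl⟩ := hy
    simp only [l] at e
    have e' : p * (s * q) * p⁻¹ = p' * (s * q') * p'⁻¹ := by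
      rw [l_spec (IsOuter.sq X ho) p, l_spec (IsOuter.sq X ho') p', mul_assoc s q,
        mul_assoc s q', e]
    refine ⟨p'⁻¹ * p, mul_mem (inv_mem hp') hp, ?_⟩
    have hsq : (s * q)⁻¹ = s * q := IsOuter.inv X ho
    simp only [l]
    have e2 : s * q' = p'⁻¹ * p * (s * q) * (p'⁻¹ * p)⁻¹ := by
      calc s * q' = p'⁻¹ * (p' * (s * q') * p'⁻¹) * p' := by group
        _ = _ := by rw [← e']; group
    calc s * q * (p'⁻¹ * p) * (s * q) * (p'⁻¹ * p)⁻¹
        = (s * q)⁻¹ * (p'⁻¹ * p * (s * q) * (p'⁻¹ * p)⁻¹) := by rw [hsq]; group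
      _ = q⁻¹ * q' := by rw [← e2]; group
  have dAB : Disjoint A B := Set.disjoint_left.2 fun a ha hb => by
    obtain ⟨x, hx, rfl⟩ := hb
    have := back (one_mem Q) hs1 hq₁ h₁ (by rwa [mul_one]) hx (one_mul _)
    rw [mul_one, inv_one, one_mul] at this
    exact n₁ this
  have dAC : Disjoint A C := Set.disjoint_left.2 fun a ha hb => by
    obtain ⟨x, hx, rfl⟩ := hb
    have := back (one_mem Q) hs1 hq₂ h₂ (by rwa [mul_one]) hx (one_mul _)
    rw [mul_one, inv_one, one_mul] at this
    exact n₂ this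
  have dBC : Disjoint B C := Set.disjoint_left.2 fun a ha hb => by
    obtain ⟨x, hx, rfl⟩ := ha
    obtain ⟨y, hy, e⟩ := hb
    exact n₁₂ (back hq₁ h₁ hq₂ h₂ hx hy e.symm)
  have hA : A ⊆ near X s := fun x hx => by
    simpa using rng_mul_near (one_mem Q) hs1 (by rwa [mul_one])
  have hB : B ⊆ near X s := by rintro _ ⟨x, hx, rfl⟩; exact rng_mul_near hq₁ h₁ hx
  have hC : C ⊆ near X s := by rintro _ ⟨x, hx, rfl⟩; exact rng_mul_near hq₂ h₂ hx
  have hsum : Set.ncard A + Set.ncard B + Set.ncard C ≤ Set.ncard (near X s) := by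
    rw [← Set.ncard_union_eq dAB, ← Set.ncard_union_eq (dAC.union_left dBC)]
    exact Set.ncard_le_ncard (Set.union_subset (Set.union_subset hA hB) hC) (Set.toFinite _)
  have eB : Set.ncard B = Set.ncard (rng X (s * q₁)) :=
    Set.ncard_image_of_injective _ (mul_right_injective q₁)
  have eC : Set.ncard C = Set.ncard (rng X (s * q₂)) :=
    Set.ncard_image_of_injective _ (mul_right_injective q₂)
  rw [eB, eC] at hsum
  simp only [← Nat.card_coe_set_eq, A] at hsum
  have hle := card_near_le X hs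
  have hn32 : Nat.card (near X s) ≤ 64 := hle.trans (by have := card_cen_le X hs; omega)
  have r0 := card_rng X hs
  have r1 := card_rng X h₁
  have r2 := card_rng X h₂
  have g0 := sixteen_le X hs
  have g1 := sixteen_le X h₁
  have g2 := sixteen_le X h₂
  have c0 : Nat.card (cen X s) = 32 := by
    have := card_cen_le X hs
    have hdvd : Nat.card (cen X s) ∣ 512 := X.card ▸ card_dvd_of_le inf_le_left
    obtain ⟨k, hk, hk'⟩ := (Nat.dvd_prime_pow Nat.prime_two (m := 9)).1 hdvd
    rw [hk'] at this hle r0 ⊢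
    interval_cases k <;> omega
  have small : ∀ {u : G}, IsOuter t Q u → Nat.card (rng X u) ≤ 32 → 16 ≤ Nat.card (cen X u) := by
    intro u hu h
    have := card_rng X hu
    nlinarith
  -- the subgroup centralising `s` modulo the centre
  let D : Subgroup G :=
    { carrier := near X s
      one_mem' := one_near X hs
      mul_mem' := fun hp hq => near_mul X hs hp hq
      inv_mem' := fun hp => near_inv X hs hp }
  have hDQ : D ≤ Q := fun x hx => hx.1
  have hD : Nat.card D = 64 := by
    have hDn : Nat.card D = Nat.card (near X s) := rfl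
    have hdvd : Nat.card D ∣ 512 := X.card ▸ card_dvd_of_le hDQ
    obtain ⟨k, hk, hk'⟩ := (Nat.dvd_prime_pow Nat.prime_two (m := 9)).1 hdvd
    have h1 : 2 ^ k ≤ 64 := by omega
    have h2 : 48 ≤ 2 ^ k := by omega
    interval_cases k <;> omega
  have hnab : ¬ ∀ a ∈ D, ∀ b ∈ D, a * b = b * a := fun h => by
    have := CharsMore.ExtraTransfer.card_abelian_sq_le X.setup hDQ h
    rw [hD, X.card] at this
    omega
  -- two elements generate `D` over the commutators
  obtain ⟨q0, hq0, hq0c⟩ : ∃ q0 ∈ near X s, q0 ∉ cen X s := by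
    by_contra h
    push Not at h
    have : Nat.card D ≤ Nat.card (cen X s) := card_le_of_le (fun x hx => h x hx)
    omega
  have hlq0 : l s q0 = t := hq0.2.resolve_left fun e => hq0c ((mem_cen_iff X hs).2 ⟨hq0.1, e⟩)
  let R : Subgroup G :=
    { carrier := rng X s
      one_mem' := ⟨1, one_mem _, l_one X hs⟩
      mul_mem' := by
        rintro _ _ ⟨p, hp, rfl⟩ ⟨q, hq, rfl⟩
        rcases X.setup.comm p hp (l s q) (l_mem X hs hq) with h | h
        · exact ⟨p * q, mul_mem hp hq, by rw [l_mul X hs, h, mul_inv_cancel_right]⟩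
        · refine ⟨p * q * q0, mul_mem (mul_mem hp hq) hq0.1, ?_⟩
          rw [l_mul X hs, l_mul X hs, hlq0, h, ← t_comm X (mul_mem hp hq), mul_inv_cancel_right,
            mul_assoc (l s q) p t, ← t_comm X hp, ← mul_assoc (l s q), mul_inv_cancel_right,
            mul_assoc, mul_assoc, tt X, mul_one]
      inv_mem' := by
        rintro x hx
        obtain ⟨p, hp, rfl⟩ := hx
        rcases X.setup.sq (l s p) (l_mem X hs hp) with h | h
        · exact ⟨p, hp, (inv_eq_of_mul_eq_one_right h).symm⟩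
        · refine ⟨p * q0, mul_mem hp hq0.1, ?_⟩
          rw [l_mul X hs, hlq0, ← t_comm X hp, mul_inv_cancel_right]
          refine (inv_eq_of_mul_eq_one_right ?_).symm
          rw [← mul_assoc, h, tt X] }
  have hRD : R ≤ D := hA
  have hR : Nat.card R = 16 := by
    have : Nat.card R = Nat.card (rng X s) := rfl
    rw [this]; rw [c0] at r0; omega
  have hRc : ∀ r ∈ R, ∀ d ∈ D, d * r = r * d := fun r hr d hd => rng_comm_near X hs hd hr
  -- three cosets of `R`
  let RD := R.subgroupOf D
  have hidx : RD.index = 4 := by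
    have h := card_mul_index RD
    rw [Nat.card_congr (subgroupOfEquivOfLe hRD).toEquiv, hR, hD] at h
    omega
  haveI hn : RD.Normal := ⟨fun r hr d => by
    rw [mem_subgroupOf] at hr ⊢
    show (d : G) * r * (d : G)⁻¹ ∈ R
    rw [hRc _ hr d d.2, mul_inv_cancel_right]
    exact hr⟩
  -- two elements of `D` commute when one lies in `R` or both in one coset
  have same : ∀ a b : D, ((a : G)⁻¹ * b ∈ R) → (a : G) * b = b * a := by
    intro a b h
    have e := hRc _ h a a.2
    calc (a : G) * b = a * (a * ((a : G)⁻¹ * b)) := by group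
      _ = a * (((a : G)⁻¹ * b) * a) := by rw [e]
      _ = b * a := by group
  -- the translates of the involution
  have good : ∀ {q : G}, q ∈ Q → IsOuter t Q (s * q) →
      Nat.card (cen X (s * q)) = 32 → ∀ w ∈ cen X (s * q), w ∈ D := by
    intro q hq ho _ w hw
    refine ⟨hw.1, ?_⟩
    have hc := mem_centralizer_singleton_iff.1 hw.2
    have hqi : ∃ c : G, (c = 1 ∨ c = t) ∧ w * q * w⁻¹ = q * c := by
      rcases X.setup.comm w hw.1 q hq with h | h
      · exact ⟨1, Or.inl rfl, by rw [h]; group⟩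
      · refine ⟨t, Or.inr rfl, ?_⟩
        rw [h, mul_assoc q w t, ← t_comm X hw.1, ← mul_assoc, mul_inv_cancel_right]
    obtain ⟨c, hcc, hwq⟩ := hqi
    have h1 : w * s * w⁻¹ * (q * c) = s * q := by
      rw [← hwq]
      calc w * s * w⁻¹ * (w * q * w⁻¹) = w * (s * q) * w⁻¹ := by group
        _ = s * q := by rw [hc, mul_inv_cancel_right]
    have hcq : q * c = c * q := by
      rcases hcc with rfl | rfl
      · simp
      · exact (t_comm X hq).symm
    have h2 : w * s * w⁻¹ * c = s := by
      rw [hcq, ← mul_assoc] at h1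
      exact mul_right_cancel h1
    have h3 : l s w = c := by
      have hci : c⁻¹ = c := by
        rcases hcc with rfl | rfl
        · simp
        · exact inv_eq_of_mul_eq_one_right (tt X)
      simp only [l]
      calc s * w * s * w⁻¹ = s * (w * s * w⁻¹ * c) * c⁻¹ := by group
        _ = c := by rw [h2, hss, one_mul, hci]
    rw [h3]; exact hcc
  have hq10 : q₁ ∉ R := n₁
  have hq20 : q₂ ∉ R := n₂
  -- the centralisers are three different maximal subgroups of exponent two
  have wide : ∀ {q : G}, q ∈ Q → IsOuter t Q (s * q) → 64 ≤ Nat.card (near X (s * q)) := by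
    intro q hq ho
    rw [← hD]
    refine Nat.card_le_card_of_injective (fun d : D => (⟨d.1, d.2.1, ?_⟩ : near X (s * q)))
      fun a b e => Subtype.ext (congrArg Subtype.val e :)
    have h1 : l (s * q) d.1 = q⁻¹ * l s d.1 * (d.1 * q * d.1⁻¹) := by
      simp only [l]
      calc s * q * d.1 * (s * q) * d.1⁻¹ = (s * q)⁻¹ * (d.1 * (s * q) * d.1⁻¹) := by
            rw [IsOuter.inv X ho]; group
        _ = q⁻¹ * (s⁻¹ * d.1 * s * d.1⁻¹) * (d.1 * q * d.1⁻¹) := by group
        _ = _ := by rw [IsOuter.inv X hs]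
    rcases X.setup.comm d.1 d.2.1 q hq with b | b <;> rcases d.2.2 with b' | b' <;>
      rw [h1, b', b]
    · left; group
    · right; rw [mul_inv_cancel_right, mul_assoc, t_comm X hq, inv_mul_cancel_left]
    · right
      rw [mul_one, mul_assoc q d.1 t, ← t_comm X d.2.1, ← mul_assoc q t d.1,
        mul_inv_cancel_right, inv_mul_cancel_left]
    · left
      rw [mul_assoc q d.1 t, ← t_comm X d.2.1, ← mul_assoc q t d.1,
        mul_inv_cancel_right, mul_assoc q⁻¹ t, ← mul_assoc t q, t_comm X hq,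
        mul_assoc q t t, tt X, mul_one, inv_mul_cancel]
  have c1 : Nat.card (cen X (s * q₁)) = 32 := by
    have := card_cen_le X h₁
    have := wide hq₁ h₁
    have := card_near_le X h₁
    omega
  have c2 : Nat.card (cen X (s * q₂)) = 32 := by
    have := card_cen_le X h₂
    have := wide hq₂ h₂
    have := card_near_le X h₂
    omega
  have cb : ∀ {W : Subgroup G}, W ≤ D → Nat.card W = 32 → (∀ a ∈ W, ∀ b ∈ W, a * b = b * a) →
      R ≤ W := by
    intro W hW hWc hab r hr
    by_contra hrW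
    apply hnab
    have hWR : ∀ a ∈ D, a ∈ W ⊔ R := by
      have hle : W ⊔ R ≤ D := sup_le hW hRD
      have hlt : W < W ⊔ R := lt_of_le_of_ne le_sup_left fun e => hrW (e ▸ mem_sup_right hr)
      have h1 : Nat.card W ∣ Nat.card (W ⊔ R : Subgroup G) := card_dvd_of_le le_sup_left
      have h2 : Nat.card (W ⊔ R : Subgroup G) ∣ Nat.card D := card_dvd_of_le hle
      have h3 : Nat.card W < Nat.card (W ⊔ R : Subgroup G) := by
        refine lt_of_le_of_ne (card_le_of_le le_sup_left) fun e => hlt.ne ?_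
        exact eq_of_le_of_card_ge le_sup_left e.ge
      have h4 : Nat.card (W ⊔ R : Subgroup G) = Nat.card D := by
        rw [hWc] at h1 h3
        rw [hD] at h2 ⊢
        have := Nat.le_of_dvd (by norm_num) h2
        obtain ⟨k, hk⟩ := h1
        omega
      intro a ha
      rw [eq_of_le_of_card_ge hle h4.ge]
      exact ha
    have hgen : ∀ x ∈ (W : Set G) ∪ R, ∀ y ∈ (W : Set G) ∪ R, x * y = y * x := by
      rintro x (hx | hx) y (hy | hy)
      · exact hab x hx y hy
      · exact hRc y hy x (hW hx)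
      · exact (hRc x hx y (hW hy)).symm
      · exact hRc y hy x (hRD hx)
    intro a ha b hb
    have ha' := hWR a ha
    have hb' := hWR b hb
    rw [sup_eq_closure] at ha' hb'
    have step : ∀ x ∈ (W : Set G) ∪ R, x * b = b * x := by
      intro x hx
      clear hb ha ha'
      induction hb' using closure_induction with
      | mem y hy => exact hgen x hx y hy
      | one => simp
      | mul y z _ _ hy hz => rw [← mul_assoc, hy, mul_assoc, hz, mul_assoc]
      | inv y _ hy => exact Commute.inv_right hy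
    clear ha
    induction ha' using closure_induction with
    | mem y hy => exact step y hy
    | one => simp
    | mul y z _ _ hy hz => rw [mul_assoc, hz, ← mul_assoc, hy, mul_assoc]
    | inv y _ hy => exact Commute.inv_left hy
  have abel : ∀ {u : G}, IsOuter t Q u → ∀ a ∈ cen X u, ∀ b ∈ cen X u, a * b = b * a :=
    fun hu a ha b hb => comm_cent X hu ha.1 (mem_centralizer_singleton_iff.1 ha.2) hb.1
      (mem_centralizer_singleton_iff.1 hb.2)
  have L0 : cen X s ≤ D := fun w hw => cen_subset_near X hs hw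
  have L1 : cen X (s * q₁) ≤ D := good hq₁ h₁ c1
  have L2 : cen X (s * q₂) ≤ D := good hq₂ h₂ c2
  -- translates with the same centraliser differ by a central element
  have centralD : ∀ z ∈ D, (∀ d ∈ D, z * d = d * z) → z ∈ R := by
    intro z hz hzc
    by_contra hzR
    apply hnab
    -- `D = W0 ∪ z W0` fails unless abelian
    let Zc : Subgroup G := R ⊔ zpowers z
    have hZle : Zc ≤ D := sup_le hRD (zpowers_le.2 hz)
    have hZcent : ∀ x ∈ Zc, ∀ d ∈ D, x * d = d * x := by
      intro x hx d hd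
      have : Zc ≤ centralizer ({d} : Set G) := sup_le
        (fun r hr => mem_centralizer_singleton_iff.2 (hRc r hr d hd).symm)
        (zpowers_le.2 (mem_centralizer_singleton_iff.2 (hzc d hd)))
      exact mem_centralizer_singleton_iff.1 (this hx)
    by_cases hall : ∀ d ∈ D, d ∈ Zc
    · exact fun a ha b hb => hZcent a (hall a ha) b hb
    push Not at hall
    obtain ⟨d0, hd0, hd0Z⟩ := hall
    have h1 : Nat.card R ∣ Nat.card Zc := card_dvd_of_le le_sup_left
    have h3 : Nat.card R < Nat.card Zc := by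
      refine lt_of_le_of_ne (card_le_of_le le_sup_left) fun e => hzR ?_
      rw [eq_of_le_of_card_ge (le_sup_left : R ≤ Zc) e.ge]
      exact mem_sup_right (mem_zpowers z)
    let Zd : Subgroup G := Zc ⊔ zpowers d0
    have hdle : Zd ≤ D := sup_le hZle (zpowers_le.2 hd0)
    have h4 : Nat.card Zc ∣ Nat.card Zd := card_dvd_of_le le_sup_left
    have h5 : Nat.card Zc < Nat.card Zd := by
      refine lt_of_le_of_ne (card_le_of_le le_sup_left) fun e => hd0Z ?_
      rw [eq_of_le_of_card_ge (le_sup_left : Zc ≤ Zd) e.ge]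
      exact mem_sup_right (mem_zpowers d0)
    have h6 := Nat.le_of_dvd Nat.card_pos (card_dvd_of_le hdle)
    rw [hR] at h1 h3
    rw [hD] at h6
    have h7 : Zd = D := by
      refine eq_of_le_of_card_ge hdle ?_
      rw [hD]
      obtain ⟨i, hi⟩ := h1
      obtain ⟨j, hj⟩ := h4
      have hi2 : 2 ≤ i := by omega
      have hj2 : 2 ≤ j := by
        by_contra hj2
        interval_cases j <;> omega
      nlinarith
    have hpair : ∀ x ∈ Zd, x * d0 = d0 * x := by
      intro x hx
      have : Zd ≤ centralizer ({d0} : Set G) := sup_le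
        (fun y hy => mem_centralizer_singleton_iff.2 (hZcent y hy d0 hd0))
        (zpowers_le.2 (mem_centralizer_singleton_iff.2 rfl))
      exact mem_centralizer_singleton_iff.1 (this hx)
    intro a ha b hb
    have : Zd ≤ centralizer ({a} : Set G) := sup_le
      (fun y hy => mem_centralizer_singleton_iff.2 (hZcent y hy a ha))
      (zpowers_le.2 (mem_centralizer_singleton_iff.2 (hpair a (h7 ▸ ha)).symm))
    exact (mem_centralizer_singleton_iff.1 (this (h7 ▸ hb))).symm
  have differ : ∀ {p q : G}, p ∈ Q → q ∈ Q → p ∈ D → q ∈ D → IsOuter t Q (s * p) →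
      IsOuter t Q (s * q) → cen X (s * p) ≤ D → cen X (s * p) = cen X (s * q) →
      Nat.card (cen X (s * p)) = 32 → p⁻¹ * q ∈ R := by
    intro p q hp hq hpD hqD hop hoq hle heq hc32
    refine centralD _ (mul_mem (inv_mem hpD) hqD) fun d hd => ?_
    -- `d` acts on the two translates in the same way
    have cP : ∀ {u : G}, IsOuter t Q (s * u) → u ∈ Q →
        (d ∈ cen X (s * u) ↔ d * (s * u) * d⁻¹ = s * u) := by
      intro u _ _
      constructor
      · intro h
        rw [mem_centralizer_singleton_iff.1 h.2, mul_inv_cancel_right]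
      · intro h
        exact ⟨hd.1, mem_centralizer_singleton_iff.2 (mul_inv_eq_iff_eq_mul.1 h)⟩
    have val : ∀ {u : G}, u ∈ Q → ∃ c : G, (c = 1 ∨ c = t) ∧ d * (s * u) * d⁻¹ = s * u * c := by
      intro u hu
      have h1 : d * s * d⁻¹ = s * l s d := l_spec hss d
      rcases X.setup.comm d hd.1 u hu with h | h
      · refine ⟨l s d, hd.2, ?_⟩
        have hlu : l s d * u = u * l s d := by
          rcases hd.2 with e | e <;> rw [e]
          · simp
          · exact t_comm X hu
        calc d * (s * u) * d⁻¹ = (d * s * d⁻¹) * (d * u * d⁻¹) := by group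
          _ = s * l s d * u := by rw [h1, h, mul_inv_cancel_right]
          _ = s * u * l s d := by rw [mul_assoc s, hlu, ← mul_assoc]
      · refine ⟨l s d * t, ?_, ?_⟩
        · rcases hd.2 with e | e <;> rw [e]
          · right; rw [one_mul]
          · left; exact tt X
        have hlu : l s d * u = u * l s d := by
          rcases hd.2 with e | e <;> rw [e]
          · simp
          · exact t_comm X hu
        calc d * (s * u) * d⁻¹ = (d * s * d⁻¹) * (d * u * d⁻¹) := by group
          _ = s * l s d * (u * t) := by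
              rw [h1, h, mul_assoc u d t, ← t_comm X hd.1, ← mul_assoc u t d,
                mul_inv_cancel_right]
          _ = s * (l s d * u) * t := by group
          _ = s * u * (l s d * t) := by rw [hlu]; group
    obtain ⟨cp, hcp, ep⟩ := val hp
    obtain ⟨cq, hcq, eq'⟩ := val hq
    have hiff : cp = 1 ↔ cq = 1 := by
      have h1 := cP hop hp
      have h2 := cP hoq hq
      rw [ep] at h1
      rw [eq'] at h2
      rw [heq] at h1
      simpa using h1.symm.trans h2
    have hcc : cp = cq := by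
      rcases hcp with a | a <;> rcases hcq with b | b
      · rw [a, b]
      · exact absurd (hiff.1 a) (b ▸ t_ne X)
      · exact absurd (hiff.2 b) (a ▸ t_ne X)
      · rw [a, b]
    have hcom : ∀ x ∈ Q, cp * x = x * cp := fun x hx => by
      rcases hcp with a | a <;> rw [a]
      · simp
      · exact t_comm X hx
    have hinv : (s * p)⁻¹ = p⁻¹ * s := by rw [mul_inv_rev, IsOuter.inv X hs]
    have e : d * (p⁻¹ * q) * d⁻¹ = p⁻¹ * q := by
      calc d * (p⁻¹ * q) * d⁻¹ = (d * (s * p) * d⁻¹)⁻¹ * (d * (s * q) * d⁻¹) := by group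
        _ = cp⁻¹ * (p⁻¹ * q) * cp := by rw [ep, eq', ← hcc]; group
        _ = p⁻¹ * q := by
            rw [mul_assoc cp⁻¹, ← hcom _ (mul_mem (inv_mem hp) hq), inv_mul_cancel_left]
    exact (mul_inv_eq_iff_eq_mul.1 e).symm
  have d01 : cen X s ≠ cen X (s * q₁) := fun e => hq10 (by
    have h := differ (p := 1) (q := q₁) (one_mem Q) hq₁ (one_mem D) hq₁n hs1 h₁
      (by rwa [mul_one]) (by rwa [mul_one]) (by rwa [mul_one])
    rwa [inv_one, one_mul] at h)
  have d02 : cen X s ≠ cen X (s * q₂) := fun e => hq20 (by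
    have h := differ (p := 1) (q := q₂) (one_mem Q) hq₂ (one_mem D) hq₂n hs1 h₂
      (by rwa [mul_one]) (by rwa [mul_one]) (by rwa [mul_one])
    rwa [inv_one, one_mul] at h)
  have d12 : cen X (s * q₁) ≠ cen X (s * q₂) := fun e => by
    have h := differ hq₁ hq₂ hq₁n hq₂n h₁ h₂ L1 e c1
    refine n₁₂ ?_
    -- the translated commutator sets agree
    have hsub : rng X s ⊆ rng X (s * q₁) := by
      intro x hx
      have hxQ : x ∈ Q := by obtain ⟨p, hp, rfl⟩ := hx; exact l_mem X hs hp
      obtain ⟨p, hp, rfl⟩ := hx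
      have hpc : p * q₁ * p⁻¹ = q₁ ∨ p * q₁ * p⁻¹ = q₁ * t := by
        rcases X.setup.comm p hp q₁ hq₁ with a | a
        · left; rw [a, mul_inv_cancel_right]
        · right
          rw [a, mul_assoc q₁ p t, ← t_comm X hp, ← mul_assoc, mul_inv_cancel_right]
      have hq₁c := rng_comm_near X hs hq₁n ⟨p, hp, rfl⟩
      have hval : ∀ u, u ∈ Q → l (s * q₁) u = q₁⁻¹ * (s * (u * s * u⁻¹)) * (u * q₁ * u⁻¹) := by
        intro u _
        simp only [l]
        calc s * q₁ * u * (s * q₁) * u⁻¹ = (s * q₁)⁻¹ * (u * (s * q₁) * u⁻¹) := by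
              rw [IsOuter.inv X h₁]; group
          _ = q₁⁻¹ * (s⁻¹ * (u * s * u⁻¹)) * (u * q₁ * u⁻¹) := by group
          _ = _ := by rw [IsOuter.inv X hs]
      rcases hpc with a | a
      · refine ⟨p, hp, ?_⟩
        rw [hval p hp, a]
        calc q₁⁻¹ * (s * (p * s * p⁻¹)) * q₁ = q₁⁻¹ * (l s p * q₁) := by simp only [l]; group
          _ = l s p := by rw [← hq₁c, inv_mul_cancel_left]
      · -- correct by an element of the centraliser of `s` not centralising `q₁`
        obtain ⟨w, hw, hwq⟩ : ∃ w ∈ Q, l (s * q₁) w = t := by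
          by_contra hno
          push Not at hno
          have : D ≤ cen X (s * q₁) := by
            intro d hd
            refine (mem_cen_iff X h₁).2 ⟨hd.1, ?_⟩
            have h1 : l (s * q₁) d = q₁⁻¹ * l s d * (d * q₁ * d⁻¹) := by
              rw [hval d hd.1, l]; group
            rcases X.setup.comm d hd.1 q₁ hq₁ with b | b <;> rcases hd.2 with b' | b'
            · rw [h1, b', b]; group
            · exact absurd (by
                rw [h1, b', b, mul_inv_cancel_right, mul_assoc, t_comm X hq₁,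
                  inv_mul_cancel_left]) (hno d hd.1)
            · exact absurd (by
                rw [h1, b', b, mul_one, mul_assoc q₁ d t, ← t_comm X hd.1,
                  ← mul_assoc q₁ t d, mul_inv_cancel_right, inv_mul_cancel_left]) (hno d hd.1)
            · rw [h1, b', b, mul_assoc q₁ d t, ← t_comm X hd.1, ← mul_assoc q₁ t d,
                mul_inv_cancel_right, mul_assoc q₁⁻¹ t, ← mul_assoc t q₁, t_comm X hq₁,
                mul_assoc q₁ t t, tt X, mul_one, inv_mul_cancel]
          have := card_le_of_le this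
          omega
        refine ⟨p * w, mul_mem hp hw, ?_⟩
        rw [l_mul X h₁, hwq, ← t_comm X hp, mul_inv_cancel_right, hval p hp, a]
        calc q₁⁻¹ * (s * (p * s * p⁻¹)) * (q₁ * t) * t
            = q₁⁻¹ * (l s p * q₁) * (t * t) := by simp only [l]; group
          _ = l s p := by rw [← hq₁c, inv_mul_cancel_left, tt X, mul_one]
    exact hsub h
  -- `D` is the union of the three, hence of exponent two
  have R0 := cb L0 c0 (abel hs)
  have R1 := cb L1 c1 (abel h₁)
  have R2 := cb L2 c2 (abel h₂)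
  have hun : ∀ {W V : Subgroup G}, W ≤ D → V ≤ D → Nat.card W = 32 → Nat.card V = 32 →
      R ≤ W → R ≤ V → W ≠ V → (W : Set G) ∩ V = R := by
    intro W V hW _ hWc hVc hRW hRV hne
    have hlt : Nat.card (W ⊓ V : Subgroup G) < 32 := by
      refine lt_of_le_of_ne (hWc ▸ card_le_of_le inf_le_left) fun e => hne ?_
      exact le_antisymm
        ((eq_of_le_of_card_ge (inf_le_left : W ⊓ V ≤ W) (by omega)).ge.trans inf_le_right)
        ((eq_of_le_of_card_ge (inf_le_right : W ⊓ V ≤ V) (by omega)).ge.trans inf_le_left)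
    obtain ⟨k, hk⟩ := card_dvd_of_le (le_inf hRW hRV : R ≤ W ⊓ V)
    rw [hR] at hk
    have hpos : 0 < Nat.card (W ⊓ V : Subgroup G) := Nat.card_pos
    have h16 : Nat.card (W ⊓ V : Subgroup G) ≤ Nat.card R := by rw [hR]; omega
    rw [← Subgroup.coe_inf, eq_of_le_of_card_ge (le_inf hRW hRV) h16]
  have i01 := hun L0 L1 c0 c1 R0 R1 d01
  have i02 := hun L0 L2 c0 c2 R0 R2 d02
  have i12 := hun L1 L2 c1 c2 R1 R2 d12
  have hcover : (D : Set G) = (cen X s : Set G) ∪ cen X (s * q₁) ∪ cen X (s * q₂) := by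
    refine (Set.eq_of_subset_of_ncard_le ?_ ?_ (Set.toFinite _)).symm
    · exact Set.union_subset (Set.union_subset L0 L1) L2
    · have e1 := Set.ncard_union_add_ncard_inter (cen X s : Set G) (cen X (s * q₁) : Set G)
      rw [i01] at e1
      have e2 := Set.ncard_union_add_ncard_inter
        ((cen X s : Set G) ∪ cen X (s * q₁)) (cen X (s * q₂) : Set G)
      rw [Set.union_inter_distrib_right, i02, i12, Set.union_self] at e2
      have n0 : ∀ H : Subgroup G, Set.ncard (H : Set G) = Nat.card H := fun H =>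
        (Nat.card_coe_set_eq _).symm
      rw [n0, n0, n0, hR] at e1
      rw [n0, n0, hR] at e2
      rw [n0, hD]
      omega
  have hexp : ∀ d ∈ D, d * d = 1 := by
    intro d hd
    have : d ∈ (cen X s : Set G) ∪ cen X (s * q₁) ∪ cen X (s * q₂) := hcover ▸ hd
    rcases this with (h | h) | h
    · exact sq_cent X hs h.1 (mem_centralizer_singleton_iff.1 h.2)
    · exact sq_cent X h₁ h.1 (mem_centralizer_singleton_iff.1 h.2)
    · exact sq_cent X h₂ h.1 (mem_centralizer_singleton_iff.1 h.2)
  refine hnab fun a ha b hb => ?_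
  have h3 := hexp _ (mul_mem ha hb)
  calc a * b = a * (a * b * (a * b)) * b := by rw [h3, mul_one]
    _ = (a * a) * (b * a) * (b * b) := by group
    _ = b * a := by rw [hexp a ha, hexp b hb, one_mul, mul_one]

/-- An element of order three normalising the coset is adjusted to centralise. -/
theorem exists_lift {s y : G} (hs : IsOuter t Q s) (hy : y ∈ centralizer ({t} : Set G))
    (hy3 : y * y * y ∈ Q) (hys : s * (y * s * y⁻¹) ∈ Q) :
    ∃ q ∈ Q, (q⁻¹ * y) * s = s * (q⁻¹ * y) := by
  have hinv := IsOuter.inv X hs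
  by_cases h1 : s * (y * s * y⁻¹) ∈ rng X s
  · obtain ⟨q, hq, e⟩ := h1
    refine ⟨q, hq, ?_⟩
    simp only [l] at e
    have e' : q * s * q⁻¹ = y * s * y⁻¹ := mul_left_cancel
      (a := s) (by rw [← e]; group)
    calc q⁻¹ * y * s = q⁻¹ * (y * s * y⁻¹) * y := by group
      _ = s * (q⁻¹ * y) := by rw [← e']; group
  exfalso
  have outer_conj : ∀ {u : G}, IsOuter t Q u → IsOuter t Q (y * u * y⁻¹) := fun {u} hu =>
    ⟨hu.1.trans (isConj_iff.2 ⟨y, rfl⟩), mul_mem (mul_mem hy hu.2.1) (inv_mem hy), fun hm => hu.2.2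
      (by
        have := mem_Q_conj X (inv_mem hy) hm
        rwa [inv_inv, show y⁻¹ * (y * u * y⁻¹) * y = u by group] at this)⟩
  set q₁ := s * (y * s * y⁻¹) with hq₁
  set q₂ := s * (y * (y * s * y⁻¹) * y⁻¹) with hq₂
  have hq₂Q : q₂ ∈ Q := by
    have h := mem_Q_conj X hy hys
    have e : q₂ = s * (y * s * y⁻¹) * (y * (s * (y * s * y⁻¹)) * y⁻¹) := by
      rw [hq₂]
      calc s * (y * (y * s * y⁻¹) * y⁻¹) = s * y * (s * s) * (y * s * y⁻¹) * y⁻¹ := by
            rw [IsOuter.sq X hs]; group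
        _ = _ := by group
    rw [e]
    exact mul_mem hys h
  have e₁ : s * q₁ = y * s * y⁻¹ := by rw [hq₁, ← mul_assoc, IsOuter.sq X hs, one_mul]
  have e₂ : s * q₂ = y * (y * s * y⁻¹) * y⁻¹ := by
    rw [hq₂, ← mul_assoc, IsOuter.sq X hs, one_mul]
  refine no_three X hs hys hq₂Q (e₁ ▸ outer_conj hs) (e₂ ▸ outer_conj (outer_conj hs)) h1 ?_ ?_
  · rintro ⟨q, hq, e⟩
    refine h1 ?_
    have e' : q * s * q⁻¹ = y * (y * s * y⁻¹) * y⁻¹ := by
      rw [l_spec (IsOuter.sq X hs), ← e₂]; simp only [l] at e; rw [e]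
    -- conjugate once more by `y`
    set p := y * q * y⁻¹ with hp
    have hpQ : p ∈ Q := mem_Q_conj X hy hq
    refine ⟨p⁻¹ * (y * y * y), mul_mem (inv_mem hpQ) hy3, ?_⟩
    simp only [l]
    have : p⁻¹ * (y * y * y) * s * (p⁻¹ * (y * y * y))⁻¹ = y * s * y⁻¹ := by
      calc p⁻¹ * (y * y * y) * s * (p⁻¹ * (y * y * y))⁻¹
          = p⁻¹ * (y * (y * (y * s * y⁻¹) * y⁻¹) * y⁻¹) * p := by group
        _ = y * s * y⁻¹ := by rw [← e', hp]; group
    calc s * (p⁻¹ * (y * y * y)) * s * (p⁻¹ * (y * y * y))⁻¹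
        = s * (p⁻¹ * (y * y * y) * s * (p⁻¹ * (y * y * y))⁻¹) := by group
      _ = s * (y * s * y⁻¹) := by rw [this]
  · rintro ⟨q, hq, e⟩
    refine h1 ⟨y⁻¹ * q * y, ?_, ?_⟩
    · have := mem_Q_conj X (inv_mem hy) hq
      rwa [inv_inv] at this
    simp only [l] at e ⊢
    have hq' : q * (y * s * y⁻¹) * q⁻¹ = y * (y * s * y⁻¹) * y⁻¹ := by
      have e4 := l_spec (IsOuter.sq X (outer_conj hs)) q
      rw [← e₁] at e4 ⊢
      rw [e4, e, e₁, ← e₂, ← mul_assoc, ← e₁, mul_inv_cancel_left q₁ q₂ |>.symm]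
      group
    calc s * (y⁻¹ * q * y) * s * (y⁻¹ * q * y)⁻¹
        = s * (y⁻¹ * (q * (y * s * y⁻¹) * q⁻¹) * y) := by group
      _ = s * (y * s * y⁻¹) := by rw [hq']; group

end CfsgLib.DFour.Isolated
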