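import Cfsg.Agent.Lib.DFour.Defs
import Cfsg.Agent.Lib.DFour.Isolated

/-!
# Piece `IsolatedStmt` of statement S3345
-/

set_option autoImplicit false

namespace CfsgLib.DFour

open Subgroup

universe u

/-- The three coordinates as a triple. -/
def tripHom : (Fin 3 → Equiv.Perm (Fin 3)) →* Isolated.Trip where
  toFun f := (f 0, f 1, f 2)
  map_one' := rfl
  map_mul' _ _ := rfl

theorem tripHom_surjective : Function.Surjective tripHom := fun ⟨a, b, c⟩ =>
  ⟨![a, b, c], rfl⟩

theorem tripHom_eq_one {f : Fin 3 → Equiv.Perm (Fin 3)} : tripHom f = 1 ↔ f = 1 := by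
  refine ⟨fun h => funext fun i => ?_, fun h => by rw [h, map_one]⟩
  obtain ⟨h0, h1, h2⟩ : f 0 = 1 ∧ f 1 = 1 ∧ f 2 = 1 := by
    simpa [tripHom, Prod.ext_iff] using h
  fin_cases i <;> simp_all

/-- A weakly closed involution of the core is isolated. -/
theorem isolated : IsolatedStmt.{u} := by
  intro G _ _ t S hcl
  have hsetup : CfsgLib.Involutions.ExtraTransfer.Setup t S.Q :=
    { hz := S.invol
      le := S.Q_le
      nor := S.normal
      two := IsPGroup.of_card (n := 9) S.Q_card
      mem := S.t_mem
      cen := S.center
      comm := fun e he f hf => by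
        have hte : ∀ a ∈ S.Q, t * a = a * t := fun a ha =>
          (Subgroup.mem_centralizer_singleton_iff.1 (S.Q_le ha)).symm
        rcases S.comm e he f hf with h | h
        · left
          calc e * f = e * f * e⁻¹ * f⁻¹ * (f * e) := by group
            _ = f * e := by rw [h, one_mul]
        · right
          calc e * f = e * f * e⁻¹ * f⁻¹ * (f * e) := by group
            _ = t * (f * e) := by rw [h]
            _ = f * e * t := by rw [hte _ (mul_mem hf he)]
      sq := S.sq
      self := S.self }
  have X : Isolated.Hyp t S.Q (tripHom.comp S.φ) :=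
    { setup := hsetup
      card := by rw [S.Q_card]; norm_num
      surj := tripHom_surjective.comp S.surj
      ker := fun c => by rw [MonoidHom.comp_apply, tripHom_eq_one, S.ker]
      closed := hcl }
  refine ⟨S.invol, fun g hg => Isolated.isolated X ?_⟩
  exact Subgroup.mem_centralizer_singleton_iff.2 hg.eq.symm

end CfsgLib.DFour
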