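import Mathlib

/-!
# The module of `S₃ × S₃ × S₃` on eight dimensions (S3345)

If three commuting copies of `S₃` act on an elementary abelian group of order `256` and the vector
`u` is fixed by the three flips, lies in the image of `τ - 1` for each flip `τ`, and is moved by
each element of order three, then each element of order three is fixed point free.
-/

set_option autoImplicit false
set_option linter.unusedSectionVars false

namespace CfsgLib.DFour.LocalModule

/-- Three commuting actions of `S₃`, given by the generators. -/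
structure Act (A : Type*) [AddCommGroup A] where
  p : Fin 3 → A →+ A
  τ : Fin 3 → A →+ A
  two : ∀ x : A, x + x = 0
  cube : ∀ i x, p i (p i (p i x)) = x
  flip : ∀ i x, τ i (p i x) = p i (p i (τ i x))
  pp : ∀ i j x, i ≠ j → p i (p j x) = p j (p i x)
  tp : ∀ i j x, i ≠ j → τ i (p j x) = p j (τ i x)

variable {A : Type*} [AddCommGroup A] [Finite A] (S : Act A)

/-- The projection to the part moved by `p i`. -/
def e (i : Fin 3) : A →+ A := S.p i + (S.p i).comp (S.p i)

theorem e_apply (i : Fin 3) (x : A) : e S i x = S.p i x + S.p i (S.p i x) := rfl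

theorem eq_of_add {x y : A} (S : Act A) (h : x + y = 0) : x = y :=
  (eq_neg_of_add_eq_zero_left h).trans (eq_neg_of_add_eq_zero_left (S.two y)).symm

theorem e_idem (i : Fin 3) (x : A) : e S i (e S i x) = e S i x := by
  simp only [e_apply, map_add, S.cube]
  calc S.p i (S.p i x) + x + (x + S.p i x) = S.p i x + S.p i (S.p i x) + (x + x) := by abel
    _ = S.p i x + S.p i (S.p i x) := by rw [S.two, add_zero]

theorem p_e (i : Fin 3) {x : A} (hx : e S i x = x) : S.p i (S.p i x) = S.p i x + x := by
  refine eq_of_add S ?_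
  have h : e S i x + x = 0 := by rw [hx]; exact S.two x
  rw [← h, e_apply]
  abel

theorem e_p (i : Fin 3) (x : A) : e S i (S.p i x) = S.p i (e S i x) := by
  rw [e_apply, e_apply, map_add]

theorem e_p' {i j : Fin 3} (h : i ≠ j) (x : A) : e S i (S.p j x) = S.p j (e S i x) := by
  rw [e_apply, e_apply, map_add, S.pp i j x h, S.pp i j _ h]

theorem e_e (i j : Fin 3) (x : A) : e S i (e S j x) = e S j (e S i x) := by
  rcases eq_or_ne i j with rfl | h
  · rfl
  · rw [e_apply S j x, map_add, e_p' S h, e_p' S h, e_p' S h, e_apply S j (e S i x)]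

theorem τ_e (i j : Fin 3) (x : A) : S.τ i (e S j x) = e S j (S.τ i x) := by
  rw [e_apply, e_apply, map_add]
  rcases eq_or_ne i j with rfl | h
  · rw [S.flip, S.flip, S.flip, S.cube, add_comm]
  · rw [S.tp i j x h, S.tp i j _ h, S.tp i j x h]

theorem fix_of_e_eq_zero (i : Fin 3) {x : A} (h : e S i x = 0) : S.p i x = x := by
  have h1 : S.p i x = S.p i (S.p i x) := eq_of_add S h
  have h2 := congrArg (S.p i) h1
  rw [S.cube] at h2
  rw [h1, h2]

/-- A subgroup killed by `D` and contained in its image squares the order. -/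
theorem double (D : A →+ A) (X B : AddSubgroup A) (hXB : X ≤ B) (h0 : ∀ x ∈ X, D x = 0)
    (him : ∀ x ∈ X, ∃ y ∈ B, D y = x) : Nat.card X * Nat.card X ≤ Nat.card B := by
  set g : B →+ A := D.comp B.subtype with hg
  rw [← g.ker.card_mul_index, AddSubgroup.index_ker]
  refine Nat.mul_le_mul ?_ ?_
  · refine Nat.card_le_card_of_injective
      (fun x : X => (⟨⟨x, hXB x.2⟩, h0 x x.2⟩ : g.ker)) fun a b h => ?_
    exact Subtype.ext (congrArg (fun y : g.ker => ((y : B) : A)) h)
  · refine Nat.card_le_card_of_injective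
      (fun x : X => (⟨x, ?_⟩ : g.range)) fun a b h => ?_
    · obtain ⟨y, hy, hyx⟩ := him x x.2
      exact ⟨⟨y, hy⟩, hyx⟩
    · exact Subtype.ext (congrArg (fun y : g.range => (y : A)) h)

/-- `τ i - 1`. -/
def d (i : Fin 3) : A →+ A := S.τ i + AddMonoidHom.id A

theorem d_apply (i : Fin 3) (x : A) : d S i x = S.τ i x + x := rfl

theorem d_eq_zero (i : Fin 3) (x : A) : d S i x = 0 ↔ S.τ i x = x := by
  rw [d_apply]
  exact ⟨eq_of_add S, fun h => by rw [h]; exact S.two x⟩

/-- Adjoining the translates under `p i` squares the order. -/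
theorem grow (i : Fin 3) (X : AddSubgroup A) (hτ : ∀ x ∈ X, S.τ i x = x)
    (he : ∀ x ∈ X, e S i x = x) :
    Nat.card X * Nat.card X ≤ Nat.card (X ⊔ X.map (S.p i) : AddSubgroup A) := by
  refine double (d S i) X _ le_sup_left (fun x hx => (d_eq_zero S i x).2 (hτ x hx)) fun x hx =>
    ⟨S.p i x, AddSubgroup.mem_sup_right ⟨x, hx, rfl⟩, ?_⟩
  rw [d_apply, S.flip, hτ x hx, p_e S i (he x hx)]
  calc S.p i x + x + S.p i x = x + (S.p i x + S.p i x) := by abel
    _ = x := by rw [S.two, add_zero]

theorem sup_fix (f : A →+ A) (i : Fin 3) (X : AddSubgroup A) (hX : ∀ x ∈ X, f x = x)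
    (hc : ∀ x, f (S.p i x) = S.p i (f x)) : ∀ x ∈ X ⊔ X.map (S.p i), f x = x := by
  intro x hx
  obtain ⟨a, ha, b, ⟨c, hcX, rfl⟩, rfl⟩ := AddSubgroup.mem_sup.1 hx
  rw [map_add, hX a ha, hc, hX c hcX]

theorem two_le_card {w : A} (hw : w ≠ 0) : 2 ≤ Nat.card (AddSubgroup.zmultiples w) := by
  have : Nontrivial (AddSubgroup.zmultiples w) :=
    ⟨⟨⟨w, AddSubgroup.mem_zmultiples w⟩, 0, fun h => hw (congrArg Subtype.val h)⟩⟩
  exact Finite.one_lt_card

theorem fix_zmultiples (f : A →+ A) {w : A} (hw : f w = w) :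
    ∀ x ∈ AddSubgroup.zmultiples w, f x = x := by
  rintro _ ⟨n, rfl⟩
  show f (n • w) = n • w
  rw [map_zsmul, hw]

theorem sup_le_range (f : A →+ A) (X : AddSubgroup A) (h : ∀ x ∈ X, f x = x) : X ≤ f.range :=
  fun x hx => ⟨x, h x hx⟩

/-- The elements of order three are fixed point free. -/
theorem fpf (hA : Nat.card A = 256) {u : A} (hu : ∀ i, S.τ i u = u)
    (him : ∀ i, ∃ v, S.τ i v = v + u) (hmove : ∀ i, S.p i u ≠ u) :
    ∀ i x, S.p i x = x → x = 0 := by
  have hed : ∀ i j x, d S i (e S j x) = e S j (d S i x) := fun i j x => by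
    rw [d_apply, d_apply, τ_e, map_add]
  have hcov : ∀ i, ∃ v, d S i v = u := fun i => by
    obtain ⟨v, hv⟩ := him i
    exact ⟨v, by rw [d_apply, hv]; calc v + u + v = u + (v + v) := by abel
                                      _ = u := by rw [S.two, add_zero]⟩
  set f : A →+ A := (e S 0).comp ((e S 1).comp (e S 2)) with hf
  by_cases h0 : f u = 0
  · exfalso
    -- a pair of coordinates
    have hpair : ∀ i j k : Fin 3, i ≠ j → i ≠ k → j ≠ k → e S i (e S j (e S k u)) = 0 →
        e S i (e S j u) = 0 := by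
      intro i j k hij hik hjk h3
      by_contra hw
      set w := e S i (e S j u) with hwdef
      set g : A →+ A := (e S i).comp (e S j) with hg
      have hgw : g w = w := by
        show e S i (e S j (e S i (e S j u))) = e S i (e S j u)
        rw [e_e S j i, e_idem, e_idem]
      have hτw : ∀ l, S.τ l w = w := fun l => by rw [hwdef, τ_e, τ_e, hu]
      have hew : e S i w = w ∧ e S j w = w := ⟨e_idem S i _, by
        rw [hwdef, e_e S j i, e_idem]⟩
      set X := AddSubgroup.zmultiples w with hXdef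
      set X1 := X ⊔ X.map (S.p i) with hX1
      set X2 := X1 ⊔ X1.map (S.p j) with hX2
      have c1 : 4 ≤ Nat.card X1 := le_trans (Nat.mul_le_mul (two_le_card hw) (two_le_card hw))
        (grow S i X (fix_zmultiples _ (hτw i)) (fix_zmultiples _ hew.1))
      have f1 : ∀ l, l ≠ i → ∀ x ∈ X1, S.τ l x = x := fun l hl =>
        sup_fix S _ i X (fix_zmultiples _ (hτw l)) fun x => S.tp l i x hl
      have c2 : 16 ≤ Nat.card X2 := le_trans (Nat.mul_le_mul c1 c1)
        (grow S j X1 (f1 j hij.symm)
          (sup_fix S _ i X (fix_zmultiples _ hew.2) fun x => e_p' S hij.symm x))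
      have f2 : ∀ x ∈ X2, S.τ k x = x :=
        sup_fix S _ j X1 (f1 k hik.symm) fun x => S.tp k j x hjk.symm
      have g2 : ∀ x ∈ X2, g x = x := by
        refine sup_fix S _ j X1 (sup_fix S _ i X (fix_zmultiples _ hgw) fun x => ?_) fun x => ?_
        · show e S i (e S j (S.p i x)) = S.p i (e S i (e S j x))
          rw [e_p' S hij.symm, e_p]
        · show e S i (e S j (S.p j x)) = S.p j (e S i (e S j x))
          rw [e_p, e_p' S hij]
      obtain ⟨v, hv⟩ := hcov k
      have hY : ∀ x ∈ X2, x ∈ g.range.map (d S k) := by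
        suffices h : X2 ≤ g.range.map (d S k) from fun x hx => h hx
        have hinv : ∀ l, l ≠ k → ∀ x ∈ g.range.map (d S k), S.p l x ∈ g.range.map (d S k) := by
          rintro l hl _ ⟨_, ⟨y, rfl⟩, rfl⟩
          refine ⟨g (S.p l y), ⟨_, rfl⟩, ?_⟩
          have hgp : g (S.p l y) = S.p l (g y) := by
            show e S i (e S j (S.p l y)) = S.p l (e S i (e S j y))
            rcases eq_or_ne j l with rfl | h
            · rw [e_p, e_p' S hij]
            · rw [e_p' S h]
              rcases eq_or_ne i l with rfl | h'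
              · rw [e_p]
              · rw [e_p' S h']
          rw [hgp, d_apply, d_apply, S.tp k l _ hl.symm, map_add]
        have hX : X ≤ g.range.map (d S k) := by
          rw [hXdef, AddSubgroup.zmultiples_le]
          exact ⟨g v, ⟨v, rfl⟩, by show d S k (e S i (e S j v)) = w; rw [hed, hed, hv]⟩
        have hX1le : X1 ≤ g.range.map (d S k) := sup_le hX (by
          rintro _ ⟨x, hx, rfl⟩; exact hinv i hik _ (hX hx))
        exact sup_le hX1le (by rintro _ ⟨x, hx, rfl⟩; exact hinv j hjk _ (hX1le hx))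
      have hbig : 256 ≤ Nat.card g.range :=
        le_trans (Nat.mul_le_mul c2 c2) (double (d S k) X2 g.range (sup_le_range g X2 g2)
          (fun x hx => (d_eq_zero S k x).2 (f2 x hx)) fun x hx => by
            obtain ⟨y, hy, hyx⟩ := hY x hx
            exact ⟨y, hy, hyx⟩)
      have htop : g.range = ⊤ := AddSubgroup.eq_top_of_le_card _ (by rw [hA]; exact hbig)
      obtain ⟨y, hy⟩ : e S k u ∈ g.range := htop ▸ AddSubgroup.mem_top _
      have hgk : g (e S k u) = 0 := h3
      rw [← hy] at hgk
      have hgy : g (g y) = g y := by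
        show e S i (e S j (e S i (e S j y))) = e S i (e S j y)
        rw [e_e S j i, e_idem, e_idem]
      rw [hgy] at hgk
      exact hmove k (fix_of_e_eq_zero S k (hy ▸ hgk))
    have h3 : e S 0 (e S 1 (e S 2 u)) = 0 := h0
    have h01 := hpair 0 1 2 (by decide) (by decide) (by decide) h3
    have h02 := hpair 0 2 1 (by decide) (by decide) (by decide) (by rw [e_e S 2 1]; exact h3)
    have h12 := hpair 1 2 0 (by decide) (by decide) (by decide) (by
      rw [e_e S 2 0, e_e S 1 0]; exact h3)
    have h0' : ∀ a b : Fin 3, a ≠ b → e S a (e S b u) = 0 := by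
      intro a b hab
      fin_cases a <;> fin_cases b
      · exact absurd rfl hab
      · exact h01
      · exact h02
      · show e S 1 (e S 0 u) = 0
        rw [e_e]; exact h01
      · exact absurd rfl hab
      · exact h12
      · show e S 2 (e S 0 u) = 0
        rw [e_e]; exact h02
      · show e S 2 (e S 1 u) = 0
        rw [e_e]; exact h12
      · exact absurd rfl hab
    -- three single coordinates: the parts moved by exactly one of them
    let n : Fin 3 → A →+ A := fun i => e S i + AddMonoidHom.id A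
    let P : Fin 3 → A →+ A := fun i => (e S i).comp ((n (i + 1)).comp (n (i + 2)))
    have hn : ∀ i x, n i x = e S i x + x := fun i x => rfl
    have hen : ∀ i j x, e S i (n j x) = n j (e S i x) := fun i j x => by
      rw [hn, hn, map_add, e_e]
    have hnn : ∀ i x, n i (n i x) = n i x := fun i x => by
      rw [hn, hn, map_add, e_idem]
      calc e S i x + e S i x + (e S i x + x) = e S i x + x + (e S i x + e S i x) := by abel
        _ = e S i x + x := by rw [S.two, add_zero]
    have hne : ∀ i x, e S i (n i x) = 0 := fun i x => by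
      rw [hn, map_add, e_idem, S.two]
    have hP : ∀ i x, P i x = e S i (n (i + 1) (n (i + 2) x)) := fun i x => rfl
    have hlow : ∀ i, 16 ≤ Nat.card (P i).range := by
      intro i
      set b := e S i u with hb
      have hb0 : b ≠ 0 := fun h => hmove i (fix_of_e_eq_zero S i h)
      have hbP : P i b = b := by
        rw [hP, hb, hn (i + 2), h0' (i + 2) i (by fin_cases i <;> decide), zero_add, hn (i + 1),
          h0' (i + 1) i (by fin_cases i <;> decide), zero_add, e_idem]
      have hτb : ∀ l, S.τ l b = b := fun l => by rw [hb, τ_e, hu]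
      set X := AddSubgroup.zmultiples b with hXdef
      set X1 := X ⊔ X.map (S.p i) with hX1
      have c1 : 4 ≤ Nat.card X1 := le_trans (Nat.mul_le_mul (two_le_card hb0) (two_le_card hb0))
        (grow S i X (fix_zmultiples _ (hτb i)) (fix_zmultiples _ (e_idem S i u)))
      set k := i + 1 with hk
      have hki : k ≠ i := by fin_cases i <;> decide
      have hPp : ∀ x, P i (S.p i x) = S.p i (P i x) := fun x => by
        rw [hP, hP, hn, hn, e_p' S (by fin_cases i <;> decide : (i + 2) ≠ i), ← map_add,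
          e_p' S hki, ← map_add, e_p]
        rfl
      have hdP : ∀ x, d S k (P i x) = P i (d S k x) := fun x => by
        simp only [hP, hn, map_add, hed]
      obtain ⟨v, hv⟩ := hcov k
      have hPu : P i u = b := by
        rw [← hbP, hb, hP, hP, ← hen i (i + 2), ← hen i (i + 1), e_idem]
      refine le_trans (Nat.mul_le_mul c1 c1) (double (d S k) X1 (P i).range
        (sup_le_range _ _ (sup_fix S _ i X (fix_zmultiples _ hbP) hPp))
        (fun x hx => (d_eq_zero S k x).2
          (sup_fix S _ i X (fix_zmultiples _ (hτb k)) (fun y => S.tp k i y hki) x hx)) ?_)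
      intro x hx
      suffices h : X1 ≤ (P i).range.map (d S k) by
        obtain ⟨y, hy, hyx⟩ := h hx
        exact ⟨y, hy, hyx⟩
      have hX : X ≤ (P i).range.map (d S k) := by
        rw [hXdef, AddSubgroup.zmultiples_le]
        exact ⟨P i v, ⟨v, rfl⟩, by rw [hdP, hv, hPu]⟩
      refine sup_le hX ?_
      rintro _ ⟨y, hy, rfl⟩
      obtain ⟨_, ⟨y', rfl⟩, rfl⟩ := hX hy
      refine ⟨S.p i (P i y'), ⟨S.p i y', hPp y'⟩, ?_⟩
      rw [d_apply, d_apply, S.tp k i _ hki, map_add]
    -- the three ranges are independent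
    have horth : ∀ i j x, i ≠ j → P i (P j x) = 0 := by
      intro i j x hij
      have hi : i = j + 1 ∨ i = j + 2 := by revert hij; fin_cases i <;> fin_cases j <;> decide
      have hn0 : ∀ i y, n i (e S i y) = 0 := fun i y => by rw [hn, e_idem, S.two]
      have hswap : ∀ a c y, n a (n c y) = n c (n a y) := fun a c y => by
        simp only [hn, map_add, e_e S a c]
        abel
      rw [hP j, hP i]
      rcases hi with h | h
      · subst h
        rw [hen (j + 1), hen (j + 1), e_e S (j + 1) j, hne]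
        simp only [map_zero]
      · subst h
        rw [hen (j + 2), hen (j + 2), e_e S (j + 2) j, hen (j + 2) (j + 1), hne]
        simp only [map_zero]
    have hPP : ∀ i x, P i (P i x) = P i x := fun i x => by
      rw [hP, hP, ← hen i (i + 2), ← hen i (i + 1), e_idem]
      congr 1
      have hswap : ∀ a c y, n a (n c y) = n c (n a y) := fun a c y => by
        simp only [hn, map_add, e_e S a c]
        abel
      rw [hswap (i + 2) (i + 1), hnn, hnn]
    have hinj : Function.Injective
        (fun y : (P 0).range × (P 1).range × (P 2).range => (y.1 : A) + y.2.1 + y.2.2) := by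
      rintro ⟨⟨_, a, rfl⟩, ⟨_, b, rfl⟩, ⟨_, c, rfl⟩⟩ ⟨⟨_, a', rfl⟩, ⟨_, b', rfl⟩, ⟨_, c', rfl⟩⟩ h
      have h1 := congrArg (P 0) h
      have h2 := congrArg (P 1) h
      have h3 := congrArg (P 2) h
      simp only [map_add, hPP, horth 0 1 _ (by decide), horth 0 2 _ (by decide),
        horth 1 0 _ (by decide), horth 1 2 _ (by decide), horth 2 0 _ (by decide),
        horth 2 1 _ (by decide), add_zero, zero_add] at h1 h2 h3
      exact Prod.ext (Subtype.ext h1) (Prod.ext (Subtype.ext h2) (Subtype.ext h3))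
    have hle := Nat.card_le_card_of_injective _ hinj
    rw [Nat.card_prod, Nat.card_prod, hA] at hle
    have := Nat.mul_le_mul (hlow 0) (Nat.mul_le_mul (hlow 1) (hlow 2))
    omega
  · -- the full tensor product
    set w := f u with hwdef
    have he : ∀ i, e S i w = w := by
      intro i
      show e S i (e S 0 (e S 1 (e S 2 u))) = e S 0 (e S 1 (e S 2 u))
      fin_cases i
      · show e S 0 _ = _
        rw [e_idem]
      · show e S 1 _ = _
        rw [e_e S 1 0, e_idem]
      · show e S 2 _ = _
        rw [e_e S 2 0, e_e S 2 1, e_idem]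
    have hτw : ∀ l, S.τ l w = w := fun l => by
      show S.τ l (e S 0 (e S 1 (e S 2 u))) = e S 0 (e S 1 (e S 2 u))
      rw [τ_e, τ_e, τ_e, hu]
    have hfp : ∀ i x, f (S.p i x) = S.p i (f x) := by
      intro i x
      show e S 0 (e S 1 (e S 2 (S.p i x))) = S.p i (e S 0 (e S 1 (e S 2 x)))
      fin_cases i
      · show e S 0 (e S 1 (e S 2 (S.p 0 x))) = _
        rw [e_p' S (by decide : (2 : Fin 3) ≠ 0), e_p' S (by decide : (1 : Fin 3) ≠ 0), e_p]
        rfl
      · show e S 0 (e S 1 (e S 2 (S.p 1 x))) = _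
        rw [e_p' S (by decide : (2 : Fin 3) ≠ 1), e_p, e_p' S (by decide : (0 : Fin 3) ≠ 1)]
        rfl
      · show e S 0 (e S 1 (e S 2 (S.p 2 x))) = _
        rw [e_p, e_p' S (by decide : (1 : Fin 3) ≠ 2), e_p' S (by decide : (0 : Fin 3) ≠ 2)]
        rfl
    have hfw : f w = w := by
      show e S 0 (e S 1 (e S 2 w)) = w
      rw [he, he, he]
    set X := AddSubgroup.zmultiples w with hXdef
    set X1 := X ⊔ X.map (S.p 0) with hX1
    set X2 := X1 ⊔ X1.map (S.p 1) with hX2
    set X3 := X2 ⊔ X2.map (S.p 2) with hX3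
    have c1 : 4 ≤ Nat.card X1 := le_trans (Nat.mul_le_mul (two_le_card h0) (two_le_card h0))
      (grow S 0 X (fix_zmultiples _ (hτw 0)) (fix_zmultiples _ (he 0)))
    have c2 : 16 ≤ Nat.card X2 := le_trans (Nat.mul_le_mul c1 c1) (grow S 1 X1
      (sup_fix S _ 0 X (fix_zmultiples _ (hτw 1)) fun x => S.tp 1 0 x (by decide))
      (sup_fix S _ 0 X (fix_zmultiples _ (he 1)) fun x => e_p' S (by decide) x))
    have c3 : 256 ≤ Nat.card X3 := le_trans (Nat.mul_le_mul c2 c2) (grow S 2 X2
      (sup_fix S _ 1 X1 (sup_fix S _ 0 X (fix_zmultiples _ (hτw 2))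
        fun x => S.tp 2 0 x (by decide)) fun x => S.tp 2 1 x (by decide))
      (sup_fix S _ 1 X1 (sup_fix S _ 0 X (fix_zmultiples _ (he 2))
        fun x => e_p' S (by decide) x) fun x => e_p' S (by decide) x))
    have hX3le : X3 ≤ f.range := sup_le_range _ _ (sup_fix S _ 2 X2 (sup_fix S _ 1 X1
      (sup_fix S _ 0 X (fix_zmultiples _ hfw) (hfp 0)) (hfp 1)) (hfp 2))
    have htop : f.range = ⊤ := AddSubgroup.eq_top_of_le_card _ (by
      rw [hA]; exact c3.trans (AddSubgroup.card_le_of_le hX3le))
    intro i x hx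
    have hex : e S i x = 0 := by rw [e_apply, hx, hx]; exact S.two x
    obtain ⟨y, rfl⟩ : x ∈ f.range := htop ▸ AddSubgroup.mem_top _
    have key : e S i (f y) = f y := by
      show e S i (e S 0 (e S 1 (e S 2 y))) = e S 0 (e S 1 (e S 2 y))
      fin_cases i
      · show e S 0 _ = _
        rw [e_idem]
      · show e S 1 _ = _
        rw [e_e S 1 0, e_idem]
      · show e S 2 _ = _
        rw [e_e S 2 0, e_e S 2 1, e_idem]
    rw [← key, hex]

theorem step (hfree : ∀ i x, S.p i x = x → x = 0) (i : Fin 3) (X : AddSubgroup A)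
    (hp : ∀ x ∈ X, S.p i x ∈ X) :
    Nat.card (X ⊓ (d S i).ker : AddSubgroup A) * Nat.card (X ⊓ (d S i).ker : AddSubgroup A) ≤
      Nat.card X := by
  rw [← Nat.card_prod]
  refine Nat.card_le_card_of_injective
    (fun y : (X ⊓ (d S i).ker : AddSubgroup A) × (X ⊓ (d S i).ker : AddSubgroup A) =>
      (⟨(y.1 : A) + S.p i y.2, X.add_mem y.1.2.1 (hp _ y.2.2.1)⟩ : X)) ?_
  rintro ⟨⟨a, ha⟩, ⟨b, hb⟩⟩ ⟨⟨a', ha'⟩, ⟨b', hb'⟩⟩ h
  have h' : a + S.p i b = a' + S.p i b' := congrArg Subtype.val h
  have hab : a + a' = S.p i (b + b') := by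
    refine eq_of_add S ?_
    rw [map_add]
    calc a + a' + (S.p i b + S.p i b') = (a + S.p i b) + (a' + S.p i b') := by abel
      _ = 0 := by rw [h']; exact S.two _
  have h1 : S.τ i (b + b') = b + b' := by
    rw [map_add, (d_eq_zero S i b).1 hb.2, (d_eq_zero S i b').1 hb'.2]
  have h2 : S.τ i (S.p i (b + b')) = S.p i (b + b') := by
    rw [← hab, map_add, (d_eq_zero S i a).1 ha.2, (d_eq_zero S i a').1 ha'.2]
  rw [S.flip, h1] at h2
  have h3 : S.p i (b + b') = 0 := hfree i _ h2
  have h4 : b + b' = 0 := by rw [← S.cube i (b + b'), h3, map_zero, map_zero]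
  rw [h4, map_zero] at hab
  exact Prod.ext (Subtype.ext (eq_of_add S hab)) (Subtype.ext (eq_of_add S h4))

/-- The three flips fix at most one nonzero vector. -/
theorem fix_unique (hA : Nat.card A = 256) (hfree : ∀ i x, S.p i x = x → x = 0) {u : A}
    (hu : ∀ i, S.τ i u = u) (hu0 : u ≠ 0) {x : A} (hx : ∀ i, S.τ i x = x) : x = 0 ∨ x = u := by
  set X1 : AddSubgroup A := ⊤ ⊓ (d S 0).ker with hX1
  set X2 : AddSubgroup A := X1 ⊓ (d S 1).ker with hX2
  set X3 : AddSubgroup A := X2 ⊓ (d S 2).ker with hX3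
  have hinv : ∀ i j x, j ≠ i → d S j x = 0 → d S j (S.p i x) = 0 := fun i j x hji h => by
    rw [d_eq_zero] at h ⊢
    rw [S.tp j i x hji, h]
  have s1 : Nat.card X1 * Nat.card X1 ≤ 256 :=
    (step S hfree 0 ⊤ fun _ _ => AddSubgroup.mem_top _).trans
      (by rw [AddSubgroup.card_top, hA])
  have s2 := step S hfree 1 X1 fun x h => ⟨AddSubgroup.mem_top _, hinv 1 0 x (by decide) h.2⟩
  have s3 := step S hfree 2 X2 fun x h =>
    ⟨⟨AddSubgroup.mem_top _, hinv 2 0 x (by decide) h.1.2⟩, hinv 2 1 x (by decide) h.2⟩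
  rw [← hX2] at s2
  rw [← hX3] at s3
  have k1 : Nat.card X1 ≤ 16 := by nlinarith
  have k2 : Nat.card X2 ≤ 4 := by nlinarith
  have k3 : Nat.card X3 ≤ 2 := by nlinarith
  by_contra h
  rw [not_or] at h
  have hmem : ∀ z : A, (∀ i, S.τ i z = z) → z ∈ X3 := fun z hz =>
    ⟨⟨⟨AddSubgroup.mem_top _, (d_eq_zero S 0 z).2 (hz 0)⟩, (d_eq_zero S 1 z).2 (hz 1)⟩,
      (d_eq_zero S 2 z).2 (hz 2)⟩
  have : Function.Injective ![(⟨0, X3.zero_mem⟩ : X3), ⟨u, hmem u hu⟩, ⟨x, hmem x hx⟩] := by
    intro a b hab
    have hab' := congrArg Subtype.val hab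
    fin_cases a <;> fin_cases b <;> simp at hab' <;>
      first
        | rfl
        | exact absurd hab' hu0
        | exact absurd hab' hu0.symm
        | exact absurd hab' h.1
        | exact absurd hab' h.2
        | exact absurd hab'.symm h.1
        | exact absurd hab'.symm h.2
  have := Nat.card_le_card_of_injective _ this
  simp at this
  omega

end CfsgLib.DFour.LocalModule
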