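import Cfsg.Agent.Lib.DFour.NodesSwap

/-!
# The nodes

With `h` interchanging the two frames put `f = h e h⁻¹`. Then `e`, `f`, the `x i` and the `y i`
satisfy the Curtis–Tits relations of type `D₄`.
-/

set_option autoImplicit false
set_option linter.unusedVariables false
set_option linter.unusedSectionVars false
set_option linter.style.haveILetI false

namespace CfsgLib.DFour.Code

open Subgroup

/-- the number of `w` of the complement of `{i}` -/
def wc (i : Fin 3) : ℕ := 2 ^ (7 - 2 ^ (i : ℕ))

/-- conjugation by `y i * x i * y i` in numbers -/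
def nact (i : Fin 3) (c : ℕ) : ℕ := act false i (act true i (act false i c))

theorem act_lt : ∀ i : Fin 3, ∀ c < 512, act true i c < 512 := by decide +kernel

theorem nact_basic : ∀ i : Fin 3, nact i 1 = rc i ∧ nact i (rc i) = 1 ∧ nact i 128 = wc i ∧
    nact i (wc i) = 128 ∧ nact i 256 = 256 ∧ act false i (wc i) = wc i ∧
    act false i 128 = mul 128 (wc i) ∧ act false i 1 = 1 ∧ act false i (rc i) = mul (rc i) 1 ∧
    act true i 1 = mul 1 (rc i) ∧ act true i (rc i) = rc i ∧
    mul 1 (rc i) = mul (rc i) 1 ∧ mul (wc i) 1 = mul 1 (wc i) ∧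
    mul (wc i) 128 = mul 128 (wc i) ∧ rc i < 512 ∧ wc i < 512 := by decide +kernel

theorem nact_other : ∀ i j : Fin 3, j ≠ i → act false i (rc j) = rc j ∧
    (∃ l : Fin 3, nact i (rc j) = wc l ∧ nact i (wc l) = rc j) ∧
    ∃ l : Fin 3, l ≠ i ∧ nact i (wc j) = rc l ∧ nact i (rc l) = wc j ∧
      act false i (wc j) = mul (wc j) (rc l) := by decide +kernel

theorem wc_commutator : ∀ l : Fin 3, ∃ a b : Fin 3, a ≠ b ∧
    mul (rc b) (act true a (rc b)) = wc l := by decide +kernel

theorem efk_check : ∀ k ∈ List.range 256, ∀ s ∈ List.range 8,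
    (∀ i : Fin 3, act true i (2 * k) = 2 * k ∧
      mul (2 * k) (actS s (rc i)) = mul (rc i) (2 * k)) →
    s = 0 ∧ (2 * k = 0 ∨ 2 * k = 128 ∨ 2 * k = 256 ∨ 2 * k = 384) := by decide +kernel

theorem zk_check : ∀ i : Fin 3, ∀ k ∈ List.range 256, ∀ s ∈ List.range 8,
    (∀ j : Fin 3, j ≠ i → act true j (2 * k) = 2 * k ∧
      mul (2 * k) (actS s (rc j)) = mul (rc j) (2 * k) ∧
      mul (2 * k) (actS s (wc j)) = mul (wc j) (2 * k)) →
    mul (2 * k) (actS s (wc i)) = mul (wc i) (2 * k) →
    s = 0 ∧ ((2 * k = 0 ∨ 2 * k = 128 ∨ 2 * k = wc i ∨ 2 * k = mul 128 (wc i)) ∨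
      ∃ c ∈ [0, 128, wc i, mul 128 (wc i)], 2 * k = mul 256 c) := by decide +kernel

theorem one_wc_check : ∀ i : Fin 3, mul 1 (wc i) ∉ orbL ∧ mul 1 (mul (wc i) 256) ∉ orbL ∧
    mul 1 (wc i) < 512 ∧ mul 1 (mul (wc i) 256) < 512 ∧
    mul 1 (wc i) ≠ 256 ∧ mul 1 (mul (wc i) 256) ≠ 256 := by decide +kernel

theorem klein_sq : ∀ i : Fin 3, ∀ c ∈ [0, 128, wc i, mul 128 (wc i), mul 256 0, mul 256 128,
    mul 256 (wc i), mul 256 (mul 128 (wc i))], mul c c = 0 := by decide +kernel

theorem mul_lt {c d : ℕ} (hc : c < 512) (hd : d < 512) : mul c d < 512 := by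
  have h : (256 : ℕ) < 2 ^ 9 := by norm_num
  unfold mul
  cases cross c d l8
  · exact Nat.xor_lt_two_pow (Nat.xor_lt_two_pow (n := 9) hc hd) (by norm_num)
  · exact Nat.xor_lt_two_pow (Nat.xor_lt_two_pow (n := 9) hc hd) h

theorem actS_lt {s c : ℕ} (hc : c < 512) : actS s c < 512 := by
  unfold actS
  cases s.testBit 2 <;> cases s.testBit 1 <;> cases s.testBit 0 <;>
    simp only [cond_true, cond_false] <;>
    first
      | exact hc
      | exact act_lt 0 _ hc
      | exact act_lt 1 _ hc
      | exact act_lt 2 _ hc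
      | exact act_lt 0 _ (act_lt 1 _ hc)
      | exact act_lt 0 _ (act_lt 2 _ hc)
      | exact act_lt 1 _ (act_lt 2 _ hc)
      | exact act_lt 0 _ (act_lt 1 _ (act_lt 2 _ hc))

universe u

variable {G : Type u} [Group G]

theorem comm_of_fix {k a : G} (kk : k * k = 1) (h : k * a * k = a) : k * a = a * k := by
  conv_rhs => rw [← h]
  simp only [mul_assoc, kk, mul_one]

theorem fix_of_comm {k a : G} (kk : k * k = 1) (h : k * a = a * k) : k * a * k = a := by
  rw [h, mul_assoc, kk, mul_one]

theorem conj_prod {k : G} (kk : k * k = 1) (a b : G) :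
    k * (a * b) * k = k * a * k * (k * b * k) := by
  simp only [mul_assoc]
  rw [← mul_assoc k k (b * k), kk, one_mul]

theorem conj_three (a b c : G) : a * b * a * c * (a * b * a) = a * (b * (a * c * a) * b) * a := by
  simp only [mul_assoc]

/-- The sixth power of two transvections fixes the plane. -/
theorem cube_fix {e f a b : G} (ee : e * e = 1) (ff : f * f = 1) (aa : a * a = 1) (bb : b * b = 1)
    (ab : a * b = b * a) (ea : e * a * e = a) (fa : f * a * f = a * b) (eb : e * b * e = b * a)
    (fb : f * b * f = b) :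
    e * f * e * f * e * f * a = a * (e * f * e * f * e * f) ∧
      e * f * e * f * e * f * b = b * (e * f * e * f * e * f) := by
  have ha : ∀ z, e * (a * z) = a * (e * z) := fun z => by
    rw [← mul_assoc, comm_of_fix ee ea, mul_assoc]
  have hb : ∀ z, e * (b * z) = b * (a * (e * z)) := fun z => by
    have : e * b = b * a * e := by rw [← eb]; simp only [mul_assoc, ee, mul_one]
    rw [← mul_assoc, this, mul_assoc, mul_assoc]
  have ga : ∀ z, f * (a * z) = a * (b * (f * z)) := fun z => by
    have : f * a = a * b * f := by rw [← fa]; simp only [mul_assoc, ff, mul_one]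
    rw [← mul_assoc, this, mul_assoc, mul_assoc]
  have gb : ∀ z, f * (b * z) = b * (f * z) := fun z => by
    rw [← mul_assoc, comm_of_fix ff fb, mul_assoc]
  have sa : ∀ z, a * (a * z) = z := fun z => by rw [← mul_assoc, aa, one_mul]
  have sb : ∀ z, b * (b * z) = z := fun z => by rw [← mul_assoc, bb, one_mul]
  have sab : ∀ z, b * (a * z) = a * (b * z) := fun z => by rw [← mul_assoc, ← ab, mul_assoc]
  have ka : ∀ z, e * f * e * f * e * f * (a * z) = a * (e * f * e * f * e * f * z) := fun z => by
    simp only [mul_assoc, ha, hb, ga, gb, sa, sb, sab]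
  have kb : ∀ z, e * f * e * f * e * f * (b * z) = b * (e * f * e * f * e * f * z) := fun z => by
    simp only [mul_assoc, ha, hb, ga, gb, sa, sb, sab]
  exact ⟨by simpa only [mul_one] using ka 1, by simpa only [mul_one] using kb 1⟩

theorem conj_sq {k a : G} (kk : k * k = 1) (aa : a * a = 1) : k * a * k * (k * a * k) = 1 := by
  rw [← conj_prod kk, aa, mul_one, kk]

variable {t : G} {S : Setting t} {g : G} {F : Frame G}

section

variable (O : F.Ok S g)
include O

theorem n_sq (i : Fin 3) : F.y i * F.x i * F.y i * (F.y i * F.x i * F.y i) = 1 := by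
  exact conj_sq (O.y_sq i) (O.x_sq i)

theorem n_val (i : Fin 3) (c : ℕ) :
    F.y i * F.x i * F.y i * val t F c * (F.y i * F.x i * F.y i) = val t F (nact i c) := by
  rw [conj_three, y_val O, x_val O, y_val O]
  rfl

theorem val_one : val t F 1 = F.w (sub 0) := val_w O 0 (by norm_num)

theorem code_comm_x {a : G} {k s : ℕ} {j : Fin 3} (hk : k < 256)
    (ha : a = val t F (2 * k) * xp F s) (h : a * F.x j = F.x j * a) :
    act true j (2 * k) = 2 * k := by
  have hx : xp F s * F.x j = F.x j * xp F s := by
    have h01 : ∀ b, Commute (F.x b) (F.x j) := fun b => O.xx b j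
    unfold xp
    refine ((Commute.mul_left ?_ ?_).mul_left ?_).eq
    all_goals first
      | (cases s.testBit 0 <;> first | exact Commute.one_left _ | exact h01 _)
      | (cases s.testBit 1 <;> first | exact Commute.one_left _ | exact h01 _)
      | (cases s.testBit 2 <;> first | exact Commute.one_left _ | exact h01 _)
  rw [ha, mul_assoc, hx, ← mul_assoc, ← mul_assoc] at h
  refine val_inj O (act_lt j _ (by omega)) (by omega) ?_
  rw [← x_val O, ← mul_right_cancel h, mul_assoc, O.x_sq, mul_one]

theorem code_comm_val {a : G} {k s r : ℕ} (hk : k < 256) (hr : r < 512)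
    (ha : a = val t F (2 * k) * xp F s) (h : a * val t F r = val t F r * a) :
    mul (2 * k) (actS s r) = mul r (2 * k) := by
  refine val_inj O (mul_lt (by omega) (actS_lt hr)) (mul_lt hr (by omega)) ?_
  rw [← val_mul O, ← val_mul O, ← xp_val O]
  calc val t F (2 * k) * (xp F s * val t F r * xp F s)
      = a * val t F r * xp F s := by rw [ha]; simp only [mul_assoc]
    _ = val t F r * val t F (2 * k) := by
      rw [h, ha]; simp only [mul_assoc, xp_sq O, mul_one]

/-- The nodes. -/
theorem exists_nodes [Finite G] (P : PairData S g) : ∃ N : Nodes G, N.Rels ∧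
    centralizer ({t} : Set G) ≤ N.M ∧ ∃ m ∈ N.M, m * t * m⁻¹ = g * t * g⁻¹ := by
  obtain ⟨h, τ, W, hx, hr⟩ := exists_good O P
  obtain ⟨q, hq⟩ : ∃ q, q = g * t * g⁻¹ := ⟨_, rfl⟩
  have vq : val t F 128 = q := by rw [val_q O, hq]
  obtain ⟨e, he⟩ : ∃ e, e = val t F 1 := ⟨_, rfl⟩
  obtain ⟨f, hf⟩ : ∃ f, f = h * e * h⁻¹ := ⟨_, rfl⟩
  obtain ⟨r, hrdef⟩ : ∃ r : Fin 3 → G, r = fun i => val t F (rc i) := ⟨_, rfl⟩
  have hri : ∀ i, r i = val t F (rc i) := fun i => by rw [hrdef]
  replace hx : ∀ i, h * r (τ i) * h⁻¹ = F.x i := fun i => by rw [hri]; exact hx i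
  replace hr : ∀ i, h * F.x (τ i) * h⁻¹ = r i := fun i => by rw [hri]; exact hr i
  have ee : e * e = 1 := by rw [he, val_one O, O.w_sq]
  have rr : ∀ i, r i * r i = 1 := fun i => by rw [hri, val_r O, O.w_sq]
  have ff : f * f = 1 := by rw [hf, conj_mul, ee]; group
  have qq : q * q = 1 := by rw [hq, ← O.top]; exact O.w_sq _
  have q_ne : q ≠ 1 := by rw [← vq]; exact val_ne O (by norm_num) (by norm_num)
  have tq : t * q = q * t := by rw [hq]; exact (q_comm_t O).symm
  have er : ∀ i, e * r i = r i * e := fun i => by
    rw [he, hri, val_mul O, val_mul O, (nact_basic i).2.2.2.2.2.2.2.2.2.2.2.1]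
  have xr : ∀ i, F.x i * r i = r i * F.x i := fun i => by
    refine comm_of_fix (O.x_sq i) ?_
    rw [hri, x_val O, (nact_basic i).2.2.2.2.2.2.2.2.2.2.1]
  have xe : ∀ i, F.x i * e * F.x i = e * r i := fun i => by
    rw [he, hri, x_val O, val_mul O, (nact_basic i).2.2.2.2.2.2.2.2.2.1]
  have exe : ∀ i, e * F.x i * e = F.x i * r i := fun i => by
    calc e * F.x i * e = F.x i * (F.x i * e * F.x i) * e := by
          simp only [← mul_assoc, O.x_sq, one_mul]
      _ = F.x i * r i := by rw [xe, er]; simp only [mul_assoc, ee, mul_one]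
  have ye : ∀ i, F.y i * e = e * F.y i := fun i => by
    refine comm_of_fix (O.y_sq i) ?_
    rw [he, y_val O, (nact_basic i).2.2.2.2.2.2.2.1]
  have yr : ∀ i, F.y i * r i * F.y i = r i * e := fun i => by
    rw [he, hri, y_val O, val_mul O, (nact_basic i).2.2.2.2.2.2.2.2.1]
  have et : e * t * e = t := fix_of_comm ee (he ▸ val_comm_t O 1)
  have eq' : e * q * e = q * t := by
    rw [he, ← vq, val_mul O, val_mul O]
    conv_rhs => arg 2; rw [← val_t O]
    rw [val_mul O, show mul (mul 1 128) 1 = mul 128 256 by decide +kernel]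
  have ft : f * t * f = t * q := by
    calc f * t * f = h * (e * (g * t * g⁻¹) * e) * h⁻¹ := by
          rw [hf]; conv_lhs => arg 1; arg 2; rw [← W.hq]
          group
      _ = t * q := by rw [← hq, eq', hq, ← conj_mul, W.hq, W.ht]
  have fq : f * q * f = q := by
    calc f * q * f = h * (e * t * e) * h⁻¹ := by rw [hq, ← W.ht, hf]; group
      _ = q := by rw [et, W.ht, hq]
  have xf : ∀ i, F.x i * f = f * F.x i := fun i => by
    rw [← hx i, hf]; exact (conj_comm h _ _).2 (er (τ i)).symm
  have fr : ∀ i, f * r i * f = r i * F.x i := fun i => by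
    calc f * r i * f = h * (e * F.x (τ i) * e) * h⁻¹ := by rw [← hr i, hf]; group
      _ = r i * F.x i := by rw [exe, ← conj_mul, hr, hx]
  -- the braid relation
  have braid : e * f * e = f * e * f := by
    have cube : e * f * e * f * e * f = 1 := by
      obtain ⟨kt, kq⟩ := cube_fix ee ff (tt S) qq tq et ft eq' fq
      have krx := fun i => cube_fix ee ff (rr i) (O.x_sq i) (xr i).symm
        (fix_of_comm ee (er i)) (fr i) (exe i) (fix_of_comm ff (xf i).symm)
      rw [hq] at kq
      obtain ⟨k, hk, s, hs, hks⟩ := exists_code O P kt kq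
      obtain ⟨s0, hc⟩ := efk_check k (List.mem_range.2 hk) s (List.mem_range.2 hs) fun i =>
        ⟨code_comm_x O hk hks (krx i).2, code_comm_val O hk (nact_basic i).2.2.2.2.2.2.2.2.2.2.2.2.2.2.1
          hks (by rw [← hri]; exact (krx i).1)⟩
      rw [s0, show xp F 0 = 1 by simp [xp], mul_one] at hks
      have comm : e * f * (e * f * e * f * e * f) = e * f * e * f * e * f * (e * f) := by
        simp only [mul_assoc]
      have v384 : val t F 384 = q * t := by
        rw [← vq]; conv_rhs => arg 2; rw [← val_t O]
        rw [val_mul O, show mul 128 256 = 384 by decide +kernel]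
      have c1 : ∀ z, e * f * z = z * (e * f) → (e * (f * z * f)) * e = z := fun z hz => by
        rw [show e * (f * z * f) * e = e * f * z * (f * e) by simp only [mul_assoc], hz]
        simp only [mul_assoc]
        rw [← mul_assoc f f, ff, one_mul, ee, mul_one]
      have hz := c1 _ comm
      rcases hc with hc | hc | hc | hc
      · rw [hks, hc, val_zero O]
      · exfalso
        rw [hks, hc, vq, fq, eq'] at hz
        exact t_ne S (by simpa using hz)
      · exfalso
        rw [hks, hc, val_t O, ft, conj_prod ee, et, eq', ← mul_assoc, tq, mul_assoc, tt S,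
          mul_one] at hz
        exact P.ne (hq ▸ hz)
      · exfalso
        rw [hks, hc, v384, conj_prod ff, fq, ft, tq,
          show q * (q * t) = t by rw [← mul_assoc, qq, one_mul], et] at hz
        exact q_ne (mul_right_cancel (hz.symm.trans (one_mul t).symm))
    calc e * f * e = e * f * e * f * e * f * (f * e * f) := by
          simp only [mul_assoc]
          rw [← mul_assoc f f, ff, one_mul, ← mul_assoc e e, ee, one_mul, ff, mul_one]
      _ = f * e * f := by rw [cube, one_mul]
  obtain ⟨m, hm⟩ : ∃ m, m = e * f * e := ⟨_, rfl⟩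
  have mm : m * m = 1 := by rw [hm]; exact conj_sq ee ff
  have cm : ∀ a, m * a * m = e * (f * (e * a * e) * f) * e := fun a => by
    rw [hm, conj_three]
  have mt : m * t * m = q := by
    rw [cm, et, ft, conj_prod ee, et, eq', ← mul_assoc, tq, mul_assoc, tt S, mul_one]
  have mq : m * q * m = t := by
    conv_lhs => rw [← mt]
    simp only [← mul_assoc, mm, one_mul]
    rw [mul_assoc, mm, mul_one]
  have mr : ∀ i, m * r i * m = F.x i := fun i => by
    rw [cm, fix_of_comm ee (er i), fr, conj_prod ee, fix_of_comm ee (er i), exe, xr,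
      ← mul_assoc, rr, one_mul]
  have mx : ∀ i, m * F.x i * m = r i := fun i => by
    conv_lhs => rw [← mr i]
    simp only [← mul_assoc, mm, one_mul]
    rw [mul_assoc, mm, mul_one]
  have mf : m * f * m = e := by
    calc m * f * m = e * f * e * f * (e * f * e) := by rw [hm]
      _ = e * f * e * f * (f * e * f) := by rw [braid]
      _ = e := by
        simp only [mul_assoc]
        rw [← mul_assoc f f, ff, one_mul, ← mul_assoc e e, ee, one_mul, ff, mul_one]
  -- the complements of singletons
  have ew : ∀ i, e * val t F (wc i) * e = val t F (wc i) := fun i => by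
    refine fix_of_comm ee ?_
    rw [he, val_mul O, val_mul O, (nact_basic i).2.2.2.2.2.2.2.2.2.2.2.2.1]
  have fw : ∀ i, f * val t F (wc i) * f = val t F (wc i) := fun i => by
    obtain ⟨a, b, hab, habw⟩ := wc_commutator i
    rw [← habw, ← val_mul O, ← x_val O, ← hri]
    simp only [conj_prod ff, fr, fix_of_comm ff (xf a).symm]
    have c1 : Commute (F.x a) (F.x b) := O.xx a b
    have c2 : Commute (F.x b) (r b) := xr b
    have sb : ∀ z, F.x b * (F.x b * z) = z := fun z => by rw [← mul_assoc, O.x_sq, one_mul]
    simp only [mul_assoc]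
    rw [c1.symm.left_comm, c2.left_comm, sb]
  have mw : ∀ i, m * val t F (wc i) * m = val t F (wc i) := fun i => by
    rw [cm, ew, fw, ew]
  -- the elements `z i`
  obtain ⟨n, hn⟩ : ∃ n : Fin 3 → G, n = fun i => F.y i * F.x i * F.y i := ⟨_, rfl⟩
  have hni : ∀ i, n i = F.y i * F.x i * F.y i := fun i => by rw [hn]
  have nn : ∀ i, n i * n i = 1 := fun i => by rw [hni]; exact n_sq O i
  have ninv : ∀ i a b, n i * a * n i = b → n i * b * n i = a := fun i a b h' => by
    rw [← h']
    simp only [← mul_assoc, nn, one_mul]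
    rw [mul_assoc, nn, mul_one]
  have nv : ∀ i c, n i * val t F c * n i = val t F (nact i c) := fun i c => by
    rw [hni]; exact n_val O i c
  have nt : ∀ i, n i * t * n i = t := fun i => by
    conv_lhs => arg 1; arg 2; rw [← val_t O]
    rw [nv, (nact_basic i).2.2.2.2.1, val_t O]
  have nq : ∀ i, n i * q * n i = val t F (wc i) := fun i => by
    rw [← vq, nv, (nact_basic i).2.2.1]
  have ne' : ∀ i, n i * e * n i = r i := fun i => by
    rw [he, hri, nv, (nact_basic i).1]
  have nx : ∀ i, n i * F.x i * n i = F.y i := fun i => by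
    rw [hni, conj_three]
    conv_lhs => arg 1; arg 2; arg 1; arg 2; rw [← O.braid i]
    simp only [← mul_assoc, O.x_sq, one_mul, O.y_sq]
  have nxj : ∀ i j, j ≠ i → n i * F.x j * n i = F.x j := fun i j hji => by
    have hy := fix_of_comm (O.y_sq i) (O.xy j i hji).symm
    rw [hni, conj_three, hy, fix_of_comm (O.x_sq i) (O.xx i j), hy]
  have zfix : ∀ i, n i * f * n i = m * F.y i * m ∧
      F.y i * f * F.y i * f = n i * f * n i := by
    intro i
    obtain ⟨w, hw⟩ : ∃ w, w = val t F (wc i) := ⟨_, rfl⟩
    obtain ⟨A, hA⟩ : ∃ A, A = n i * f * n i := ⟨_, rfl⟩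
    obtain ⟨B, hB⟩ : ∃ B, B = m * F.y i * m := ⟨_, rfl⟩
    have AA : A * A = 1 := by rw [hA]; exact conj_sq (nn i) ff
    have BB : B * B = 1 := by rw [hB]; exact conj_sq mm (O.y_sq i)
    have cA : ∀ a, A * a * A = n i * (f * (n i * a * n i) * f) * n i := fun a => by
      rw [hA, conj_three]
    have cB : ∀ a, B * a * B = m * (F.y i * (m * a * m) * F.y i) * m := fun a => by
      rw [hB, conj_three]
    have wq : w * q = q * w := by
      rw [hw, ← vq, val_mul O, val_mul O, (nact_basic i).2.2.2.2.2.2.2.2.2.2.2.2.2.1]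
    have ww : w * w = 1 := by
      rw [hw, show wc i = 2 ^ (7 - 2 ^ (i : ℕ)) from rfl,
        val_w O _ (Nat.lt_of_le_of_lt (Nat.sub_le _ _) (by norm_num)), O.w_sq]
    have yw : F.y i * w * F.y i = w := by rw [hw, y_val O, (nact_basic i).2.2.2.2.2.1]
    have yq : F.y i * q * F.y i = q * w := by
      rw [hw, ← vq, y_val O, val_mul O, (nact_basic i).2.2.2.2.2.2.1]
    have nw : n i * w * n i = q := by rw [hw]; exact ninv i _ _ (nq i)
    have At : A * t * A = t * w := by rw [cA, nt, ft, conj_prod (nn i), nt, nq, hw]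
    have Aq : A * q * A = q := by rw [cA, nq, fw, ← hw, nw]
    have Aw : A * w * A = w := by rw [cA, nw, fq, nq, hw]
    have Bt : B * t * B = t * w := by rw [cB, mt, yq, conj_prod mm, mq, hw, mw]
    have Bq : B * q * B = q := by
      rw [cB, mq, fix_of_comm (O.y_sq i) (mem_cent (O.y_mem i)), mt]
    have Bw : B * w * B = w := by rw [cB, hw, mw, ← hw, yw, hw, mw]
    have kcomm : ∀ a b, A * a * A = b → B * a * B = b → A * B * a = a * (A * B) := by
      intro a b h1 h2
      calc A * B * a = A * (B * a * B) * B := by simp only [mul_assoc, BB, mul_one]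
        _ = A * (A * a * A) * B := by rw [h2, h1]
        _ = a * (A * B) := by simp only [← mul_assoc, AA, one_mul]
    obtain ⟨k, hk, s, hs, hks⟩ :=
      exists_code O P (kcomm t _ At Bt) (hq ▸ kcomm q _ Aq Bq)
    have kx : ∀ j, j ≠ i → A * B * F.x j = F.x j * (A * B) := fun j hji => by
      refine kcomm _ (F.x j) ?_ ?_
      · rw [cA, nxj i j hji, fix_of_comm ff (xf j).symm, nxj i j hji]
      · rw [cB, mx, hri, y_val O, (nact_other i j hji).1, ← hri, mr]
    have kr : ∀ j, j ≠ i → A * B * r j = r j * (A * B) := fun j hji => by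
      obtain ⟨l, l1, l2⟩ := (nact_other i j hji).2.1
      refine kcomm _ (r j) ?_ ?_
      · rw [cA, hri, nv, l1, fw, nv, l2]
      · rw [cB, mr, fix_of_comm (O.y_sq i) (O.xy j i hji).symm, mx]
    have kw : ∀ j, j ≠ i → A * B * val t F (wc j) = val t F (wc j) * (A * B) := fun j hji => by
      obtain ⟨l, hli, l1, l2, l3⟩ := (nact_other i j hji).2.2
      refine kcomm _ (val t F (wc j) * F.x l) ?_ ?_
      · rw [cA, nv, l1, ← hri, fr, conj_prod (nn i), hri, nv, l2, nxj i l hli]
      · rw [cB, mw, y_val O, l3, ← val_mul O, conj_prod mm, mw, ← hri, mr]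
    obtain ⟨s0, hc⟩ := zk_check i k (List.mem_range.2 hk) s (List.mem_range.2 hs)
      (fun j hji => ⟨code_comm_x O hk hks (kx j hji),
        code_comm_val O hk (nact_basic j).2.2.2.2.2.2.2.2.2.2.2.2.2.2.1 hks
          (by rw [← hri]; exact kr j hji),
        code_comm_val O hk (nact_basic j).2.2.2.2.2.2.2.2.2.2.2.2.2.2.2 hks (kw j hji)⟩)
      (code_comm_val O hk (nact_basic i).2.2.2.2.2.2.2.2.2.2.2.2.2.2.2 hks
        (hw ▸ kcomm w _ Aw Bw))
    rw [s0, show xp F 0 = 1 by simp [xp], mul_one] at hks
    have hB' : B = A * val t F (2 * k) := by rw [← hks, ← mul_assoc, AA, one_mul]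
    have kA : A * val t F (2 * k) * A = val t F (2 * k) := by
      have h2 : A * val t F (2 * k) * (A * val t F (2 * k)) = 1 := hB' ▸ BB
      have h3 : val t F (2 * k) * val t F (2 * k) = 1 := by
        rw [val_mul O, klein_sq i _ (by
          rcases hc with (c0 | c0 | c0 | c0) | ⟨c, hc, c0⟩
          all_goals first
            | (simp [c0]; done)
            | (simp only [List.mem_cons, List.not_mem_nil, or_false] at hc
               rcases hc with rfl | rfl | rfl | rfl <;> simp [c0])), val_zero O]
      calc A * val t F (2 * k) * A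
          = A * val t F (2 * k) * A * (val t F (2 * k) * val t F (2 * k)) := by rw [h3, mul_one]
        _ = A * val t F (2 * k) * (A * val t F (2 * k)) * val t F (2 * k) := by
          simp only [mul_assoc]
        _ = val t F (2 * k) := by rw [h2, one_mul]
    have Ac : ∀ c ∈ [0, 128, wc i, mul 128 (wc i)], A * val t F c * A = val t F c := by
      intro c hc
      simp only [List.mem_cons, List.not_mem_nil, or_false] at hc
      rcases hc with rfl | rfl | rfl | rfl
      · rw [val_zero O, mul_one, AA]
      · rw [vq, Aq]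
      · rw [← hw, Aw]
      · rw [← val_mul O, vq, ← hw, conj_prod AA, Aq, Aw]
    have w_ne : w ≠ 1 := fun h1 => q_ne (by rw [← nw, h1, mul_one, nn])
    rcases hc with hc | ⟨c, hc, c0⟩
    swap
    · exfalso
      rw [c0, ← val_mul O, val_t O, conj_prod AA, At, Ac c hc] at kA
      exact w_ne (mul_left_cancel ((mul_right_cancel kA).trans (mul_one t).symm))
    have Bconj : IsConj t B := by
      refine (O.x_conj i).trans (isConj_iff.2 ⟨m * n i, ?_⟩)
      rw [mul_inv_rev, inv_eq_of_mul_eq_one_right mm, inv_eq_of_mul_eq_one_right (nn i), hB,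
        ← nx i]
      simp only [mul_assoc]
    have key : ∀ (d : ℕ), d = mul 1 (wc i) ∨ d = mul 1 (mul (wc i) 256) →
        ∀ a, m * (n i * B * n i) * m = a → a ≠ val t F d := by
      intro d hd a ha e1
      obtain ⟨o1, o2, o3, o4, o5, o6⟩ := one_wc_check i
      have hd' : d < 512 ∧ d ≠ 256 ∧ d ∉ orbL := by rcases hd with rfl | rfl <;> tauto
      have hcj : IsConj t (val t F d) := by
        refine Bconj.trans (isConj_iff.2 ⟨m * n i, ?_⟩)
        rw [mul_inv_rev, inv_eq_of_mul_eq_one_right mm, inv_eq_of_mul_eq_one_right (nn i), ← e1,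
          ← ha]
        simp only [mul_assoc]
      obtain ⟨c, hc, hcv⟩ := exists_orb O (val_mem O d) hcj fun e2 =>
        hd'.2.1 (val_inj O hd'.1 (by norm_num) (e2.trans (val_t O).symm))
      exact hd'.2.2 (val_inj O (orb_closed c hc).1 hd'.1 hcv ▸ hc)
    rcases hc with hc | hc | hc | hc
    · rw [hc, val_zero O, mul_one] at hB'
      refine ⟨by rw [← hA, ← hB, hB'], ?_⟩
      rw [← hA]
      have h1 : e * f * F.y i * f * e = A := by
        rw [← hB', hB, hm]
        have : e * F.y i * e = F.y i := fix_of_comm ee (ye i).symm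
        conv_rhs => rw [conj_three, this]
        simp only [mul_assoc]
      have h2 : e * A * e = F.y i * A := by
        have en : e * n i = n i * r i := by
          rw [← ne' i]; simp only [← mul_assoc, nn, one_mul]
        have nre : n i * e = r i * n i := by
          rw [← ne' i]; simp only [mul_assoc, nn, mul_one]
        calc e * A * e = e * n i * f * (n i * e) := by rw [hA]; simp only [mul_assoc]
          _ = n i * (r i * f * r i) * n i := by rw [en, nre]; simp only [mul_assoc]
          _ = n i * (F.x i * f) * n i := by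
            congr 2
            calc r i * f * r i = r i * (f * r i * f) * f := by simp only [mul_assoc, ff, mul_one]
              _ = F.x i * f := by rw [fr, ← mul_assoc, rr, one_mul]
          _ = F.y i * A := by rw [conj_prod (nn i), nx, hA]
      have h3 : f * F.y i * f = F.y i * A := by
        rw [← h2, ← h1]
        simp only [mul_assoc]
        rw [ee, mul_one, ← mul_assoc e e, ee, one_mul]
      rw [mul_assoc, mul_assoc, ← mul_assoc f, h3, ← mul_assoc, O.y_sq, one_mul]
    · exfalso
      refine key _ (Or.inl rfl) _ ?_ rfl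
      rw [hB', hc, vq, conj_prod (nn i), ninv i f A hA.symm, nq, conj_prod mm, mf, mw, he,
        val_mul O]
    · exfalso
      rw [hc, ← hw] at hB'
      have yA : F.y i * A = A * F.y i := by
        have e0 := (conj_comm (n i) (F.x i) f).2 (xf i)
        rw [inv_eq_of_mul_eq_one_right (nn i), nx, ← hA] at e0
        exact e0
      have wy : w * F.y i = F.y i * w := (comm_of_fix (O.y_sq i) yw).symm
      have wA : w * A = A * w := (comm_of_fix AA Aw).symm
      have wf : w * f = f * w := by rw [hw]; exact (comm_of_fix ff (fw i)).symm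
      have we : w * e = e * w := by rw [hw]; exact (comm_of_fix ee (ew i)).symm
      have en : e * n i = n i * r i := by
        rw [← ne' i]; simp only [← mul_assoc, nn, one_mul]
      have nre : n i * e = r i * n i := by
        rw [← ne' i]; simp only [mul_assoc, nn, mul_one]
      have eA : e * A * e = F.y i * A := by
        calc e * A * e = e * n i * f * (n i * e) := by rw [hA]; simp only [mul_assoc]
          _ = n i * (r i * f * r i) * n i := by rw [en, nre]; simp only [mul_assoc]
          _ = n i * (F.x i * f) * n i := by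
            congr 2
            calc r i * f * r i = r i * (f * r i * f) * f := by simp only [mul_assoc, ff, mul_one]
              _ = F.x i * f := by rw [fr, ← mul_assoc, rr, one_mul]
          _ = F.y i * A := by rw [conj_prod (nn i), nx, hA]
      have h1 : f * F.y i * f = F.y i * A * w := by
        have h0 : e * (f * F.y i * f) * e = A * w := by
          rw [← hB', hB, hm]
          conv_rhs => rw [conj_three, fix_of_comm ee (ye i).symm]
        calc f * F.y i * f = e * (e * (f * F.y i * f) * e) * e := by
              simp only [← mul_assoc, ee, one_mul]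
              rw [mul_assoc _ e e, ee, mul_one]
          _ = F.y i * A * w := by
            rw [h0, conj_prod ee, eA, hw, ew]
      have h2 : F.y i * f * F.y i = A * w * f := by
        calc F.y i * f * F.y i = F.y i * (f * F.y i * f) * f := by
              simp only [mul_assoc, ff, mul_one]
          _ = A * w * f := by rw [h1]; simp only [← mul_assoc, O.y_sq, one_mul]
      have fA : A * f = f * A := by
        have h5 : A * w * f * (A * w * f) = 1 := by
          rw [← h2]; exact conj_sq (O.y_sq i) ff
        have h6 : A * f * (A * f) = 1 := by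
          rw [← h5]
          have e1 : A * w * f = A * f * w := by rw [mul_assoc, wf, mul_assoc]
          have e2 : w * (A * f) = A * f * w := by rw [← mul_assoc, wA, e1]
          rw [e1, mul_assoc (A * f) w, ← mul_assoc w, e2, mul_assoc (A * f) w w, ww, mul_one]
        calc A * f = (A * f)⁻¹ := (inv_eq_of_mul_eq_one_right h6).symm
          _ = f * A := by
            rw [mul_inv_rev, inv_eq_of_mul_eq_one_right ff, inv_eq_of_mul_eq_one_right AA]
      have h3 : F.x i * A * F.x i = f * q * A := by
        have h := congrArg (fun z => n i * z * n i) h2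
        simp only [conj_prod (nn i), ← hA, nw, ninv i f A hA.symm, ninv i _ _ (nx i)] at h
        exact h
      have h4 : f = f * q := by
        have e1 : F.y i * (F.x i * A * F.x i) * F.y i = f := by
          calc F.y i * (F.x i * A * F.x i) * F.y i
              = F.y i * F.x i * (F.y i * A * F.y i) * F.x i * F.y i := by
                rw [fix_of_comm (O.y_sq i) yA]; simp only [mul_assoc]
            _ = n i * A * n i := by rw [hni]; simp only [mul_assoc]
            _ = f := ninv i f A hA.symm
        rw [h3, conj_prod (O.y_sq i), conj_prod (O.y_sq i), h2, yq,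
          fix_of_comm (O.y_sq i) yA] at e1
        calc f = A * w * f * (q * w) * A := e1.symm
          _ = A * f * (w * (q * w)) * A := by
            rw [mul_assoc A w f, wf]; simp only [mul_assoc]
          _ = A * f * q * A := by
            rw [← mul_assoc w, wq, mul_assoc q, ww, mul_one]
          _ = f * q := by
            rw [fA, mul_assoc (f * A), mul_assoc f A, ← mul_assoc A, Aq]
      exact q_ne (mul_left_cancel (a := f) (by rw [mul_one, ← h4]))
    · exfalso
      refine key _ (Or.inr rfl) _ ?_ rfl
      rw [hB', hc, ← val_mul O, vq, ← hw, conj_prod (nn i), ninv i f A hA.symm,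
        conj_prod (nn i), nq, nw, conj_prod mm, mf, conj_prod mm, mw, mq, he]
      conv_lhs => arg 2; arg 2; rw [← val_t O]
      rw [val_mul O, val_mul O]
  refine ⟨⟨F.x, F.y, r, fun i => n i * f * n i, e, f⟩, ?_, ?_, m, ?_, ?_⟩
  · have zz : ∀ i, n i * f * n i * (n i * f * n i) = 1 := fun i => conj_sq (nn i) ff
    have yz : ∀ i, F.y i * (n i * f * n i) = n i * f * n i * F.y i := fun i => by
      have e0 := (conj_comm (n i) (F.x i) f).2 (xf i)
      rwa [inv_eq_of_mul_eq_one_right (nn i), nx] at e0
    have yfy : ∀ i, F.y i * f * F.y i = n i * f * n i * f := fun i => by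
      rw [← (zfix i).2, mul_assoc _ f f, ff, mul_one]
    have fz : ∀ i, f * (n i * f * n i) = n i * f * n i * f := fun i => by
      have h1 : n i * f * n i * f * (n i * f * n i * f) = 1 := by
        rw [← yfy]; exact conj_sq (O.y_sq i) ff
      calc f * (n i * f * n i) = (n i * f * n i * f)⁻¹ := by
            rw [mul_inv_rev, inv_eq_of_mul_eq_one_right ff, inv_eq_of_mul_eq_one_right (zz i)]
        _ = _ := inv_eq_of_mul_eq_one_right h1
    refine
      { x_sq := O.x_sq, y_sq := O.y_sq, r_sq := rr, z_sq := zz, e_sq := ee, f_sq := ff,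
        e_ne := by rw [he]; exact val_ne O (by norm_num) (by norm_num)
        xx := O.xx, yy := O.yy, xy := O.xy
        x_e := fun i => by
          show F.x i * e * F.x i * e = r i
          rw [xe, er, mul_assoc, ee, mul_one]
        y_f := fun i => (zfix i).2
        xr := xr, er := er, yz := yz, fz := fz, xf := xf, ye := ye
        r_f := fun i => by
          show r i * f * r i * f = F.x i
          rw [mul_assoc, mul_assoc, ← mul_assoc f, fr, ← mul_assoc, rr, one_mul]
        r_y := fun i => by
          show r i * F.y i * r i * F.y i = e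
          rw [mul_assoc, mul_assoc, ← mul_assoc (F.y i), yr, ← mul_assoc, rr, one_mul]
        z_x := fun i => ?_
        z_e := fun i => ?_ }
    · show n i * f * n i * F.x i * (n i * f * n i) * F.x i = f
      have h := congrArg (fun z => n i * z * n i) (yfy i)
      rw [conj_prod (nn i) (F.y i * f) (F.y i), conj_prod (nn i) (F.y i) f, ninv i _ _ (nx i),
        conj_prod (nn i) (n i * f * n i) f, ninv i f (n i * f * n i) rfl] at h
      rw [mul_assoc, mul_assoc, ← mul_assoc (F.x i), h, fz, ← mul_assoc, zz, one_mul]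
    · show n i * f * n i * e * (n i * f * n i) * e = F.y i
      have h : e * (n i * f * n i) * e = F.y i * (n i * f * n i) := by
        calc e * (n i * f * n i) * e = e * n i * f * (n i * e) := by simp only [mul_assoc]
          _ = n i * (r i * f * r i) * n i := by
            rw [show e * n i = n i * r i by rw [← ne' i]; simp only [← mul_assoc, nn, one_mul],
              show n i * e = r i * n i by rw [← ne' i]; simp only [mul_assoc, nn, mul_one]]
            simp only [mul_assoc]
          _ = n i * (F.x i * f) * n i := by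
            congr 2
            calc r i * f * r i = r i * (f * r i * f) * f := by simp only [mul_assoc, ff, mul_one]
              _ = F.x i * f := by rw [fr, ← mul_assoc, rr, one_mul]
          _ = _ := by rw [conj_prod (nn i), nx]
      rw [mul_assoc, mul_assoc, ← mul_assoc e, h, yz, ← mul_assoc, zz, one_mul]
  · refine O.gen.trans ((closure_le _).2 ?_)
    have gx : ∀ i, F.x i ∈ (⟨F.x, F.y, r, fun i => n i * f * n i, e, f⟩ : Nodes G).M :=
      fun i => subset_closure (Or.inl (Or.inl ⟨i, rfl⟩))
    have ge : F.w (sub 0) ∈ (⟨F.x, F.y, r, fun i => n i * f * n i, e, f⟩ : Nodes G).M := by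
      rw [← val_one O, ← he]; exact subset_closure (Or.inr (Or.inl rfl))
    have gstep : ∀ (i : Fin 3) (a : Fin 3 → Bool), a i = false →
        F.w a ∈ (⟨F.x, F.y, r, fun i => n i * f * n i, e, f⟩ : Nodes G).M →
        F.w (Function.update a i true) ∈
          (⟨F.x, F.y, r, fun i => n i * f * n i, e, f⟩ : Nodes G).M := fun i a ha hm => by
      have := mul_mem (inv_mem hm) (mul_mem (mul_mem (gx i) hm) (gx i))
      rwa [O.x_add i a ha, inv_mul_cancel_left] at this
    have gw : ∀ a, F.w a ∈ (⟨F.x, F.y, r, fun i => n i * f * n i, e, f⟩ : Nodes G).M := by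
      intro a
      have step : ∀ (i : Fin 3) (b : Fin 3 → Bool) (v : Bool), b i = false →
          F.w b ∈ (⟨F.x, F.y, r, fun i => n i * f * n i, e, f⟩ : Nodes G).M →
          F.w (Function.update b i v) ∈
            (⟨F.x, F.y, r, fun i => n i * f * n i, e, f⟩ : Nodes G).M := fun i b v hb hm => by
        cases v
        · rwa [← hb, Function.update_eq_self]
        · exact gstep i b hb hm
      have key : ∀ a : Fin 3 → Bool, Function.update (Function.update (Function.update (sub 0)
          0 (a 0)) 1 (a 1)) 2 (a 2) = a := by decide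
      rw [← key a]
      refine step 2 _ _ ?_ (step 1 _ _ ?_ (step 0 _ _ ?_ ge)) <;> simp [sub]
    rintro a ((⟨b, rfl⟩ | ⟨i, rfl⟩) | ⟨i, rfl⟩)
    · exact gw b
    · exact gx i
    · exact subset_closure (Or.inl (Or.inr ⟨i, rfl⟩))
  · rw [hm]
    exact mul_mem (mul_mem (subset_closure (Or.inr (Or.inl rfl)))
      (subset_closure (Or.inr (Or.inr rfl)))) (subset_closure (Or.inr (Or.inl rfl)))
  · rw [inv_eq_of_mul_eq_one_right mm, mt, hq]

end

end CfsgLib.DFour.Code

namespace CfsgLib.DFour

universe u

/-- Piece: the nodes. -/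
theorem nodes : NodesStmt.{u} := fun G _ _ t S g P F O => Code.exists_nodes O P

end CfsgLib.DFour
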