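import Cfsg.Agent.Lib.DFour.PairCard
import Cfsg.Agent.Lib.DFour.LocalModule

/-!
# A conjugate of the involution in the core (S3345, piece `Pair`)

The core modulo its centre is a module for the Levi complement; the conjugate `q` gives a vector
fixed by the three flips, in the image of each `τ - 1` and moved by each element of order three, so
`LocalModule.fpf` applies.
-/

set_option autoImplicit false
set_option linter.unusedSectionVars false

namespace CfsgLib.DFour.Pair

open Subgroup PairPerm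

universe u

variable {G : Type u} [Group G] [Finite G] {t : G} (S : Setting t)

/-- The core modulo its centre. -/
abbrev V : Type u := Additive (Abelianization ↥S.Q)

/-- The class of an element. -/
def v (a : ↥S.Q) : V S := Additive.ofMul (Abelianization.of a)

/-- Conjugation of the core by an element of the centralizer. -/
def conjQ (c : ↥(centralizer ({t} : Set G))) : ↥S.Q →* ↥S.Q :=
  ((MulAut.conj (c : G)).toMonoidHom.comp S.Q.subtype).codRestrict S.Q
    fun a => S.normal c c.2 a a.2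

/-- The action of the centralizer on the core modulo its centre. -/
def act (c : ↥(centralizer ({t} : Set G))) : V S →+ V S :=
  MonoidHom.toAdditive (Abelianization.map (conjQ S c))

/-- The action of the Levi complement. -/
noncomputable def ρ (w : W) : V S →+ V S := act S (Function.surjInv S.surj w)

omit [Finite G] in
theorem act_v (c : ↥(centralizer ({t} : Set G))) (a : ↥S.Q) :
    act S c (v S a) = v S (conjQ S c a) := rfl

omit [Finite G] in
theorem v_mul (a b : ↥S.Q) : v S (a * b) = v S a + v S b := rfl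

omit [Finite G] in
theorem exists_v (x : V S) : ∃ a : ↥S.Q, v S a = x := by
  obtain ⟨a, ha⟩ := QuotientGroup.mk_surjective (s := commutator ↥S.Q) (Additive.toMul x)
  exact ⟨a, congrArg Additive.ofMul ha⟩

theorem commutator_eq : commutator ↥S.Q = center ↥S.Q := by
  refine le_antisymm ?_ ?_
  · rw [commutator_eq_closure, Subgroup.closure_le]
    rintro _ ⟨a, b, rfl⟩
    exact comm_center S a b
  · by_cases h : ∃ a b : ↥S.Q, a * b ≠ b * a
    · obtain ⟨a, b, hab⟩ := h
      rw [center_eq S, zpowers_le]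
      have hc : (a : G) * b * (a : G)⁻¹ * (b : G)⁻¹ = t :=
        (S.comm a a.2 b b.2).resolve_left fun h => hab
          ((commutatorElement_eq_one_iff_mul_comm (g₁ := a)).1 (Subtype.ext h))
      rw [← (Subtype.ext hc : a * b * a⁻¹ * b⁻¹ = (⟨t, S.t_mem⟩ : ↥S.Q)), ← commutatorElement_def]
      exact commutator_mem_commutator (mem_top a) (mem_top b)
    · exfalso
      push Not at h
      have := abelian_le S (le_refl S.Q) fun a ha b hb =>
        congrArg Subtype.val (h ⟨a, ha⟩ ⟨b, hb⟩)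
      rw [S.Q_card] at this
      norm_num at this

theorem v_eq_zero (a : ↥S.Q) : v S a = 0 ↔ (a : G) = 1 ∨ (a : G) = t := by
  rw [← mem_center_iff' S, ← commutator_eq S]
  exact QuotientGroup.eq_one_iff a

theorem v_eq (a b : ↥S.Q) : v S a = v S b ↔ (a : G) = b ∨ (a : G) = b * t := by
  have h : v S a = v S b ↔ v S (b⁻¹ * a) = 0 := by
    rw [v_mul, show v S b⁻¹ = -v S b from rfl, neg_add_eq_zero, eq_comm]
  rw [h, v_eq_zero]
  simp only [Subgroup.coe_mul, InvMemClass.coe_inv, inv_mul_eq_iff_eq_mul, mul_one]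

theorem v_two (x : V S) : x + x = 0 := by
  obtain ⟨a, rfl⟩ := exists_v S x
  rw [← v_mul, v_eq_zero]
  exact S.sq a a.2

theorem card_V : Nat.card (V S) = 256 := by
  have h := (commutator ↥S.Q).card_mul_index
  rw [commutator_eq S, card_center S, S.Q_card, ← commutator_eq S] at h
  show (commutator ↥S.Q).index = 256
  omega

omit [Finite G] in
theorem act_mul (c d : ↥(centralizer ({t} : Set G))) (x : V S) :
    act S (c * d) x = act S c (act S d x) := by
  obtain ⟨a, rfl⟩ := exists_v S x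
  simp only [act_v]
  exact congrArg (v S) (Subtype.ext (by simp [conjQ, mul_assoc]))

omit [Finite G] in
theorem act_of_mem {c : ↥(centralizer ({t} : Set G))} (hc : (c : G) ∈ S.Q) (x : V S) :
    act S c x = x := by
  obtain ⟨a, rfl⟩ := exists_v S x
  rw [act_v, show conjQ S c a = ⟨(c : G), hc⟩ * a * ⟨(c : G), hc⟩⁻¹ from Subtype.ext rfl, v_mul,
    v_mul, show v S (⟨(c : G), hc⟩⁻¹ : ↥S.Q) = -v S ⟨(c : G), hc⟩ from rfl]
  abel

omit [Finite G] in
theorem ρ_φ (c : ↥(centralizer ({t} : Set G))) (x : V S) : ρ S (S.φ c) x = act S c x := by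
  set d := Function.surjInv S.surj (S.φ c)
  have hd : ((d⁻¹ * c : ↥(centralizer ({t} : Set G))) : G) ∈ S.Q := by
    rw [← S.ker, map_mul, map_inv, Function.surjInv_eq S.surj, inv_mul_cancel]
  show act S d x = act S c x
  conv_rhs => rw [← mul_inv_cancel_left d c, act_mul, act_of_mem S hd]

omit [Finite G] in
theorem ρ_mul (a b : W) (x : V S) : ρ S (a * b) x = ρ S a (ρ S b x) := by
  obtain ⟨c, rfl⟩ := S.surj a
  obtain ⟨d, rfl⟩ := S.surj b
  rw [← map_mul, ρ_φ, ρ_φ, ρ_φ, act_mul]

omit [Finite G] in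
theorem ρ_one (x : V S) : ρ S 1 x = x := by
  rw [← map_one S.φ, ρ_φ]
  exact act_of_mem S (by simp) x

/-- The three copies of the symmetric group of degree three acting on the core modulo its centre,
with a given choice of flips. -/
noncomputable def actS (σ : Fin 3 → Equiv.Perm (Fin 3)) (hσ : ∀ i, σ i ≠ 1)
    (hσ' : ∀ i, σ i * σ i = 1) : LocalModule.Act (V S) where
  p i := ρ S (Pi.mulSingle i rot)
  τ i := ρ S (Pi.mulSingle i (σ i))
  two := v_two S
  cube i x := by
    rw [← ρ_mul, ← ρ_mul, ← Pi.mulSingle_mul, ← Pi.mulSingle_mul, rot_cube, Pi.mulSingle_one,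
      ρ_one]
  flip i x := by
    rw [← ρ_mul, ← ρ_mul, ← ρ_mul, ← Pi.mulSingle_mul, ← Pi.mulSingle_mul, ← Pi.mulSingle_mul,
      perm_flip _ (hσ i) (hσ' i)]
  pp i j x h := by
    rw [← ρ_mul, ← ρ_mul]
    exact congrArg (fun w => ρ S w x)
      (Pi.mulSingle_commute (f := fun _ => Equiv.Perm (Fin 3)) h rot rot)
  tp i j x h := by
    rw [← ρ_mul, ← ρ_mul]
    exact congrArg (fun w => ρ S w x)
      (Pi.mulSingle_commute (f := fun _ => Equiv.Perm (Fin 3)) h (σ i) rot)

section
variable {g : G} (hq : g * t * g⁻¹ ∈ S.Q) (hne : g * t * g⁻¹ ≠ t)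
include hq hne

/-- An element of `C_{Q'}(t)` outside the core moves some element of `Q ∩ Q'` by `q`. -/
theorem exists_comm {b : G} (hb : b ∈ S.Qc g) (hbQ : b ∉ S.Q) :
    ∃ a ∈ S.Q ⊓ S.Qc g, b * a * b⁻¹ = g * t * g⁻¹ * a := by
  have hc : ∀ a ∈ S.Q ⊓ S.Qc g, b * a = a * b ∨ b * a * b⁻¹ = g * t * g⁻¹ * a := by
    intro a ha
    have h1 := (mem_Qc S).1 hb
    have h2 := (mem_Qc S).1 ha.2
    have e : b * a * b⁻¹ * a⁻¹ = g * (g⁻¹ * b * g * (g⁻¹ * a * g) * (g⁻¹ * b * g)⁻¹ *
        (g⁻¹ * a * g)⁻¹) * g⁻¹ := by simp [mul_assoc]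
    rcases S.comm _ h1 _ h2 with h | h <;> rw [h] at e
    · refine Or.inl ((commutatorElement_eq_one_iff_mul_comm (g₁ := b)).1 ?_)
      rw [commutatorElement_def, e]
      group
    · exact Or.inr (mul_inv_eq_iff_eq_mul.1 e)
  by_contra! hno
  set J := (S.Q ⊓ S.Qc g : Subgroup G)
  have hbc : ∀ a ∈ J, b * a = a * b := fun a ha => (hc a ha).resolve_right (hno a ha)
  set A := (J ⊔ zpowers b : Subgroup G)
  have hA : A ≤ centralizer (A : Set G) := by
    rw [CfsgLib.PGroups.centralizer_sup_zpowers]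
    refine le_inf (sup_le (fun a ha c hc => (meet_comm S hq hne a ha c hc).symm) ?_)
      (sup_le (fun a ha => ?_) (zpowers_le.2 (mem_centralizer_singleton_iff.2 rfl)))
    · exact zpowers_le.2 fun a ha => (hbc a ha).symm
    · exact mem_centralizer_singleton_iff.2 (hbc a ha).symm
  have hle : A.map (MulAut.conj g⁻¹).toMonoidHom ≤ S.Q := by
    rw [Subgroup.map_le_iff_le_comap]
    intro x hx
    have : A ≤ S.Qc g := sup_le inf_le_right (zpowers_le.2 hb)
    simpa using (mem_Qc S).1 (this hx)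
  have h32 := abelian_le S hle (by
    rintro _ ⟨a, ha, rfl⟩ _ ⟨c, hc, rfl⟩
    rw [← map_mul, ← map_mul, hA hc a ha])
  rw [Subgroup.card_map_of_injective (MulAut.conj g⁻¹).injective,
    ← meet_card S hq hne] at h32
  have he : J = A := Subgroup.eq_of_le_of_card_ge le_sup_left h32
  have hbJ : b ∈ J := he ▸ mem_sup_right (mem_zpowers b)
  exact hbQ hbJ.1

/-- The flips and the module properties of `q`. -/
theorem module_facts :
    (∀ i x, ρ S (Pi.mulSingle i rot) x = x → x = 0) ∧
    (∀ a ∈ S.Q, (∀ b ∈ S.Qc g ⊓ centralizer ({t} : Set G),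
      b * a * b⁻¹ = a ∨ b * a * b⁻¹ = a * t) →
      a = 1 ∨ a = t ∨ a = g * t * g⁻¹ ∨ a = g * t * g⁻¹ * t) := by
  obtain ⟨σ, hσ, hσ', hmem, -⟩ := sylow (fun x hx => imgQc_sq S (g := g) hx)
    (card_range_imgQc S hq hne)
  set A := actS S σ hσ hσ'
  set u : V S := v S ⟨g * t * g⁻¹, hq⟩ with hu_def
  choose b hb using hmem
  have hbv : ∀ i (a : ↥S.Q), A.τ i (v S a) =
      v S (conjQ S (Subgroup.inclusion inf_le_right (b i)) a) := fun i a => by
    show ρ S _ _ = _
    rw [← hb i]
    exact (ρ_φ S _ _).trans (act_v S _ _)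
  have hu : ∀ i, A.τ i u = u := fun i => by
    rw [hu_def, hbv, v_eq]
    refine Or.inl ?_
    show (b i : G) * (g * t * g⁻¹) * (b i : G)⁻¹ = g * t * g⁻¹
    exact mul_inv_eq_iff_eq_mul.2 (mem_centralizer_singleton_iff.1 (Qc_le S (b i).2.1))
  have him : ∀ i, ∃ x, A.τ i x = x + u := fun i => by
    have hbQ : (b i : G) ∉ S.Q := fun h => by
      have h1 : imgQc S g (b i) = 1 :=
        (S.ker (Subgroup.inclusion inf_le_right (b i))).2 h
      rw [hb i, Pi.mulSingle_eq_one_iff] at h1
      exact hσ i h1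
    obtain ⟨a, ha, hab⟩ := exists_comm S hq hne (b i).2.1 hbQ
    refine ⟨v S ⟨a, ha.1⟩, ?_⟩
    rw [hbv, add_comm, hu_def, ← v_mul, v_eq]
    exact Or.inl hab
  have hu0 : u ≠ 0 := fun h => by
    rcases (v_eq_zero S _).1 h with h | h
    · exact q_ne_one S h
    · exact hne h
  have hmove : ∀ i, A.p i u ≠ u := fun i h => by
    obtain ⟨c, hc⟩ := S.surj (Pi.mulSingle i rot)
    have h' : ρ S (S.φ c) u = u := by rw [hc]; exact h
    rw [hu_def, ρ_φ, act_v, v_eq] at h'
    have hm := imgQc_sq S (stab_mem S hq hne c h')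
    rw [hc, ← Pi.mulSingle_mul, Pi.mulSingle_eq_one_iff] at hm
    exact rot_sq_ne hm
  have hfree := LocalModule.fpf A (card_V S) hu him hmove
  refine ⟨hfree, fun a ha hfix => ?_⟩
  have hx : ∀ i, A.τ i (v S ⟨a, ha⟩) = v S ⟨a, ha⟩ := fun i => by
    rw [hbv, v_eq]
    exact hfix _ (b i).2
  rcases LocalModule.fix_unique A (card_V S) hfree hu hu0 hx with h | h
  · rcases (v_eq_zero S _).1 h with h | h
    · exact Or.inl h
    · exact Or.inr (Or.inl h)
  · rw [hu_def] at h
    rcases (v_eq S _ _).1 h with h | h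
    · exact Or.inr (Or.inr (Or.inl h))
    · exact Or.inr (Or.inr (Or.inr h))

end

/-- The facts about a conjugate of `t` in the core. -/
theorem pair : PairStmt.{u} := by
  intro G _ _ t S g hq hne
  obtain ⟨hfree, hfix⟩ := module_facts S hq hne
  refine ⟨hq, hne, t_mem S hq hne, meet_card S hq hne, meet_sq S hq hne, cent_card S hq hne,
    fun c hc => imgQc_sq S (stab_mem S hq hne c hc), ?_, hfix⟩
  intro c hc1 hc3 ⟨i, hi⟩ a ha hfixa
  have hsingle : S.φ c = Pi.mulSingle i (S.φ c i) := by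
    funext j
    rcases eq_or_ne j i with rfl | h
    · rw [Pi.mulSingle_eq_same]
    · rw [Pi.mulSingle_eq_of_ne h, hi j h]
  have hne1 : S.φ c i ≠ 1 := fun h => hc1 (by rw [hsingle, h, Pi.mulSingle_one])
  have h3 : S.φ c i * S.φ c i * S.φ c i = 1 := by
    have := congrFun hc3 i
    rwa [pow_succ, pow_two, Pi.mul_apply, Pi.mul_apply] at this
  have hx : ρ S (S.φ c) (v S ⟨a, ha⟩) = v S ⟨a, ha⟩ := by
    rw [ρ_φ, act_v, v_eq]
    exact hfixa
  have hp : ρ S (Pi.mulSingle i rot) (v S ⟨a, ha⟩) = v S ⟨a, ha⟩ := by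
    rw [hsingle] at hx
    rcases perm_three _ hne1 h3 with h | h <;> rw [h] at hx
    · exact hx
    · rw [Pi.mulSingle_mul, ρ_mul] at hx
      conv_lhs => rw [← hx]
      rw [← ρ_mul, ← ρ_mul, ← Pi.mulSingle_mul, ← Pi.mulSingle_mul, rot_cube,
        Pi.mulSingle_one, ρ_one]
  exact (v_eq_zero S ⟨a, ha⟩).1 (hfree i _ hp)

end CfsgLib.DFour.Pair
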