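import Cfsg.Agent.Lib.DFour.IsolatedStmt
import Cfsg.Agent.Lib.DFour.Pair
import Cfsg.Agent.Lib.DFour.Frame
import Cfsg.Agent.Lib.DFour.Nodes
import Cfsg.Agent.Lib.DFour.Hom
import Cfsg.Agent.Lib.Components.FStar
import Cfsg.Agent.Lib.PGroups.Basic
import Cfsg.Agent.Lib.ThreeTransp.LargeSimple
import Cfsg.Agent.Lib.Involutions.ZStar.Main

/-!
# Assembly of statement S3345

A group with an involution centralizer `2^(1+8).(S₃ × S₃ × S₃)` in which the involution is not
isolated is `Ω⁺₈(2)`, given the census.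
-/

set_option autoImplicit false
set_option linter.style.haveILetI false

namespace CfsgLib.DFour

open Subgroup
open scoped commutatorElement

universe u

/-- A triple as a function. -/
def funHom : Equiv.Perm (Fin 3) × Equiv.Perm (Fin 3) × Equiv.Perm (Fin 3) →*
    (Fin 3 → Equiv.Perm (Fin 3)) where
  toFun f := ![f.1, f.2.1, f.2.2]
  map_one' := by funext i; fin_cases i <;> rfl
  map_mul' a b := by funext i; fin_cases i <;> rfl

theorem perm_three_comm : ∀ a b : Equiv.Perm (Fin 3), a ^ 4 = 1 → b ^ 4 = 1 →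
    (a * b * a⁻¹ * b⁻¹) ^ 2 = 1 → a * b * a⁻¹ * b⁻¹ = 1 := by decide +kernel

theorem setting_of_hyp {G : Type u} [Group G] [Finite G] (t : G) (ht : orderOf t = 2)
    (hF : Cfsg.IsExtraspecial 2
      (Cfsg.generalizedFittingSubgroup ↥(centralizer ({t} : Set G))))
    (hFcard : Nat.card (Cfsg.generalizedFittingSubgroup ↥(centralizer ({t} : Set G))) = 2 ^ 9)
    (e : ↥(centralizer ({t} : Set G)) ⧸ Cfsg.pCore 2 ↥(centralizer ({t} : Set G)) ≃*
      Equiv.Perm (Fin 3) × Equiv.Perm (Fin 3) × Equiv.Perm (Fin 3))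
    (hcc : centralizer (((Cfsg.pCore 2 ↥(centralizer ({t} : Set G))).map
        (centralizer ({t} : Set G)).subtype : Subgroup G) : Set G) ≤
      (Cfsg.pCore 2 ↥(centralizer ({t} : Set G))).map (centralizer ({t} : Set G)).subtype) :
    ∃ S : Setting t, 4096 ∣ Nat.card (centralizer ({t} : Set G)) := by
  haveI : Fact (Nat.Prime 2) := ⟨Nat.prime_two⟩
  have hFC := Components.fstar_eq_pCore_of_isPGroup hF.1.1
  rw [hFC] at hFcard
  obtain ⟨Q, hQ⟩ : ∃ Q : Subgroup G, Q = (Cfsg.pCore 2 ↥(centralizer ({t} : Set G))).map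
      (centralizer ({t} : Set G)).subtype := ⟨_, rfl⟩
  have hE : Cfsg.IsExtraspecial 2 ↥Q := by
    rw [hQ, ← hFC]
    exact ThreeTransp.extraspecial_map hF
  obtain ⟨hZ, -, -⟩ := ThreeTransp.fstar_setting ht (Q := Q) (by rw [hFC, hQ]) hE
  have hcen : ∀ a ∈ ThreeTransp.centerIn Q, a = 1 ∨ a = t := by
    intro a ha
    rw [hZ] at ha
    obtain ⟨n, rfl⟩ := mem_zpowers_iff.1 ha
    have h2 : t ^ (2 : ℤ) = 1 := by
      rw [show (2 : ℤ) = ((2 : ℕ) : ℤ) from rfl, zpow_natCast, ← ht, pow_orderOf_eq_one]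
    rcases Int.even_or_odd n with ⟨i, rfl⟩ | ⟨i, rfl⟩
    · left; rw [← two_mul, zpow_mul, h2, one_zpow]
    · right; rw [zpow_add, zpow_mul, h2, one_zpow, one_mul, zpow_one]
  have hle : Q ≤ centralizer ({t} : Set G) := hQ ▸ map_subtype_le _
  have hmemQ : ∀ c : ↥(centralizer ({t} : Set G)),
      c ∈ Cfsg.pCore 2 ↥(centralizer ({t} : Set G)) ↔ (c : G) ∈ Q := fun c => by
    rw [hQ]
    exact ⟨fun h => ⟨c, h, rfl⟩, fun ⟨d, hd, hdc⟩ => Subtype.ext hdc ▸ hd⟩
  have hcentre : ∀ x : Q, x ∈ Subgroup.center Q → (x : G) ∈ ThreeTransp.centerIn Q :=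
    fun x hx => ⟨x, hx, rfl⟩
  haveI : (Cfsg.pCore 2 ↥(centralizer ({t} : Set G))).Normal := inferInstance
  refine ⟨
    { Q := Q
      φ := funHom.comp (e.toMonoidHom.comp
        (QuotientGroup.mk' (Cfsg.pCore 2 ↥(centralizer ({t} : Set G)))))
      invol := ht
      Q_eq := hQ
      Q_le := hle
      Q_card := by
        rw [hQ, card_map_of_injective (centralizer ({t} : Set G)).subtype_injective, hFcard]
      t_mem := (ThreeTransp.mem_centerIn.1 (hZ ▸ mem_zpowers t)).1
      center := fun a ha h => hcen a (ThreeTransp.mem_centerIn.2 ⟨ha, fun b hb => (h b hb).symm⟩)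
      sq := fun a ha => by
        have h := PGroups.pow_mem_frattini hE.1.1 (⟨a, ha⟩ : Q)
        rw [hE.1.2.1] at h
        simpa [pow_two] using hcen _ (hcentre _ h)
      comm := fun a ha b hb => by
        have h : ⁅(⟨a, ha⟩ : Q), (⟨b, hb⟩ : Q)⁆ ∈ commutator Q :=
          commutator_mem_commutator (mem_top _) (mem_top _)
        rw [hE.1.2.2] at h
        simpa [commutatorElement_def] using hcen _ (hcentre _ h)
      normal := fun c hc a ha => by
        have h := (hmemQ ⟨a, hle ha⟩).2 ha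
        exact (hmemQ _).1 (Subgroup.Normal.conj_mem inferInstance _ h ⟨c, hc⟩)
      self := by rw [hQ]; exact hcc
      surj := fun f => by
        obtain ⟨c, hc⟩ := QuotientGroup.mk'_surjective _ (e.symm (f 0, f 1, f 2))
        refine ⟨c, ?_⟩
        rw [MonoidHom.comp_apply, MonoidHom.comp_apply, hc, MulEquiv.coe_toMonoidHom,
          MulEquiv.apply_symm_apply]
        funext i; fin_cases i <;> rfl
      ker := fun c => by
        rw [← hmemQ, ← QuotientGroup.eq_one_iff, MonoidHom.comp_apply, MonoidHom.comp_apply,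
          MulEquiv.coe_toMonoidHom]
        refine ⟨fun h => e.map_eq_one_iff.1 ?_, fun h => ?_⟩
        · exact Prod.ext (congrFun h 0) (Prod.ext (congrFun h 1) (congrFun h 2))
        · rw [QuotientGroup.mk'_apply, h, map_one, map_one] }, ?_⟩
  rw [card_eq_card_quotient_mul_card_subgroup
    (Cfsg.pCore 2 ↥(centralizer ({t} : Set G))), hFcard, Nat.card_congr e.toEquiv]
  simp only [Nat.card_prod, Nat.card_perm, Nat.card_fin]
  decide

/-- A non-isolated involution gives `Ω⁺₈(2)`. -/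
theorem omega_of_conjugate (hcensus : CensusStmt.{u}) {G : Type u} [Group G] [Finite G] {t : G}
    (S : Setting t) (h4096 : 4096 ∣ Nat.card (centralizer ({t} : Set G))) {g : G}
    (hg : g * t * g⁻¹ ∈ S.Q) (hne : g * t * g⁻¹ ≠ t) : Nonempty (G ≃* Model) := by
  have P := Pair.pair G t S g hg hne
  obtain ⟨F, O⟩ := frame G t S g P
  obtain ⟨N, R, hCM, m, hmM, hm⟩ := nodes G t S g P F O
  have hQM : S.Q ≤ N.M := S.Q_le.trans hCM
  obtain ⟨iso⟩ := hom G N R fun z hz hzc => by
    have hzQ : z ∈ S.Q := S.self (mem_centralizer_iff.2 fun a ha => (hzc a (hQM ha)).symm)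
    rcases S.center z hzQ (fun b hb => hzc b (hQM hb)) with h | h
    · exact h
    · exfalso
      subst h
      exact hne (by rw [← hm, ← hzc m hmM, mul_inv_cancel_right])
  have htop := hcensus G t N.M S.invol hCM h4096 ⟨iso⟩ fun a haC hat => by
    intro hfix
    obtain ⟨u, hu, v, hv, hau, hav, huv⟩ := hfix
    rw [← S.Q_eq] at hu hv
    by_cases haQ : a ∈ S.Q
    · by_cases ha1 : a = t
      · exact ⟨1, one_mem _, by rw [ha1]; group⟩
      obtain ⟨c, hc, hca⟩ := O.in_Q a haQ hat ha1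
      exact ⟨c * m, mul_mem (hCM hc) hmM, by rw [← hca, ← hm]; group⟩
    obtain ⟨k, hk⟩ := isConj_iff.1 hat
    have hmem : ∀ b : G, a * b = b * a → k⁻¹ * b * k ∈ centralizer ({t} : Set G) := fun b hb => by
      rw [mem_centralizer_singleton_iff]
      calc k⁻¹ * b * k * t = k⁻¹ * (b * (k * t * k⁻¹)) * k := by group
        _ = k⁻¹ * ((k * t * k⁻¹) * b) * k := by rw [hk, hb]
        _ = t * (k⁻¹ * b * k) := by group
    have htt : t * t = 1 := Code.tt S
    have hcomm : u * v * u⁻¹ * v⁻¹ = t := by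
      refine (S.comm u hu v hv).resolve_left fun h => huv ?_
      calc u * v = u * v * u⁻¹ * v⁻¹ * (v * u) := by group
        _ = v * u := by rw [h, one_mul]
    have hat' : a * t = t * a := mem_centralizer_singleton_iff.1 haC
    obtain ⟨u', hu'⟩ : ∃ u' : ↥(centralizer ({t} : Set G)), (u' : G) = k⁻¹ * u * k :=
      ⟨⟨_, hmem u hau⟩, rfl⟩
    obtain ⟨v', hv'⟩ : ∃ v' : ↥(centralizer ({t} : Set G)), (v' : G) = k⁻¹ * v * k :=
      ⟨⟨_, hmem v hav⟩, rfl⟩
    obtain ⟨t', ht'⟩ : ∃ t' : ↥(centralizer ({t} : Set G)), (t' : G) = k⁻¹ * t * k :=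
      ⟨⟨_, hmem t hat'⟩, rfl⟩
    have e1 : u' * v' * u'⁻¹ * v'⁻¹ = t' := by
      apply Subtype.ext
      simp only [Subgroup.coe_mul, Subgroup.coe_inv, hu', hv', ht']
      rw [← hcomm]
      group
    have p4 : ∀ b : ↥(centralizer ({t} : Set G)), ∀ c ∈ S.Q, (b : G) = k⁻¹ * c * k →
        b ^ 4 = 1 := fun b c hc hb => by
      apply Subtype.ext
      rw [SubmonoidClass.coe_pow, OneMemClass.coe_one, hb]
      calc (k⁻¹ * c * k) ^ 4 = k⁻¹ * (c * c * (c * c)) * k := by
            rw [show (4 : ℕ) = 2 + 2 from rfl, pow_add, pow_two]; group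
        _ = 1 := by rcases S.sq c hc with h | h <;> rw [h] <;> simp [htt]
    have hker : S.φ t' = 1 := by
      funext i
      have h4 : ∀ b, b ^ 4 = 1 → S.φ b i ^ 4 = 1 := fun b hb => by
        rw [← Pi.pow_apply, ← map_pow, hb, map_one]
        rfl
      have e2 : S.φ t' i = S.φ u' i * S.φ v' i * (S.φ u' i)⁻¹ * (S.φ v' i)⁻¹ := by
        rw [← e1]; simp
      rw [e2, Pi.one_apply]
      refine perm_three_comm _ _ (h4 u' (p4 u' u hu hu')) (h4 v' (p4 v' v hv hv')) ?_
      rw [← e2, ← Pi.pow_apply, ← map_pow, show t' ^ 2 = 1 from Subtype.ext (by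
        rw [SubmonoidClass.coe_pow, OneMemClass.coe_one, ht', pow_two,
          show k⁻¹ * t * k * (k⁻¹ * t * k) = k⁻¹ * (t * t) * k by group, htt]
        group), map_one]
      rfl
    have hQt : k⁻¹ * t * k ∈ S.Q := ht' ▸ (S.ker t').1 hker
    have hne' : k⁻¹ * t * k ≠ t := fun h => haQ (by
      have h2 : k * t * k⁻¹ = t := by
        conv_lhs => rw [← h]
        group
      rw [← hk, h2]
      exact S.t_mem)
    obtain ⟨c, hc, hcq⟩ := O.in_Q _ hQt (isConj_iff.2 ⟨k⁻¹, by group⟩) hne'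
    have hkc : k * c * m ∈ N.M := hCM (mem_centralizer_singleton_iff.2 (by
      calc k * c * m * t = k * (c * (m * t * m⁻¹) * c⁻¹) * k⁻¹ * (k * c * m) := by group
        _ = t * (k * c * m) := by rw [hm, hcq]; group))
    refine ⟨k, ?_, hk⟩
    have h5 := mul_mem hkc (inv_mem (mul_mem (hCM hc) hmM))
    rwa [show k * c * m * (c * m)⁻¹ = k by group] at h5
  exact ⟨((MulEquiv.subgroupCongr htop).trans Subgroup.topEquiv).symm.trans iso.symm⟩

/-- The statement, given the census. -/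
theorem main (hcensus : CensusStmt.{u}) {G : Type u} [Group G] [Finite G] (t : G)
    (ht : orderOf t = 2)
    (hF : Cfsg.IsExtraspecial 2
      (Cfsg.generalizedFittingSubgroup ↥(centralizer ({t} : Set G))))
    (hFcard : Nat.card (Cfsg.generalizedFittingSubgroup ↥(centralizer ({t} : Set G))) = 2 ^ 9)
    (e : ↥(centralizer ({t} : Set G)) ⧸ Cfsg.pCore 2 ↥(centralizer ({t} : Set G)) ≃*
      Equiv.Perm (Fin 3) × Equiv.Perm (Fin 3) × Equiv.Perm (Fin 3))
    (hcc : centralizer (((Cfsg.pCore 2 ↥(centralizer ({t} : Set G))).map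
        (centralizer ({t} : Set G)).subtype : Subgroup G) : Set G) ≤
      (Cfsg.pCore 2 ↥(centralizer ({t} : Set G))).map (centralizer ({t} : Set G)).subtype) :
    (∀ g : G, g * t * g⁻¹ * t⁻¹ ∈ Cfsg.oddCore G) ∨ Nonempty (G ≃* Model) := by
  obtain ⟨S, h4096⟩ := setting_of_hyp t ht hF hFcard e hcc
  by_cases hcl : ∀ g : G, g * t * g⁻¹ ∈ S.Q → g * t * g⁻¹ = t
  · left
    intro g
    have h := inv_mem (Involutions.ZStar.centralModCore (isolated G t S hcl) g)
    rwa [show (t * g * t⁻¹ * g⁻¹)⁻¹ = g * t * g⁻¹ * t⁻¹ by group] at h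
  · push Not at hcl
    obtain ⟨g, hg, hne⟩ := hcl
    exact Or.inr (omega_of_conjugate hcensus S h4096 hg hne)

end CfsgLib.DFour
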