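import Cfsg.Agent.Lib.DFour.Defs

/-!
# Numbers for the elements of `Q ⟨x₀, x₁, x₂⟩`

An element of `Q` is the ordered product of the eight `w a` and a power of `t`; its number has the
bit `a` for the factor `w a`, where `a < 8` is read as a subset of the three outer nodes, and the
bit `8` for `t`.
-/

set_option autoImplicit false
set_option linter.unusedVariables false
set_option linter.unusedSectionVars false
set_option linter.style.haveILetI false

namespace CfsgLib.DFour.Code

open Subgroup

/-- the subset with number `a` -/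
def sub (a : ℕ) : Fin 3 → Bool := fun i => a.testBit i

/-- the eight numbers -/
def l8 : List ℕ := [0, 1, 2, 3, 4, 5, 6, 7]

/-- the parity of the factors of `c` in `l` that do not commute with `w b` -/
def par (c : ℕ) : List ℕ → ℕ → Bool
  | [], _ => false
  | a :: l, b => Bool.xor (c.testBit a && (a + b == 7)) (par c l b)

/-- the power of `t` in a product -/
def cross (c d : ℕ) : List ℕ → Bool
  | [] => false
  | a :: l => Bool.xor (d.testBit a && par c l a) (cross c d l)

/-- multiplication -/
def mul (c d : ℕ) : ℕ := (c ^^^ d) ^^^ (bif cross c d l8 then 256 else 0)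

/-- the image of `w a` under the root element of node `i`, of sign `up` -/
def img (up : Bool) (i a : ℕ) : ℕ :=
  bif a.testBit i == up then 2 ^ a else mul (2 ^ a) (2 ^ (a ^^^ 2 ^ i))

/-- the product of the images -/
def fold (up : Bool) (i c : ℕ) : List ℕ → ℕ
  | [] => bif c.testBit 8 then 256 else 0
  | a :: l => bif c.testBit a then mul (img up i a) (fold up i c l) else fold up i c l

/-- conjugation by a root element -/
def act (up : Bool) (i c : ℕ) : ℕ := fold up i c l8

/-- conjugation by a product of the `x i` -/
def actS (s c : ℕ) : ℕ :=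
  let c0 := bif s.testBit 2 then act true 2 c else c
  let c1 := bif s.testBit 1 then act true 1 c0 else c0
  bif s.testBit 0 then act true 0 c1 else c1

/-- the number of the inverse -/
def inv (c : ℕ) : ℕ := bif cross c c l8 then c ^^^ 256 else c

universe u

variable {G : Type u} [Group G]

/-- the element `t` or the identity -/
def sgn (t : G) (b : Bool) : G := bif b then t else 1

/-- the factor at `a` -/
def fac (F : Frame G) (c a : ℕ) : G := bif c.testBit a then F.w (sub a) else 1

/-- the element with number `c` -/
def val (t : G) (F : Frame G) (c : ℕ) : G := (l8.map (fac F c)).prod * sgn t (c.testBit 8)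

/-- the product of the `x i` -/
def xp (F : Frame G) (s : ℕ) : G :=
  (bif s.testBit 0 then F.x 0 else 1) * (bif s.testBit 1 then F.x 1 else 1) *
    (bif s.testBit 2 then F.x 2 else 1)

variable {t : G} {S : Setting t} {g : G} {F : Frame G}

theorem tt (S : Setting t) : t * t = 1 := by
  rw [← sq, ← S.invol, pow_orderOf_eq_one]

theorem t_ne (S : Setting t) : t ≠ 1 := fun h => by
  have := S.invol
  rw [h, orderOf_one] at this
  omega

theorem mem_cent {a : G} (h : a ∈ centralizer ({t} : Set G)) : a * t = t * a :=
  mem_centralizer_singleton_iff.1 h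

theorem sgn_comm {a : G} (h : a * t = t * a) (b : Bool) : a * sgn t b = sgn t b * a := by
  cases b <;> simp [sgn, h]

theorem sgn_mul (S : Setting t) (a b : Bool) : sgn t a * sgn t b = sgn t (Bool.xor a b) := by
  cases a <;> cases b <;> simp [sgn, tt S]

theorem compl_iff : ∀ a < 8, ∀ b < 8, (sub b = fun i => !sub a i) ↔ (a + b = 7) := by decide

theorem update_sub : ∀ a < 8, ∀ i : Fin 3, ∀ v : Bool, sub a i ≠ v →
    Function.update (sub a) i v = sub (a ^^^ 2 ^ (i : ℕ)) := by decide

theorem sub_seven : sub 7 = fun _ => true := by decide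

theorem inv_check : ∀ c < 512, mul c (inv c) = 0 ∧ inv c < 512 := by decide +kernel

theorem bit_check : ∀ c < 512, ∀ a < 8, mul c (2 ^ (7 - a)) =
    (if c.testBit a then mul (2 ^ (7 - a)) c ^^^ 256 else mul (2 ^ (7 - a)) c) := by decide +kernel

theorem mul_lt_check : ∀ c < 512, ∀ a < 8, mul (2 ^ a) c < 512 := by decide +kernel

theorem mul_256 : ∀ c < 512, mul c 256 = c ^^^ 256 := by decide +kernel

theorem l8_lt : ∀ a ∈ l8, a < 8 := by decide

section

variable (O : F.Ok S g)
include O

theorem w_t (a : Fin 3 → Bool) : F.w a * t = t * F.w a := mem_cent (S.Q_le (O.w_mem a))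

theorem fac_t (c a : ℕ) : fac F c a * t = t * fac F c a := by
  unfold fac
  cases c.testBit a <;> simp [w_t O]

theorem prod_t (c : ℕ) : ∀ l : List ℕ, (l.map (fac F c)).prod * t = t * (l.map (fac F c)).prod
  | [] => by simp
  | a :: l => by
    rw [List.map_cons, List.prod_cons, mul_assoc, prod_t c l, ← mul_assoc, fac_t O, mul_assoc]

theorem move (c : ℕ) {b : ℕ} (hb : b < 8) : ∀ l : List ℕ, (∀ a ∈ l, a < 8) →
    (l.map (fac F c)).prod * F.w (sub b) =
      F.w (sub b) * (l.map (fac F c)).prod * sgn t (par c l b)
  | [], _ => by simp [par, sgn]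
  | a :: l, hl => by
    have ha : a < 8 := hl a (List.mem_cons_self ..)
    have ih := move c hb l fun k hk => hl k (List.mem_cons_of_mem _ hk)
    have e : fac F c a * F.w (sub b) =
        F.w (sub b) * fac F c a * sgn t (c.testBit a && (a + b == 7)) := by
      unfold fac
      cases c.testBit a
      · simp [sgn]
      · rw [cond_true, O.w_comm, Bool.true_and]
        congr 1
        by_cases h : a + b = 7
        · rw [if_pos ((compl_iff a ha b hb).2 h), beq_iff_eq.2 h]; rfl
        · rw [if_neg fun h' => h ((compl_iff a ha b hb).1 h'), beq_eq_false_iff_ne.2 h]; rfl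
    calc ((a :: l).map (fac F c)).prod * F.w (sub b)
        = fac F c a * ((l.map (fac F c)).prod * F.w (sub b)) := by simp [mul_assoc]
      _ = fac F c a * F.w (sub b) * (l.map (fac F c)).prod * sgn t (par c l b) := by
          rw [ih]; simp [mul_assoc]
      _ = F.w (sub b) * fac F c a * ((l.map (fac F c)).prod *
            sgn t (c.testBit a && (a + b == 7))) * sgn t (par c l b) := by
          rw [e, sgn_comm (prod_t O c l)]; simp [mul_assoc]
      _ = _ := by
          rw [par, ← sgn_mul S]
          simp [mul_assoc]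

theorem prod_mul (c d : ℕ) : ∀ l : List ℕ, (∀ a ∈ l, a < 8) →
    (l.map (fac F c)).prod * (l.map (fac F d)).prod =
      (l.map (fac F (c ^^^ d))).prod * sgn t (cross c d l)
  | [], _ => by simp [cross, sgn]
  | a :: l, hl => by
    have hl' : ∀ k ∈ l, k < 8 := fun k hk => hl k (List.mem_cons_of_mem _ hk)
    have ha : a < 8 := hl a (List.mem_cons_self ..)
    have ih := prod_mul c d l hl'
    have e1 : (l.map (fac F c)).prod * fac F d a =
        fac F d a * (l.map (fac F c)).prod * sgn t (d.testBit a && par c l a) := by
      unfold fac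
      cases d.testBit a
      · simp [sgn]
      · exact move O c ha l hl'
    have e2 : fac F c a * fac F d a = fac F (c ^^^ d) a := by
      unfold fac
      rw [Nat.testBit_xor]
      cases c.testBit a <;> cases d.testBit a <;> simp [O.w_sq]
    simp only [List.map_cons, List.prod_cons]
    calc fac F c a * (l.map (fac F c)).prod * (fac F d a * (l.map (fac F d)).prod)
        = fac F c a * ((l.map (fac F c)).prod * fac F d a) * (l.map (fac F d)).prod := by
          simp [mul_assoc]
      _ = fac F c a * fac F d a * (l.map (fac F c)).prod *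
            ((l.map (fac F d)).prod * sgn t (d.testBit a && par c l a)) := by
          rw [e1, sgn_comm (prod_t O d l)]
          simp [mul_assoc]
      _ = fac F (c ^^^ d) a * ((l.map (fac F c)).prod * (l.map (fac F d)).prod) *
            sgn t (d.testBit a && par c l a) := by rw [e2]; simp [mul_assoc]
      _ = _ := by
          rw [ih, cross, Bool.xor_comm, ← sgn_mul S]
          simp [mul_assoc]


theorem prod_congr {c d : ℕ} : ∀ l : List ℕ, (∀ a ∈ l, a < 8) →
    (∀ a < 8, c.testBit a = d.testBit a) → (l.map (fac F c)).prod = (l.map (fac F d)).prod :=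
  fun l hl h => congrArg List.prod (List.map_congr_left fun a ha => by
    unfold fac
    rw [h a (hl a ha)])

theorem val_mul (c d : ℕ) : val t F c * val t F d = val t F (mul c d) := by
  have e : ∀ a < 8, (mul c d).testBit a = (c ^^^ d).testBit a := by
    intro a ha
    unfold mul
    cases cross c d l8
    · simp
    · rw [cond_true, Nat.testBit_xor, show (256 : ℕ) = 2 ^ 8 from rfl, Nat.testBit_two_pow]
      simp [show ¬ 8 = a by omega]
  have e8 : (mul c d).testBit 8 = Bool.xor (Bool.xor (c.testBit 8) (d.testBit 8)) (cross c d l8) := by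
    unfold mul
    cases cross c d l8 <;> simp [Nat.testBit_xor, show Nat.testBit 256 8 = true from rfl]
  have hsd := sgn_comm (prod_t O d l8) (c.testBit 8)
  unfold val
  calc (l8.map (fac F c)).prod * sgn t (c.testBit 8) *
        ((l8.map (fac F d)).prod * sgn t (d.testBit 8))
      = (l8.map (fac F c)).prod * (l8.map (fac F d)).prod *
          (sgn t (c.testBit 8) * sgn t (d.testBit 8)) := by
        simp only [mul_assoc]
        rw [← mul_assoc (sgn t (c.testBit 8)), ← hsd, mul_assoc]
    _ = _ := by
        rw [prod_mul O c d l8 l8_lt, prod_congr O l8 l8_lt e, e8, mul_assoc, sgn_mul S, sgn_mul S,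
          ← sgn_mul S (Bool.xor _ _)]
        cases cross c d l8 <;> cases c.testBit 8 <;> cases d.testBit 8 <;> simp [sgn, tt S]

theorem val_zero : val t F 0 = 1 := by simp [val, l8, fac, sgn]

theorem val_t : val t F 256 = t := by norm_num [val, l8, fac, sgn, Nat.testBit, Nat.shiftRight_eq_div_pow] <;> rfl

theorem val_w : ∀ a < 8, val t F (2 ^ a) = F.w (sub a) := by
  intro a ha
  interval_cases a <;> norm_num [val, l8, fac, sgn, Nat.testBit, Nat.shiftRight_eq_div_pow] <;> rfl

theorem val_mem (c : ℕ) : val t F c ∈ S.Q := by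
  refine mul_mem (list_prod_mem ?_) ?_
  · intro a ha
    obtain ⟨k, -, rfl⟩ := List.mem_map.1 ha
    unfold fac
    cases c.testBit k
    · exact one_mem _
    · exact O.w_mem _
  · cases c.testBit 8
    · exact one_mem _
    · exact S.t_mem

theorem val_comm_t (c : ℕ) : val t F c * t = t * val t F c := mem_cent (S.Q_le (val_mem O c))


theorem val_inv {c : ℕ} (hc : c < 512) : (val t F c)⁻¹ = val t F (inv c) :=
  inv_eq_of_mul_eq_one_right (by rw [val_mul O, (inv_check c hc).1, val_zero O])




theorem bit_val {c : ℕ} (hc : c < 512) {a : ℕ} (ha : a < 8) :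
    val t F c * F.w (sub (7 - a)) = F.w (sub (7 - a)) * val t F c * sgn t (c.testBit a) := by
  rw [← val_w O _ (by omega), val_mul O, val_mul O, bit_check c hc a ha]
  cases c.testBit a
  · simp [sgn]
  · rw [if_pos rfl, ← mul_256 _ (mul_lt_check c hc _ (by omega)), ← val_mul O, val_t O]
    rfl

theorem sgn_inj {a b : Bool} (h : sgn t a = sgn t b) : a = b := by
  have := t_ne S
  cases a <;> cases b <;> simp_all [sgn]

theorem val_inj {c d : ℕ} (hc : c < 512) (hd : d < 512) (h : val t F c = val t F d) : c = d := by
  have hb : ∀ a < 8, c.testBit a = d.testBit a := fun a ha => by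
    have e1 := bit_val O hc ha
    rw [h, bit_val O hd ha] at e1
    exact sgn_inj O (mul_left_cancel e1).symm
  have h8 : c.testBit 8 = d.testBit 8 := by
    unfold val at h
    rw [prod_congr O l8 l8_lt hb] at h
    exact sgn_inj O (mul_left_cancel h)
  refine Nat.eq_of_testBit_eq fun k => ?_
  rcases lt_or_ge k 8 with hk | hk
  · exact hb k hk
  rcases Nat.eq_or_lt_of_le hk with e | hk'
  · rw [← e]; exact h8
  · rw [Nat.testBit_lt_two_pow (lt_of_lt_of_le hc ?_), Nat.testBit_lt_two_pow (lt_of_lt_of_le hd ?_)]
    all_goals exact (show 512 = 2 ^ 9 by norm_num) ▸ Nat.pow_le_pow_right (by norm_num) hk'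

theorem val_ne {c : ℕ} (hc : c < 512) (h0 : c ≠ 0) : val t F c ≠ 1 := fun h =>
  h0 (val_inj O hc (by norm_num) (h.trans (val_zero O).symm))

theorem exists_val [Finite G] {a : G} (ha : a ∈ S.Q) : ∃ c < 512, val t F c = a := by
  have hinj : Function.Injective (fun c : Fin 512 => (⟨val t F c, val_mem O c⟩ : S.Q)) :=
    fun c d h => Fin.ext (val_inj O c.2 d.2 (congrArg Subtype.val h))
  obtain ⟨c, hc⟩ := (Nat.bijective_iff_injective_and_card _).2
    ⟨hinj, by rw [Nat.card_fin, S.Q_card]; norm_num⟩ |>.2 ⟨a, ha⟩
  exact ⟨c, c.2, congrArg Subtype.val hc⟩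

/-- The conjugation by a root element in numbers. -/
theorem fold_spec {k : G} (kt : k * t = t * k) (kk : k * k = 1) {up : Bool} {i : ℕ}
    (hw : ∀ a < 8, k * F.w (sub a) * k = val t F (img up i a)) (c : ℕ) :
    k * val t F c * k = val t F (act up i c) := by
  suffices h : ∀ l : List ℕ, (∀ a ∈ l, a < 8) →
      k * ((l.map (fac F c)).prod * sgn t (c.testBit 8)) * k = val t F (fold up i c l) from
    h l8 l8_lt
  intro l
  induction l with
  | nil =>
    intro _
    rw [List.map_nil, List.prod_nil, one_mul, fold, sgn_comm kt, mul_assoc, kk, mul_one]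
    cases c.testBit 8
    · simp [sgn, val_zero O]
    · simp [sgn, val_t O]
  | cons a l ih =>
    intro hl
    have ih' := ih fun k hk => hl k (List.mem_cons_of_mem _ hk)
    have ha := hw a (hl a (List.mem_cons_self ..))
    rw [fold, List.map_cons, List.prod_cons]
    unfold fac
    cases hb : c.testBit a
    · rw [cond_false, cond_false, one_mul]
      exact ih'
    · rw [cond_true, cond_true, ← val_mul O, ← ha, ← ih']
      simp only [mul_assoc]
      rw [← mul_assoc k k, kk, one_mul]
      rfl

theorem x_img (i : Fin 3) : ∀ a < 8, F.x i * F.w (sub a) * F.x i = val t F (img true i a) := by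
  intro a ha
  unfold img
  cases h : sub a i
  · have e : (a.testBit (i : ℕ) == true) = false := by simpa [sub] using h
    have hlt : ∀ a < 8, ∀ i : Fin 3, a ^^^ 2 ^ (i : ℕ) < 8 := by decide
    rw [e, cond_false, ← val_mul O, val_w O a ha, val_w O _ (hlt a ha i), O.x_add i _ h,
      update_sub a ha i true (by simp [h])]
  · have e : (a.testBit (i : ℕ) == true) = true := by simpa [sub] using h
    rw [e, cond_true, val_w O a ha, O.x_fix i _ h]

theorem y_img (i : Fin 3) : ∀ a < 8, F.y i * F.w (sub a) * F.y i = val t F (img false i a) := by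
  intro a ha
  unfold img
  cases h : sub a i
  · have e : (a.testBit (i : ℕ) == false) = true := by simpa [sub] using h
    rw [e, cond_true, val_w O a ha, O.y_fix i _ h]
  · have e : (a.testBit (i : ℕ) == false) = false := by simpa [sub] using h
    have hlt : ∀ a < 8, ∀ i : Fin 3, a ^^^ 2 ^ (i : ℕ) < 8 := by decide
    rw [e, cond_false, ← val_mul O, val_w O a ha, val_w O _ (hlt a ha i), O.y_add i _ h,
      update_sub a ha i false (by simp [h])]

theorem x_val (i : Fin 3) (c : ℕ) : F.x i * val t F c * F.x i = val t F (act true i c) :=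
  fold_spec O (mem_cent (O.x_mem i)) (O.x_sq i) (x_img O i) c

theorem y_val (i : Fin 3) (c : ℕ) : F.y i * val t F c * F.y i = val t F (act false i c) :=
  fold_spec O (mem_cent (O.y_mem i)) (O.y_sq i) (y_img O i) c

theorem xp_sq (s : ℕ) : xp F s * xp F s = 1 := by
  have h01 : Commute (F.x 0) (F.x 1) := O.xx 0 1
  have h02 : Commute (F.x 0) (F.x 2) := O.xx 0 2
  have h12 : Commute (F.x 1) (F.x 2) := O.xx 1 2
  unfold xp
  cases s.testBit 0 <;> cases s.testBit 1 <;> cases s.testBit 2 <;>
    simp [O.x_sq, mul_assoc, h01.eq, h02.eq, h12.eq, h01.left_comm, h02.left_comm, h12.left_comm]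

theorem xp_val (s c : ℕ) : xp F s * val t F c * xp F s = val t F (actS s c) := by
  have h01 : Commute (F.x 0) (F.x 1) := O.xx 0 1
  have h02 : Commute (F.x 0) (F.x 2) := O.xx 0 2
  have h12 : Commute (F.x 1) (F.x 2) := O.xx 1 2
  have step : ∀ (i : Fin 3) (b : Bool) (d : ℕ),
      (bif b then F.x i else 1) * val t F d * (bif b then F.x i else 1) =
        val t F (bif b then act true i d else d) := by
    intro i b d
    cases b
    · simp
    · exact x_val O i d
  have e : xp F s = (bif s.testBit 2 then F.x 2 else 1) * (bif s.testBit 1 then F.x 1 else 1) *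
      (bif s.testBit 0 then F.x 0 else 1) := by
    unfold xp
    cases s.testBit 0 <;> cases s.testBit 1 <;> cases s.testBit 2 <;>
      simp [mul_assoc, h01.eq, h02.eq, h12.eq, h01.left_comm, h02.left_comm, h12.left_comm]
  calc xp F s * val t F c * xp F s
      = (bif s.testBit 0 then F.x 0 else 1) * ((bif s.testBit 1 then F.x 1 else 1) *
          ((bif s.testBit 2 then F.x 2 else 1) * val t F c * (bif s.testBit 2 then F.x 2 else 1)) *
          (bif s.testBit 1 then F.x 1 else 1)) * (bif s.testBit 0 then F.x 0 else 1) := by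
        conv_lhs => arg 2; rw [e]
        unfold xp
        simp only [mul_assoc]
    _ = _ := by rw [step, step, step]; rfl

theorem xp_mem (s : ℕ) : xp F s ∈ S.Qc g := by
  unfold xp
  refine mul_mem (mul_mem ?_ ?_) ?_
  all_goals first
    | (cases s.testBit 0 <;> first | exact one_mem _ | exact O.x_memc _)
    | (cases s.testBit 1 <;> first | exact one_mem _ | exact O.x_memc _)
    | (cases s.testBit 2 <;> first | exact one_mem _ | exact O.x_memc _)

theorem xp_t (s : ℕ) : xp F s * t = t * xp F s := by
  refine mem_cent ?_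
  unfold xp
  refine mul_mem (mul_mem ?_ ?_) ?_
  all_goals first
    | (cases s.testBit 0 <;> first | exact one_mem _ | exact O.x_mem _)
    | (cases s.testBit 1 <;> first | exact one_mem _ | exact O.x_mem _)
    | (cases s.testBit 2 <;> first | exact one_mem _ | exact O.x_mem _)

theorem xp_q (s : ℕ) : xp F s * (g * t * g⁻¹) = g * t * g⁻¹ * xp F s := by
  have h : ∀ i, F.x i * (g * t * g⁻¹) * F.x i = g * t * g⁻¹ := fun i => by
    rw [← O.top]; exact O.x_fix i _ rfl
  have hc : ∀ i, Commute (F.x i) (g * t * g⁻¹) := fun i => by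
    show F.x i * (g * t * g⁻¹) = g * t * g⁻¹ * F.x i
    conv_rhs => rw [← h i]
    simp only [mul_assoc, O.x_sq, mul_one]
  unfold xp
  refine (((Commute.mul_left ?_ ?_).mul_left ?_)).eq
  all_goals first
    | (cases s.testBit 0 <;> first | exact Commute.one_left _ | exact hc _)
    | (cases s.testBit 1 <;> first | exact Commute.one_left _ | exact hc _)
    | (cases s.testBit 2 <;> first | exact Commute.one_left _ | exact hc _)

end

end CfsgLib.DFour.Code
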