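import Cfsg.Agent.Lib.DFour.NodesModel

/-!
# An element interchanging `t` and `q` and the two frames

Some element interchanging `t` and `q` interchanges the root elements `x i` and `w {i}`, up to a
permutation of the nodes.
-/

set_option autoImplicit false
set_option linter.unusedVariables false
set_option linter.unusedSectionVars false
set_option linter.style.haveILetI false

namespace CfsgLib.DFour.Code

open Subgroup

/-- the conjugates of `t` in `Q` other than `t` -/
def orbL : List ℕ :=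
  [1, 2, 3, 4, 5, 8, 10, 12, 15, 16, 17, 32, 34, 48, 51, 64, 68, 80, 85, 128, 136, 160, 170, 192,
    204, 240, 255, 257, 258, 259, 260, 261, 264, 266, 268, 271, 272, 273, 288, 290, 304, 307, 320,
    324, 336, 341, 384, 392, 416, 426, 448, 460, 496, 511]

/-- the conjugates of `t` in the coset of `x i` -/
def clsL (i : Fin 3) : List ℕ :=
  ![[0, 2, 8, 10, 32, 34, 128, 136, 160, 170, 296, 298, 386, 394, 418, 424],
    [0, 4, 8, 12, 64, 68, 128, 136, 192, 204, 328, 332, 388, 396, 452, 456],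
    [0, 16, 32, 48, 64, 80, 128, 160, 192, 240, 352, 368, 400, 432, 464, 480]] i

/-- the conjugates of `t` in `Q ∩ Q'` lying over `w (univ \ {i})` -/
def clL (i : Fin 3) : List ℕ :=
  ![[64, 192, 320, 448], [32, 160, 288, 416], [8, 136, 264, 392]] i

/-- the possible conjugates over `w {i}` -/
def liftL (i : Fin 3) : List ℕ :=
  ![[2, 10, 34, 170, 258, 266, 290, 426], [4, 12, 68, 204, 260, 268, 324, 460],
    [16, 48, 80, 240, 272, 304, 336, 496]] i

/-- the elements of `Q ∩ Q'` -/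
def jc (k : ℕ) : ℕ :=
  k % 2 * 8 + k / 2 % 2 * 32 + k / 4 % 2 * 64 + k / 8 % 2 * 128 + k / 16 % 2 * 256

/-- the number of `w {i}` -/
def rc (i : Fin 3) : ℕ := 2 ^ 2 ^ (i : ℕ)

theorem orb_closed : ∀ c ∈ orbL, c < 512 ∧ c ^^^ 256 ∈ orbL ∧
    (∀ i : Fin 3, act true i c ∈ orbL ∧ act false i c ∈ orbL) ∧
    ∀ a < 8, mul (2 ^ a) (mul c (2 ^ a)) ∈ orbL := by decide +kernel

theorem cls_witness : ∀ i : Fin 3, ∀ c ∈ clsL i, c < 512 ∧
    ∃ d < 512, mul d (act true i (inv d)) = c := by decide +kernel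

theorem jc_lt : ∀ k < 32, jc k < 512 := by decide +kernel

theorem jc_bits : ∀ k < 32, ∀ a < 8, (jc k).testBit a = true → a = 3 ∨ a = 5 ∨ a = 6 ∨ a = 7 := by
  decide +kernel

theorem jc_inj : ∀ k < 32, ∀ l < 32, jc k = jc l → k = l := by decide +kernel

theorem jc_invol : ∀ i : Fin 3, ∀ k < 32, mul (jc k) (act true i (jc k)) < 512 ∧
    (mul (jc k) (act true i (jc k)) = 0 → jc k ∈ clsL i ∨ jc k ^^^ 256 ∈ clsL i) := by
  decide +kernel

theorem jc_cl : ∀ c ∈ orbL, (∃ k < 32, jc k = c) → c ≠ 128 → c ≠ 384 →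
    ∃ i : Fin 3, c ∈ clL i := by decide +kernel

theorem cl_jc : ∀ i : Fin 3, ∀ c ∈ clL i, c < 512 ∧ ∃ k < 32, jc k = c := by decide +kernel

theorem cl_unique : ∀ i j : Fin 3, ∀ c ∈ clL i, ∀ d ∈ clL j,
    (i = j → mul c d = 0 ∨ mul c d = 128 ∨ mul c d = 256 ∨ mul c d = 384) := by decide +kernel

theorem pattern_check : ∀ k < 32, ∀ s < 8, ∀ i : Fin 3, ∀ d ∈ clL i,
    mul (jc k) (actS s d) < 512 ∧ mul d (jc k) < 512 ∧
      ((mul (jc k) (actS s d) == mul d (jc k)) = !Nat.testBit s i) := by decide +kernel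

theorem cl_conj : ∀ k < 64, ∀ i : Fin 3, ∀ c ∈ clL i,
    mul (2 * k) (mul c (inv (2 * k))) ∈ clL i := by decide +kernel

set_option synthInstance.maxSize 2000 in
set_option synthInstance.maxHeartbeats 400000 in
theorem triple_check : ∀ k₀ ∈ List.range 32, jc k₀ ∈ clsL 0 →
    ∀ k₁ ∈ List.range 32, jc k₁ ∈ clsL 1 →
    mul (jc k₀) (act true 0 (jc k₁)) = mul (jc k₁) (act true 1 (jc k₀)) →
    ∀ k₂ ∈ List.range 32, jc k₂ ∈ clsL 2 →
    mul (jc k₀) (act true 0 (jc k₂)) = mul (jc k₂) (act true 2 (jc k₀)) →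
    mul (jc k₁) (act true 1 (jc k₂)) = mul (jc k₂) (act true 2 (jc k₁)) →
    ∃ k ∈ List.range 64, mul (2 * k) (mul (jc k₀) (act true 0 (inv (2 * k)))) = 0 ∧
      mul (2 * k) (mul (jc k₁) (act true 1 (inv (2 * k)))) = 0 ∧
      mul (2 * k) (mul (jc k₂) (act true 2 (inv (2 * k)))) = 0 := by decide +kernel

theorem mul_act_lt : ∀ i : Fin 3, ∀ k < 32, ∀ l < 32, mul (jc k) (act true i (jc l)) < 512 := by
  decide +kernel

theorem lift_check : ∀ i : Fin 3, ∀ c ∈ orbL, mul c 128 = mul 128 c → act true i c = c →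
    (∀ j : Fin 3, ∀ d ∈ clL j, ((mul c d == mul d c) = !(decide (j = i)))) → c ∈ liftL i := by
  decide +kernel

theorem lift_lt : ∀ i : Fin 3, ∀ c ∈ liftL i, c < 512 ∧ ∀ k : Fin 3, mul c (act true k c) < 512 := by
  decide +kernel

theorem link_check : ∀ c₀ ∈ liftL 0, ∀ c₁ ∈ liftL 1,
    mul c₀ (act true 1 c₀) = mul c₁ (act true 0 c₁) → ∀ c₂ ∈ liftL 2,
    mul c₀ (act true 2 c₀) = mul c₂ (act true 0 c₂) →
    mul c₁ (act true 2 c₁) = mul c₂ (act true 1 c₂) →
    ∃ s < 8, (actS s c₀ = rc 0 ∨ actS s c₀ = rc 0 ^^^ 256) ∧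
      (actS s c₁ = rc 1 ∨ actS s c₁ = rc 1 ^^^ 256) ∧
      (actS s c₂ = rc 2 ∨ actS s c₂ = rc 2 ^^^ 256) := by decide +kernel

theorem eps_check : ∀ i : Fin 3, mul (rc i) 128 ^^^ 256 ∈ clsL i ∧ mul (rc i) 128 < 512 := by
  decide +kernel

theorem cent_q_check : ∀ k < 256, mul (2 * k) 128 = mul 128 (2 * k) := by decide +kernel

theorem conj_zero_check : ∀ k < 256, ∀ s < 8,
    mul (2 * k) (mul (actS s 1) (inv (2 * k))) &&& 255 = actS s 1 &&& 255 ∧
      mul (2 * k) (mul (actS s 1) (inv (2 * k))) < 512 := by decide +kernel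

theorem actS_inj : ∀ s < 8, ∀ u < 8, actS s 1 &&& 255 = actS u 1 &&& 255 → s = u := by
  decide +kernel

theorem x_out_check : ∀ i : Fin 3, ∀ c < 512,
    mul c 1 ≠ mul (act true i 1) c ∧ mul c 1 < 512 ∧ mul (act true i 1) c < 512 := by decide +kernel

theorem orb_mul_q : ∀ c ∈ orbL, mul c 128 < 512 ∧ mul 128 c < 512 := by decide +kernel

universe u

variable {G : Type u} [Group G] {t : G} {S : Setting t} {g : G} {F : Frame G}

/-- `h` interchanges `t` and `q`, and the two cores. -/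
structure Swap (S : Setting t) (g h : G) : Prop where
  ht : h * t * h⁻¹ = g * t * g⁻¹
  hq : h * (g * t * g⁻¹) * h⁻¹ = t
  toQc : ∀ a ∈ S.Q, h * a * h⁻¹ ∈ S.Qc g
  toQ : ∀ a ∈ S.Qc g, h * a * h⁻¹ ∈ S.Q

theorem qc_normal (S : Setting t) {a b : G} (ha : a * (g * t * g⁻¹) = g * t * g⁻¹ * a)
    (hb : b ∈ S.Qc g) : a * b * a⁻¹ ∈ S.Qc g := by
  obtain ⟨c, hc, rfl⟩ := hb
  refine ⟨g⁻¹ * a * g * c * (g⁻¹ * a * g)⁻¹, S.normal _ (mem_centralizer_singleton_iff.2 ?_) c hc,
    by simp only [MulEquiv.toMonoidHom_eq_coe, MonoidHom.coe_coe, MulAut.conj_apply]; group⟩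
  calc g⁻¹ * a * g * t = g⁻¹ * (a * (g * t * g⁻¹)) * g := by group
    _ = t * (g⁻¹ * a * g) := by rw [ha]; group

theorem Swap.mul_left {h d : G} (W : Swap S g h) (dt : d * t = t * d)
    (dq : d * (g * t * g⁻¹) = g * t * g⁻¹ * d) : Swap S g (d * h) := by
  have e : ∀ a, d * h * a * (d * h)⁻¹ = d * (h * a * h⁻¹) * d⁻¹ := fun a => by group
  refine ⟨?_, ?_, fun a ha => ?_, fun a ha => ?_⟩
  · rw [e, W.ht, dq, mul_inv_cancel_right]
  · rw [e, W.hq, dt, mul_inv_cancel_right]
  · rw [e]; exact qc_normal S dq (W.toQc a ha)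
  · rw [e]; exact S.normal d (mem_centralizer_singleton_iff.2 dt) _ (W.toQ a ha)

theorem conj_comm (h a b : G) :
    (h * a * h⁻¹) * (h * b * h⁻¹) = (h * b * h⁻¹) * (h * a * h⁻¹) ↔ a * b = b * a := by
  constructor
  · intro e
    have e' : h * (a * b) * h⁻¹ = h * (b * a) * h⁻¹ := by
      calc h * (a * b) * h⁻¹ = (h * a * h⁻¹) * (h * b * h⁻¹) := by group
        _ = h * (b * a) * h⁻¹ := by rw [e]; group
    exact mul_left_cancel (mul_right_cancel e')
  · intro e
    calc (h * a * h⁻¹) * (h * b * h⁻¹) = h * (a * b) * h⁻¹ := by group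
      _ = _ := by rw [e]; group

theorem xp_pow (i : Fin 3) : xp F (2 ^ (i : ℕ)) = F.x i := by
  fin_cases i <;> simp [xp, Nat.testBit, Nat.shiftRight_eq_div_pow] <;> rfl

theorem isConj_sq {a : G} (S : Setting t) (h : IsConj t a) : a * a = 1 := by
  obtain ⟨k, rfl⟩ := isConj_iff.1 h
  rw [show k * t * k⁻¹ * (k * t * k⁻¹) = k * (t * t) * k⁻¹ by group, tt S]
  group

section

variable (O : F.Ok S g)
include O

theorem val_q : val t F 128 = g * t * g⁻¹ := by
  rw [← O.top, ← sub_seven, ← val_w O 7 (by norm_num)]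
  norm_num

theorem q_comm_t : g * t * g⁻¹ * t = t * (g * t * g⁻¹) := by
  have h := val_comm_t O 128
  rw [val_q O] at h
  exact h

theorem val_r (i : Fin 3) : val t F (rc i) = F.w (sub (2 ^ (i : ℕ))) :=
  val_w O _ (by fin_cases i <;> simp)

theorem val_mem_ne (i : Fin 3) {c : ℕ} (hc : c < 512) : val t F c ≠ F.x i := by
  intro e
  have h1 : val t F c * val t F 1 = val t F (act true i 1) * val t F c := by
    rw [e, ← x_val O i 1]
    simp only [mul_assoc, O.x_sq, mul_one]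
  rw [val_mul O, val_mul O] at h1
  exact (x_out_check i c hc).1 (val_inj O (x_out_check i c hc).2.1 (x_out_check i c hc).2.2 h1)

theorem x_not_mem [Finite G] (i : Fin 3) : F.x i ∉ S.Q := fun h => by
  obtain ⟨c, hc, e⟩ := exists_val O h
  exact val_mem_ne O i hc e

theorem cls_conj (i : Fin 3) {c : ℕ} (hc : c ∈ clsL i) :
    ∃ d, val t F c * F.x i = val t F d * F.x i * (val t F d)⁻¹ := by
  obtain ⟨-, d, hd, e⟩ := cls_witness i c hc
  refine ⟨d, ?_⟩
  rw [← e, ← val_mul O, ← x_val O i, ← val_inv O hd]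
  simp only [mul_assoc, O.x_sq, mul_one]

/-- A conjugate of `t` in the coset is not `t` times one of the class. -/
theorem not_shift (i : Fin 3) {c : ℕ} (hc : c < 512) (hcls : c ^^^ 256 ∈ clsL i)
    (hconj : IsConj t (val t F c * F.x i)) : False := by
  obtain ⟨d, hd⟩ := cls_conj O i hcls
  obtain ⟨k, hk⟩ := isConj_iff.1 hconj
  rw [← mul_256 c hc, ← val_mul O, val_t O] at hd
  refine O.x_t i (isConj_iff.2 ⟨(val t F d)⁻¹ * k, ?_⟩)
  have hxt : F.x i * t = t * F.x i := mem_cent (O.x_mem i)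
  have e : val t F c * F.x i = val t F d * (F.x i * t) * (val t F d)⁻¹ := by
    calc val t F c * F.x i = val t F c * t * F.x i * t := by
          rw [mul_assoc _ t (F.x i), ← hxt, ← mul_assoc, mul_assoc _ t t, tt S, mul_one]
      _ = val t F d * F.x i * (val t F d)⁻¹ * t := by rw [hd]
      _ = _ := by
          have h2 : (val t F d)⁻¹ * t = t * (val t F d)⁻¹ :=
            (Commute.inv_left (val_comm_t O d : Commute _ t)).eq
          simp only [mul_assoc, h2]
  calc (val t F d)⁻¹ * k * t * ((val t F d)⁻¹ * k)⁻¹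
      = (val t F d)⁻¹ * (k * t * k⁻¹) * val t F d := by group
    _ = F.x i * t := by rw [hk, e]; group

theorem orb_conj [Finite G] {k : G} (hk : k ∈ centralizer ({t} : Set G)) :
    ∀ c ∈ orbL, ∃ c' ∈ orbL, k * val t F c * k⁻¹ = val t F c' := by
  have hmul : ∀ a b : G, (∀ c ∈ orbL, ∃ c' ∈ orbL, a * val t F c * a⁻¹ = val t F c') →
      (∀ c ∈ orbL, ∃ c' ∈ orbL, b * val t F c * b⁻¹ = val t F c') →
      ∀ c ∈ orbL, ∃ c' ∈ orbL, a * b * val t F c * (a * b)⁻¹ = val t F c' := by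
    intro a b ha hb c hc
    obtain ⟨c₁, h₁, e₁⟩ := hb c hc
    obtain ⟨c₂, h₂, e₂⟩ := ha c₁ h₁
    exact ⟨c₂, h₂, by rw [← e₂, ← e₁]; group⟩
  refine closure_induction (p := fun a _ => ∀ c ∈ orbL, ∃ c' ∈ orbL,
    a * val t F c * a⁻¹ = val t F c') ?_ (fun c hc => ⟨c, hc, by group⟩)
    (fun a b _ _ => hmul a b) (fun a _ ha => ?_) (O.gen hk)
  · rintro a ((⟨b, rfl⟩ | ⟨i, rfl⟩) | ⟨i, rfl⟩) c hc
    · obtain ⟨n, hn, rfl⟩ : ∃ n < 8, sub n = b := by
        have : ∀ b : Fin 3 → Bool, ∃ n < 8, sub n = b := by decide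
        exact this b
      refine ⟨_, (orb_closed c hc).2.2.2 n hn, ?_⟩
      rw [← val_mul O, ← val_mul O, val_w O n hn, inv_eq_of_mul_eq_one_right (O.w_sq _), mul_assoc]
    · exact ⟨_, ((orb_closed c hc).2.2.1 i).1,
        by rw [inv_eq_of_mul_eq_one_right (O.x_sq i)]; exact x_val O i c⟩
    · exact ⟨_, ((orb_closed c hc).2.2.1 i).2,
        by rw [inv_eq_of_mul_eq_one_right (O.y_sq i)]; exact y_val O i c⟩
  · have hpow : ∀ n : ℕ, ∀ c ∈ orbL, ∃ c' ∈ orbL, a ^ n * val t F c * (a ^ n)⁻¹ = val t F c' := by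
      intro n
      induction n with
      | zero => exact fun c hc => ⟨c, hc, by simp⟩
      | succ n ih => rw [pow_succ]; exact hmul _ _ ih ha
    have e : a⁻¹ = a ^ (orderOf a - 1) := inv_eq_of_mul_eq_one_right (by
      rw [← pow_succ', Nat.sub_one_add_one (orderOf_pos a).ne', pow_orderOf_eq_one])
    rw [e]
    exact hpow _

/-- The conjugates of `t` in `Q`. -/
theorem exists_orb [Finite G] {a : G} (ha : a ∈ S.Q) (hc : IsConj t a) (hne : a ≠ t) :
    ∃ c ∈ orbL, val t F c = a := by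
  obtain ⟨k, hk, rfl⟩ := O.in_Q a ha hc hne
  obtain ⟨c, hc, e⟩ := orb_conj O hk 128 (by decide)
  rw [val_q O] at e
  exact ⟨c, hc, e.symm⟩

theorem jc_mem (P : PairData S g) {k : ℕ} (hk : k < 32) : val t F (jc k) ∈ S.Q ⊓ S.Qc g := by
  refine ⟨val_mem O _, mul_mem (list_prod_mem ?_) ?_⟩
  · intro b hb
    obtain ⟨a, ha, rfl⟩ := List.mem_map.1 hb
    unfold fac
    cases hbit : (jc k).testBit a
    · exact one_mem _
    have h2 : ∀ (i : Fin 3) (n m : ℕ), n < 8 → m < 8 → mul (act true i (2 ^ n)) (2 ^ n) = 2 ^ m →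
        F.w (sub n) * (g * t * g⁻¹) = g * t * g⁻¹ * F.w (sub n) → F.w (sub m) ∈ S.Qc g := by
      intro i n m hn hm e hq
      have h3 := mul_mem (O.x_memc i) (qc_normal S hq (O.x_memc i))
      rwa [inv_eq_of_mul_eq_one_right (O.w_sq _), ← mul_assoc, ← mul_assoc, ← val_w O n hn,
        x_val O, val_mul O, e, val_w O m hm] at h3
    have hq : ∀ n : ℕ, n = 2 ∨ n = 4 → F.w (sub n) * (g * t * g⁻¹) = g * t * g⁻¹ * F.w (sub n) := by
      intro n hn
      rw [← val_w O n (by omega), ← val_q O, val_mul O, val_mul O]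
      rcases hn with rfl | rfl <;> exact congrArg (val t F) (by decide +kernel)
    rw [cond_true]
    rcases jc_bits k hk a (l8_lt a ha) hbit with rfl | rfl | rfl | rfl
    · exact h2 0 2 3 (by norm_num) (by norm_num) (by decide +kernel) (hq 2 (Or.inl rfl))
    · exact h2 0 4 5 (by norm_num) (by norm_num) (by decide +kernel) (hq 4 (Or.inr rfl))
    · exact h2 1 4 6 (by norm_num) (by norm_num) (by decide +kernel) (hq 4 (Or.inr rfl))
    · rw [sub_seven, O.top]
      exact ⟨t, S.t_mem, rfl⟩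
  · cases (jc k).testBit 8
    · exact one_mem _
    · exact P.t_mem

theorem exists_jc [Finite G] (P : PairData S g) {a : G} (ha : a ∈ S.Q ⊓ S.Qc g) :
    ∃ k < 32, val t F (jc k) = a := by
  have hinj : Function.Injective
      (fun k : Fin 32 => (⟨val t F (jc k), jc_mem O P k.2⟩ : (S.Q ⊓ S.Qc g : Subgroup G))) :=
    fun k l h => Fin.ext (jc_inj k k.2 l l.2
      (val_inj O (jc_lt k k.2) (jc_lt l l.2) (congrArg Subtype.val h)))
  obtain ⟨k, hk⟩ := (Nat.bijective_iff_injective_and_card _).2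
    ⟨hinj, by rw [Nat.card_fin, P.meet_card]⟩ |>.2 ⟨a, ha⟩
  exact ⟨k, k.2, congrArg Subtype.val hk⟩

/-- The elements centralising `t` and `q`. -/
theorem exists_code [Finite G] (P : PairData S g) {a : G} (h1 : a * t = t * a)
    (h2 : a * (g * t * g⁻¹) = g * t * g⁻¹ * a) :
    ∃ k < 256, ∃ s < 8, a = val t F (2 * k) * xp F s := by
  have hmem : ∀ (k : Fin 256) (s : Fin 8),
      val t F (2 * (k : ℕ)) * xp F (s : ℕ) ∈ centralizer ({t, g * t * g⁻¹} : Set G) := by
    intro k s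
    rw [mem_centralizer_iff]
    have hv : val t F (2 * (k : ℕ)) * (g * t * g⁻¹) = g * t * g⁻¹ * val t F (2 * (k : ℕ)) := by
      rw [← val_q O, val_mul O, val_mul O, cent_q_check k k.2]
    rintro b (rfl | rfl)
    · exact ((Commute.mul_left (val_comm_t O _ : Commute _ b) (xp_t O _ : Commute _ b))).eq.symm
    · exact ((Commute.mul_left (hv : Commute _ _) (xp_q O _ : Commute _ _))).eq.symm
  have hinj : Function.Injective (fun p : Fin 256 × Fin 8 =>
      (⟨val t F (2 * (p.1 : ℕ)) * xp F (p.2 : ℕ), hmem p.1 p.2⟩ :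
        centralizer ({t, g * t * g⁻¹} : Set G))) := by
    rintro ⟨k, s⟩ ⟨l, u⟩ h
    replace h : val t F (2 * (k : ℕ)) * xp F (s : ℕ) = val t F (2 * (l : ℕ)) * xp F (u : ℕ) :=
      congrArg Subtype.val h
    have key : ∀ (k : Fin 256) (s : Fin 8),
        val t F (2 * (k : ℕ)) * xp F (s : ℕ) * val t F 1 * (val t F (2 * (k : ℕ)) * xp F (s : ℕ))⁻¹ =
          val t F (mul (2 * k) (mul (actS s 1) (inv (2 * k)))) := by
      intro k s
      rw [← val_mul O, ← val_mul O, ← xp_val O, ← val_inv O (by omega), mul_inv_rev,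
        inv_eq_of_mul_eq_one_right (xp_sq O s)]
      simp only [mul_assoc]
    have e := key k s
    rw [h, key l u] at e
    have e' := val_inj O (conj_zero_check l l.2 u u.2).2 (conj_zero_check k k.2 s s.2).2 e
    obtain rfl : s = u := Fin.ext (actS_inj s s.2 u u.2 (by
      rw [← (conj_zero_check k k.2 s s.2).1, ← e', (conj_zero_check l l.2 u u.2).1]))
    obtain rfl : k = l := Fin.ext (Nat.eq_of_mul_eq_mul_left (show 0 < 2 by norm_num)
      (val_inj O (by omega) (by omega) (mul_right_cancel h)))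
    rfl
  obtain ⟨⟨k, s⟩, hks⟩ := (Nat.bijective_iff_injective_and_card _).2
    ⟨hinj, by rw [Nat.card_prod, Nat.card_fin, Nat.card_fin, P.cent_card]; norm_num⟩ |>.2
      ⟨a, mem_centralizer_iff.2 (by rintro b (rfl | rfl) <;> [exact h1.symm; exact h2.symm])⟩
  exact ⟨k, k.2, s, s.2, (congrArg Subtype.val hks).symm⟩

theorem exists_swap [Finite G] (P : PairData S g) : ∃ h, Swap S g h := by
  have hmem : g⁻¹ * t * g ∈ S.Q := by
    obtain ⟨a, ha, e⟩ := P.t_mem
    simp only [MulEquiv.toMonoidHom_eq_coe, MonoidHom.coe_coe, MulAut.conj_apply] at e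
    have e2 : g⁻¹ * t * g = a := by
      calc g⁻¹ * t * g = g⁻¹ * (g * a * g⁻¹) * g := by rw [e]
        _ = a := by group
    rwa [e2]
  have hne : g⁻¹ * t * g ≠ t := fun e => P.ne (by
    conv_lhs => rw [← e]
    group)
  obtain ⟨c, hc, e⟩ := O.in_Q _ hmem (isConj_iff.2 ⟨g⁻¹, by group⟩) hne
  have hct := mem_cent hc
  have hgc : g * c * g * t = t * (g * c * g) := by
    calc g * c * g * t = g * (c * (g * t * g⁻¹) * c⁻¹) * g⁻¹ * (g * c * g) := by group
      _ = t * (g * c * g) := by rw [e]; group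
  refine ⟨g * c, ?_, ?_, fun a ha => ?_, fun b hb => ?_⟩
  · rw [show g * c * t * (g * c)⁻¹ = g * (c * t) * c⁻¹ * g⁻¹ by group, hct]; group
  · calc g * c * (g * t * g⁻¹) * (g * c)⁻¹ = g * (c * (g * t * g⁻¹) * c⁻¹) * g⁻¹ := by group
      _ = t := by rw [e]; group
  · refine ⟨c * a * c⁻¹, S.normal c hc a ha, ?_⟩
    simp only [MulEquiv.toMonoidHom_eq_coe, MonoidHom.coe_coe, MulAut.conj_apply]
    group
  · obtain ⟨a, ha, rfl⟩ := hb
    have := S.normal _ (mem_centralizer_singleton_iff.2 hgc) a ha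
    simp only [MulEquiv.toMonoidHom_eq_coe, MonoidHom.coe_coe, MulAut.conj_apply]
    rwa [show g * c * (g * a * g⁻¹) * (g * c)⁻¹ = g * c * g * a * (g * c * g)⁻¹ by group]

theorem r_commute_q (i : Fin 3) :
    val t F (rc i) * (g * t * g⁻¹) = g * t * g⁻¹ * val t F (rc i) := by
  rw [← val_q O, val_mul O, val_mul O]
  congr 1
  revert i
  decide +kernel

theorem x_commute_q (i : Fin 3) : F.x i * (g * t * g⁻¹) = g * t * g⁻¹ * F.x i := by
  rw [← xp_pow i]
  exact xp_q O _

/-- Stage one: the roots `w {i}` go to the roots `x i`. -/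
theorem exists_stage [Finite G] (P : PairData S g) : ∃ (h : G) (τ : Equiv.Perm (Fin 3)),
    Swap S g h ∧ (∀ i, h * val t F (rc (τ i)) * h⁻¹ = F.x i) ∧
      ∀ i, ∃ c ∈ clL i, h * F.w (sub (7 - 2 ^ ((τ i : Fin 3) : ℕ))) * h⁻¹ = val t F c := by
  obtain ⟨h, W⟩ := exists_swap O P
  have h7 : ∀ l : Fin 3, ∃ k < 32, jc k = 2 ^ (7 - 2 ^ (l : ℕ)) := by decide +kernel
  have hl8 : ∀ l : Fin 3, 7 - 2 ^ (l : ℕ) < 8 := fun l => Nat.lt_of_le_of_lt (Nat.sub_le _ _) (by norm_num)
  -- the images of the roots in the intersection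
  have himg : ∀ l : Fin 3, ∃ i, ∃ c ∈ clL i,
      h * F.w (sub (7 - 2 ^ (l : ℕ))) * h⁻¹ = val t F c := by
    intro l
    obtain ⟨k, hk, e⟩ := h7 l
    have hm := jc_mem O P hk
    rw [e, val_w O _ (hl8 l)] at hm
    obtain ⟨k', hk', e'⟩ := exists_jc O P (a := h * F.w (sub (7 - 2 ^ (l : ℕ))) * h⁻¹)
      ⟨W.toQ _ hm.2, W.toQc _ hm.1⟩
    have hsrc : ∀ d, d < 512 → (h * F.w (sub (7 - 2 ^ (l : ℕ))) * h⁻¹ = h * val t F d * h⁻¹) →
        2 ^ (7 - 2 ^ (l : ℕ)) = d := fun d hd e2 => val_inj O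
      (by fin_cases l <;> norm_num) hd
      (by rw [val_w O _ (hl8 l)]; exact mul_left_cancel (mul_right_cancel e2))
    have hnum : ∀ l : Fin 3, 2 ^ (7 - 2 ^ (l : ℕ)) ≠ 128 ∧ 2 ^ (7 - 2 ^ (l : ℕ)) ≠ 256 ∧
        2 ^ (7 - 2 ^ (l : ℕ)) ≠ 384 := by decide +kernel
    have hne : h * F.w (sub (7 - 2 ^ (l : ℕ))) * h⁻¹ ≠ t := fun e2 =>
      (hnum l).1 (hsrc 128 (by norm_num) (by rw [e2, val_q O, W.hq]))
    obtain ⟨c, hc, hcv⟩ := exists_orb O (W.toQ _ hm.2)
      ((O.w_conj _).trans (isConj_iff.2 ⟨h, rfl⟩)) hne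
    have h128 : c ≠ 128 := fun e2 => (hnum l).2.1 (hsrc 256 (by norm_num)
      (by rw [← hcv, e2, val_q O, val_t O, W.ht]))
    have h384 : c ≠ 384 := fun e2 => (hnum l).2.2 (hsrc 384 (by norm_num) (by
      rw [← hcv, e2, show (384 : ℕ) = mul 128 256 by decide +kernel, ← val_mul O, val_q O, val_t O,
        ← conj_mul, W.ht, W.hq, q_comm_t O]))
    obtain rfl : jc k' = c := val_inj O (jc_lt k' hk') (orb_closed c hc).1 (e'.trans hcv.symm)
    obtain ⟨i, hi⟩ := jc_cl _ hc ⟨k', hk', rfl⟩ h128 h384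
    exact ⟨i, _, hi, hcv.symm⟩
  choose σ cσ hσ eσ using himg
  have hσinj : Function.Injective σ := by
    intro l l' e
    have h4 := cl_unique (σ l) (σ l') _ (hσ l) _ (hσ l') e
    have hpre : ∀ d, d = 0 ∨ d = 128 ∨ d = 256 ∨ d = 384 →
        ∃ d', (d' = 0 ∨ d' = 128 ∨ d' = 256 ∨ d' = 384) ∧ val t F d = h * val t F d' * h⁻¹ := by
      rintro d (rfl | rfl | rfl | rfl)
      · exact ⟨0, Or.inl rfl, by rw [val_zero O]; group⟩
      · exact ⟨256, Or.inr (Or.inr (Or.inl rfl)), by rw [val_t O, W.ht, val_q O]⟩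
      · exact ⟨128, Or.inr (Or.inl rfl), by rw [val_q O, W.hq, val_t O]⟩
      · refine ⟨384, Or.inr (Or.inr (Or.inr rfl)), ?_⟩
        rw [show (384 : ℕ) = mul 128 256 by decide +kernel, ← val_mul O, val_q O, val_t O,
          ← conj_mul, W.ht, W.hq, q_comm_t O]
    obtain ⟨d', hd', e'⟩ := hpre _ h4
    rw [← val_mul O, ← eσ l, ← eσ l', conj_mul] at e'
    have e'' := mul_left_cancel (mul_right_cancel e')
    rw [← val_w O _ (hl8 l), ← val_w O _ (hl8 l'), val_mul O] at e''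
    have hchk : ∀ l l' : Fin 3, mul (2 ^ (7 - 2 ^ (l : ℕ))) (2 ^ (7 - 2 ^ (l' : ℕ))) < 512 ∧
        (l ≠ l' → ∀ d ∈ [0, 128, 256, 384],
          mul (2 ^ (7 - 2 ^ (l : ℕ))) (2 ^ (7 - 2 ^ (l' : ℕ))) ≠ d) := by decide +kernel
    by_contra hll
    refine (hchk l l').2 hll d' ?_ (val_inj O (hchk l l').1 ?_ e'')
    · simpa using hd'
    · omega
  let τ : Equiv.Perm (Fin 3) :=
    (Equiv.ofBijective σ ⟨hσinj, Finite.injective_iff_surjective.1 hσinj⟩).symm
  have hτ : ∀ i, σ (τ i) = i := fun i => Equiv.ofBijective_apply_symm_apply σ _ i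
  -- the images of the roots `w {i}`
  have hu : ∀ i, ∃ k < 32, jc k ∈ clsL i ∧
      h * val t F (rc (τ i)) * h⁻¹ = val t F (jc k) * F.x i := by
    intro i
    obtain ⟨u, hudef⟩ : ∃ u, u = h * val t F (rc (τ i)) * h⁻¹ := ⟨_, rfl⟩
    have huQc : u ∈ S.Qc g := hudef ▸ W.toQc _ (val_mem O _)
    have hut : u * t = t * u := by
      rw [hudef]; conv_lhs => arg 2; rw [← W.hq]
      rw [(conj_comm h _ _).2 (r_commute_q O (τ i)), W.hq]
    have huq : u * (g * t * g⁻¹) = g * t * g⁻¹ * u := by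
      rw [hudef, ← W.ht]
      exact (conj_comm h _ _).2 (val_comm_t O _)
    obtain ⟨k₀, hk₀, s, hs, hks⟩ := exists_code O P hut huq
    have hJ : val t F (2 * k₀) ∈ S.Q ⊓ S.Qc g := ⟨val_mem O _, by
      have := mul_mem huQc (inv_mem (xp_mem O s))
      rwa [hks, mul_inv_cancel_right] at this⟩
    obtain ⟨k, hk, hkv⟩ := exists_jc O P hJ
    rw [← hkv] at hks
    have hbit : ∀ j : Fin 3, Nat.testBit s j = decide (j = i) := by
      intro j
      obtain ⟨h1, h2, h3⟩ := pattern_check k hk s hs _ (cσ (τ j)) (hσ (τ j))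
      rw [hτ j] at h3
      have hcomm : u * val t F (cσ (τ j)) = val t F (cσ (τ j)) * u ↔
          mul (jc k) (actS s (cσ (τ j))) = mul (cσ (τ j)) (jc k) := by
        have e1 : u * val t F (cσ (τ j)) = val t F (mul (jc k) (actS s (cσ (τ j)))) * xp F s := by
          rw [hks, ← val_mul O, ← xp_val O]
          simp only [mul_assoc, xp_sq O, mul_one]
        have e2 : val t F (cσ (τ j)) * u = val t F (mul (cσ (τ j)) (jc k)) * xp F s := by
          rw [hks, ← val_mul O]; simp only [mul_assoc]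
        rw [e1, e2]
        exact ⟨fun e => val_inj O h1 h2 (mul_right_cancel e), fun e => by rw [e]⟩
      have hsrc : u * val t F (cσ (τ j)) = val t F (cσ (τ j)) * u ↔ j ≠ i := by
        rw [hudef, ← eσ (τ j), conj_comm, ← val_w O _ (hl8 (τ j)), val_mul O, val_mul O]
        have hchk : ∀ a b : Fin 3, mul (rc a) (2 ^ (7 - 2 ^ (b : ℕ))) < 512 ∧
            mul (2 ^ (7 - 2 ^ (b : ℕ))) (rc a) < 512 ∧
            (mul (rc a) (2 ^ (7 - 2 ^ (b : ℕ))) = mul (2 ^ (7 - 2 ^ (b : ℕ))) (rc a) ↔ b ≠ a) := by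
          decide +kernel
        obtain ⟨g1, g2, g3⟩ := hchk (τ i) (τ j)
        exact ⟨fun e => fun hji => g3.1 (val_inj O g1 g2 e) (by rw [hji]),
          fun hji => by rw [g3.2 fun e => hji (τ.injective e)]⟩
      have hiff := hcomm.symm.trans hsrc
      by_cases hji : j = i
      · rw [decide_eq_true hji]
        by_contra hb
        rw [Bool.not_eq_true] at hb
        rw [hb, Bool.not_false, beq_iff_eq] at h3
        exact hiff.1 h3 hji
      · rw [decide_eq_false hji]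
        by_contra hb
        rw [Bool.not_eq_false] at hb
        rw [hb, Bool.not_true, beq_eq_false_iff_ne] at h3
        exact h3 (hiff.2 hji)
    have hs2 : ∀ s < 8, ∀ i : Fin 3, (∀ j : Fin 3, Nat.testBit s j = decide (j = i)) →
        s = 2 ^ (i : ℕ) := by decide
    obtain rfl := hs2 s hs i hbit
    rw [xp_pow] at hks
    have hcj : IsConj t (val t F (jc k) * F.x i) :=
      hks ▸ hudef ▸ ((val_r O (τ i)).symm ▸ O.w_conj _).trans (isConj_iff.2 ⟨h, rfl⟩)
    have hsq := isConj_sq S hcj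
    rw [show val t F (jc k) * F.x i * (val t F (jc k) * F.x i) =
      val t F (jc k) * (F.x i * val t F (jc k) * F.x i) by simp only [mul_assoc], x_val O,
      val_mul O, ← val_zero (t := t) O] at hsq
    obtain ⟨hlt, himp⟩ := jc_invol i k hk
    rcases himp (val_inj O hlt (by norm_num) hsq) with hin | hin
    · exact ⟨k, hk, hin, hudef ▸ hks⟩
    · exact (not_shift O i (jc_lt k hk) hin hcj).elim
  choose k hk hcls hu using hu
  have hpair : ∀ i j, mul (jc (k i)) (act true i (jc (k j))) =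
      mul (jc (k j)) (act true j (jc (k i))) := by
    intro i j
    have hchk : ∀ a b : Fin 3, mul (rc a) (rc b) = mul (rc b) (rc a) := by decide +kernel
    have e : val t F (rc (τ i)) * val t F (rc (τ j)) = val t F (rc (τ j)) * val t F (rc (τ i)) := by
      rw [val_mul O, val_mul O, hchk]
    have e' := (conj_comm h _ _).2 e
    rw [hu i, hu j] at e'
    have r : ∀ a b : Fin 3, val t F (jc (k a)) * F.x a * (val t F (jc (k b)) * F.x b) =
        val t F (mul (jc (k a)) (act true a (jc (k b)))) * (F.x a * F.x b) := fun a b => by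
      rw [← val_mul O, ← x_val O]
      have : F.x a * (F.x a * F.x b) = F.x b := by rw [← mul_assoc, O.x_sq, one_mul]
      simp only [mul_assoc, this]
    rw [r i j, r j i, O.xx j i] at e'
    exact val_inj O (mul_act_lt i _ (hk i) _ (hk j)) (mul_act_lt j _ (hk j) _ (hk i))
      (mul_right_cancel e')
  obtain ⟨d, hd, d0, d1, d2⟩ := triple_check (k 0) (List.mem_range.2 (hk 0)) (hcls 0)
    (k 1) (List.mem_range.2 (hk 1)) (hcls 1) (hpair 0 1) (k 2) (List.mem_range.2 (hk 2)) (hcls 2)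
    (hpair 0 2) (hpair 1 2)
  rw [List.mem_range] at hd
  have hdall : ∀ i : Fin 3, mul (2 * d) (mul (jc (k i)) (act true i (inv (2 * d)))) = 0 := by
    intro i; fin_cases i <;> assumption
  have hdq : val t F (2 * d) * (g * t * g⁻¹) = g * t * g⁻¹ * val t F (2 * d) := by
    rw [← val_q O, val_mul O, val_mul O, cent_q_check d (by omega)]
  refine ⟨val t F (2 * d) * h, τ, W.mul_left (val_comm_t O _) hdq, fun i => ?_, fun i => ?_⟩
  · calc val t F (2 * d) * h * val t F (rc (τ i)) * (val t F (2 * d) * h)⁻¹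
        = val t F (2 * d) * (h * val t F (rc (τ i)) * h⁻¹) * (val t F (2 * d))⁻¹ := by group
      _ = val t F (2 * d) * (val t F (jc (k i)) *
            (F.x i * val t F (inv (2 * d)) * F.x i)) * F.x i := by
          rw [hu i, val_inv O (by omega)]
          simp only [mul_assoc, O.x_sq, mul_one]
      _ = F.x i := by rw [x_val O, val_mul O, val_mul O, hdall i, val_zero O, one_mul]
  · refine ⟨_, cl_conj d hd i (cσ (τ i)) (by have h5 := hσ (τ i); rwa [hτ i] at h5), ?_⟩
    rw [← val_mul O, ← val_mul O, ← eσ, ← val_inv O (by omega)]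
    group

/-- The swap carries the two frames into each other. -/
theorem exists_good [Finite G] (P : PairData S g) : ∃ (h : G) (τ : Equiv.Perm (Fin 3)),
    Swap S g h ∧ (∀ i, h * val t F (rc (τ i)) * h⁻¹ = F.x i) ∧
      ∀ i, h * F.x (τ i) * h⁻¹ = val t F (rc i) := by
  obtain ⟨h, τ, W, hx, hcl⟩ := exists_stage O P
  choose cc hcc ecc using hcl
  have hlift : ∀ i, ∃ c ∈ liftL i, h * F.x (τ i) * h⁻¹ = val t F c := by
    intro i
    have hne : h * F.x (τ i) * h⁻¹ ≠ t := fun e => x_not_mem O (τ i) (by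
      have e2 : h * F.x (τ i) * h⁻¹ = h * (g * t * g⁻¹) * h⁻¹ := e.trans W.hq.symm
      rw [mul_left_cancel (mul_right_cancel e2)]; exact P.mem)
    obtain ⟨c, hc, hcv⟩ := exists_orb O (W.toQ _ (O.x_memc (τ i)))
      ((O.x_conj (τ i)).trans (isConj_iff.2 ⟨h, rfl⟩)) hne
    have hlt := (orb_closed c hc).1
    have hq : mul c 128 = mul 128 c := by
      refine val_inj O (orb_mul_q c hc).1 (orb_mul_q c hc).2 ?_
      rw [← val_mul O, ← val_mul O, val_q O, hcv, ← W.ht]
      exact (conj_comm h _ _).2 (mem_cent (O.x_mem _))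
    have hfix : act true i c = c := by
      refine val_inj O ?_ hlt ?_
      · exact (orb_closed _ ((orb_closed c hc).2.2.1 i).1).1
      rw [← x_val O, hcv]
      have e : h * F.x (τ i) * h⁻¹ * F.x i = F.x i * (h * F.x (τ i) * h⁻¹) := by
        rw [← hx i, conj_comm]
        have := x_val O (τ i) (rc (τ i))
        rw [show act true ((τ i : Fin 3) : ℕ) (rc (τ i)) = rc (τ i) by
          have : ∀ a : Fin 3, act true (a : ℕ) (rc a) = rc a := by decide +kernel
          exact this _] at this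
        conv_rhs => rw [← this]
        simp only [mul_assoc, O.x_sq, mul_one]
      rw [← e, mul_assoc, O.x_sq, mul_one]
    refine ⟨c, lift_check i c hc hq hfix fun j d hd => ?_, hcv.symm⟩
    have hchk : ∀ i j : Fin 3, ∀ c ∈ orbL, mul c 128 = mul 128 c → act true i c = c →
        ∀ d ∈ clL j, ∀ d' ∈ clL j, (mul c d == mul d c) = (mul c d' == mul d' c) ∧
          mul c d' < 512 ∧ mul d' c < 512 := by decide +kernel
    obtain ⟨h1, h2, h3⟩ := hchk i j c hc hq hfix d hd (cc j) (hcc j)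
    rw [h1]
    have hiff : mul c (cc j) = mul (cc j) c ↔ j ≠ i := by
      have e1 : (F.x (τ i) * F.w (sub (7 - 2 ^ ((τ j : Fin 3) : ℕ))) =
          F.w (sub (7 - 2 ^ ((τ j : Fin 3) : ℕ))) * F.x (τ i)) ↔ j ≠ i := by
        have hl : ∀ l : Fin 3, 7 - 2 ^ (l : ℕ) < 8 := fun l => Nat.lt_of_le_of_lt (Nat.sub_le _ _) (by norm_num)
        rw [← val_w O _ (hl (τ j))]
        have hc2 : ∀ a b : Fin 3, act true (a : ℕ) (2 ^ (7 - 2 ^ (b : ℕ))) < 512 ∧
            2 ^ (7 - 2 ^ (b : ℕ)) < 512 ∧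
            (act true (a : ℕ) (2 ^ (7 - 2 ^ (b : ℕ))) = 2 ^ (7 - 2 ^ (b : ℕ)) ↔ b ≠ a) := by
          decide +kernel
        obtain ⟨g1, g2, g3⟩ := hc2 (τ i) (τ j)
        have ev := x_val O (τ i) (2 ^ (7 - 2 ^ ((τ j : Fin 3) : ℕ)))
        constructor
        · intro e hji
          rw [e, mul_assoc, O.x_sq, mul_one] at ev
          exact g3.1 (val_inj O g2 g1 ev).symm (by rw [hji])
        · intro hji
          rw [g3.2 fun e => hji (τ.injective e)] at ev
          conv_rhs => rw [← ev]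
          simp only [mul_assoc, O.x_sq, mul_one]
      rw [← conj_comm h, ecc j, ← hcv, val_mul O, val_mul O] at e1
      exact ⟨fun e => e1.1 (by rw [e]), fun hji => val_inj O h2 h3 (e1.2 hji)⟩
    by_cases hji : j = i
    · rw [decide_eq_true hji, Bool.not_true, beq_eq_false_iff_ne]
      exact fun e => hiff.1 e hji
    · rw [decide_eq_false hji, Bool.not_false, beq_iff_eq]
      exact hiff.2 hji
  choose c hc ec using hlift
  have hlink : ∀ i j : Fin 3, mul (c i) (act true j (c i)) = mul (c j) (act true i (c j)) := by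
    intro i j
    have hsymm : ∀ a b : Fin 3, mul (act true (a : ℕ) (rc b)) (rc b) =
        mul (act true (b : ℕ) (rc a)) (rc a) := by decide +kernel
    have e1 : ∀ a b : Fin 3, F.x a * val t F (rc b) * F.x a * val t F (rc b) =
        val t F (mul (act true (a : ℕ) (rc b)) (rc b)) := fun a b => by
      rw [x_val O, val_mul O]
    have e2 : ∀ a b : Fin 3, val t F (mul (c a) (act true b (c a))) =
        h * (F.x (τ a) * val t F (rc (τ b)) * F.x (τ a) * val t F (rc (τ b))) * h⁻¹ := fun a b => by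
      rw [← val_mul O, ← x_val O, ← ec a, ← hx b]
      group
    refine val_inj O ((lift_lt i _ (hc i)).2 j) ((lift_lt j _ (hc j)).2 i) ?_
    rw [e2, e2, e1, e1, hsymm]
  obtain ⟨s, hs, s0, s1, s2⟩ := link_check (c 0) (hc 0) (c 1) (hc 1) (hlink 0 1) (c 2) (hc 2)
    (hlink 0 2) (hlink 1 2)
  have hsall : ∀ i : Fin 3, actS s (c i) = rc i ∨ actS s (c i) = rc i ^^^ 256 := by
    intro i; fin_cases i <;> assumption
  have hsx : ∀ i, xp F s * F.x i * xp F s = F.x i := fun i => by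
    have h01 : ∀ a, Commute (F.x a) (F.x i) := fun a => O.xx a i
    have hc' : Commute (xp F s) (F.x i) := by
      unfold xp
      refine (Commute.mul_left ?_ ?_).mul_left ?_
      all_goals first
        | (cases s.testBit 0 <;> first | exact Commute.one_left _ | exact h01 _)
        | (cases s.testBit 1 <;> first | exact Commute.one_left _ | exact h01 _)
        | (cases s.testBit 2 <;> first | exact Commute.one_left _ | exact h01 _)
    rw [hc'.eq, mul_assoc, xp_sq O, mul_one]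
  obtain ⟨h', hh'⟩ : ∃ h', h' = xp F s * h := ⟨_, rfl⟩
  have hconj : ∀ a, h' * a * h'⁻¹ = xp F s * (h * a * h⁻¹) * xp F s := fun a => by
    rw [hh', mul_inv_rev, inv_eq_of_mul_eq_one_right (xp_sq O s)]
    simp only [mul_assoc]
  have W' : Swap S g h' := hh' ▸ W.mul_left (xp_t O s) (xp_q O s)
  have hx' : ∀ i, h' * val t F (rc (τ i)) * h'⁻¹ = F.x i := fun i => by rw [hconj, hx, hsx]
  refine ⟨h', τ, W', hx', fun i => ?_⟩
  have hval : h' * F.x (τ i) * h'⁻¹ = val t F (actS s (c i)) := by rw [hconj, ec, xp_val O]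
  rcases hsall i with e | e
  · rw [hval, e]
  · exfalso
    rw [e, ← mul_256 _ (by fin_cases i <;> decide +kernel : rc i < 512), ← val_mul O, val_t O]
      at hval
    obtain ⟨f, hf⟩ : ∃ f, f = h' * F.w (sub 0) * h'⁻¹ := ⟨_, rfl⟩
    have he : ∀ a : Fin 3, F.w (sub 0) * F.x a * F.w (sub 0) = F.x a * val t F (rc a) := by
      intro a
      rw [← val_w O 0 (by norm_num)]
      calc val t F (2 ^ 0) * F.x a * val t F (2 ^ 0)
          = F.x a * (F.x a * val t F (2 ^ 0) * F.x a) * val t F (2 ^ 0) := by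
            simp only [← mul_assoc, O.x_sq, one_mul]
        _ = F.x a * val t F (rc a) := by
          rw [x_val O, mul_assoc, val_mul O]
          congr 2
          revert a
          decide +kernel
    have hqd : g * t * g⁻¹ * F.w (sub 0) = F.w (sub 0) * (g * t * g⁻¹) * t := by
      rw [← val_q O, ← val_w O 0 (by norm_num)]
      rw [val_mul O, show mul 128 (2 ^ 0) = mul (mul (2 ^ 0) 128) 256 by decide +kernel,
        ← val_mul O, ← val_mul O, val_t O]
    have hft : f * t * f = t * (g * t * g⁻¹) := by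
      have : F.w (sub 0) * (g * t * g⁻¹) * F.w (sub 0) = g * t * g⁻¹ * t := by
        rw [mul_assoc, hqd, ← mul_assoc, ← mul_assoc, O.w_sq, one_mul]
      calc f * t * f = h' * (F.w (sub 0) * (g * t * g⁻¹) * F.w (sub 0)) * h'⁻¹ := by
            rw [hf]; conv_lhs => arg 1; arg 2; rw [← W'.hq]
            group
        _ = t * (g * t * g⁻¹) := by rw [this, ← conj_mul, W'.hq, W'.ht]
    have h1 : f * (val t F (rc i) * t) * f = val t F (rc i) * t * F.x i := by
      calc f * (val t F (rc i) * t) * f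
          = h' * (F.w (sub 0) * F.x (τ i) * F.w (sub 0)) * h'⁻¹ := by rw [hf, ← hval]; group
        _ = _ := by rw [he, ← conj_mul, hval, hx']
    have hf1 : f * f = 1 := by
      rw [hf, conj_mul, O.w_sq]
      group
    have hfr : f * val t F (rc i) * f = val t F (mul (rc i) 128) * F.x i := by
      have e1 : f * val t F (rc i) * f = val t F (rc i) * t * F.x i * (f * t * f) := by
        rw [← h1]
        simp only [mul_assoc]
        rw [← mul_assoc f f, hf1, one_mul, ← mul_assoc t t, tt S, one_mul]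
      rw [e1, hft, ← val_mul O, val_q O]
      calc val t F (rc i) * t * F.x i * (t * (g * t * g⁻¹))
          = val t F (rc i) * (t * (F.x i * t)) * (g * t * g⁻¹) := by simp only [mul_assoc]
        _ = val t F (rc i) * (F.x i * (g * t * g⁻¹)) := by
          rw [mem_cent (O.x_mem i), ← mul_assoc t, tt S, one_mul, mul_assoc]
        _ = _ := by rw [x_commute_q O i, ← mul_assoc]
    refine not_shift O i (eps_check i).2 (eps_check i).1 ?_
    rw [← hfr]
    refine ((val_r O i).symm ▸ O.w_conj _ : IsConj t (val t F (rc i))).trans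
      (isConj_iff.2 ⟨f, ?_⟩)
    rw [inv_eq_of_mul_eq_one_right hf1]

end

end CfsgLib.DFour.Code
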