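import Mathlib

/-!
# Two-subgroups of a product of three symmetric groups of degree three (S3345)
-/

set_option autoImplicit false
set_option linter.unusedSectionVars false

namespace CfsgLib.DFour.PairPerm

open Equiv Subgroup

/-- The Levi complement. -/
abbrev W := Fin 3 → Equiv.Perm (Fin 3)

theorem perm_cent' : ∀ s x : Perm (Fin 3),
    s ≠ 1 ∧ s * s = 1 ∧ x * s = s * x → x = 1 ∨ x = s := by
  decide

theorem perm_cent (s x : Perm (Fin 3)) (h1 : s ≠ 1) (h2 : s * s = 1) (h3 : x * s = s * x) :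
    x = 1 ∨ x = s :=
  perm_cent' s x ⟨h1, h2, h3⟩

theorem perm_two : ∀ x : Perm (Fin 3), x * x * (x * x) = 1 → x * x = 1 := by decide

/-- An element of order three. -/
def rot : Perm (Fin 3) := Equiv.swap 0 1 * Equiv.swap 1 2

theorem rot_cube : rot * rot * rot = 1 := by decide

theorem rot_sq_ne : rot * rot ≠ 1 := by decide

theorem perm_flip : ∀ s : Perm (Fin 3), s ≠ 1 → s * s = 1 → s * rot = rot * rot * s := by decide

theorem perm_three : ∀ x : Perm (Fin 3), x ≠ 1 → x * x * x = 1 → x = rot ∨ x = rot * rot := by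
  decide

theorem sq_of_four {x : W} (h : x * x * (x * x) = 1) : x * x = 1 :=
  funext fun i => perm_two (x i) (congrFun h i)

theorem comm_of_sq {E : Subgroup W} (hsq : ∀ x ∈ E, x * x = 1) {a b : W} (ha : a ∈ E)
    (hb : b ∈ E) : a * b = b * a := by
  have i : ∀ x ∈ E, x⁻¹ = x := fun x hx => inv_eq_of_mul_eq_one_right (hsq x hx)
  calc a * b = (a * b)⁻¹ := (i _ (E.mul_mem ha hb)).symm
    _ = b⁻¹ * a⁻¹ := mul_inv_rev a b
    _ = b * a := by rw [i a ha, i b hb]

theorem card_W : Nat.card W = 216 := by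
  rw [Nat.card_eq_fintype_card]
  simp [Fintype.card_perm, Nat.factorial]

theorem card_le_eight {E : Subgroup W} (hsq : ∀ x ∈ E, x * x = 1) : Nat.card E ≤ 8 := by
  have : Fact (Nat.Prime 2) := ⟨Nat.prime_two⟩
  have hp : IsPGroup 2 E := fun x => ⟨1, by
    rw [pow_one, pow_two]
    exact Subtype.ext (hsq x x.2)⟩
  obtain ⟨n, hn⟩ := IsPGroup.iff_card.1 hp
  have hdvd : 2 ^ n ∣ 216 := by
    have h := Subgroup.card_subgroup_dvd_card E
    rwa [hn, card_W] at h
  have h3 : n ≤ 3 := by
    by_contra h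
    have h16 : (16 : ℕ) ∣ 216 := dvd_trans (pow_dvd_pow 2 (by omega : 4 ≤ n)) hdvd
    norm_num at h16
  rw [hn]
  exact (Nat.pow_le_pow_right (by norm_num) h3).trans (by norm_num)

open scoped Classical in
/-- An elementary subgroup of order eight is the product of three reflections and equals its own
normalizer. -/
theorem sylow {E : Subgroup W} (hsq : ∀ x ∈ E, x * x = 1) (hcard : Nat.card E = 8) :
    ∃ σ : Fin 3 → Perm (Fin 3), (∀ i, σ i ≠ 1) ∧ (∀ i, σ i * σ i = 1) ∧
      (∀ i, Pi.mulSingle i (σ i) ∈ E) ∧ ∀ x : W, (∀ e ∈ E, x * e * x⁻¹ ∈ E) → x ∈ E := by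
  have hsame : ∀ i, ∀ a ∈ E, ∀ b ∈ E, a i ≠ 1 → b i ≠ 1 → a i = b i := by
    intro i a ha b hb hai hbi
    rcases perm_cent (b i) (a i) hbi (congrFun (hsq b hb) i)
      (congrFun (comm_of_sq hsq ha hb) i) with h | h
    · exact absurd h hai
    · exact h
  let f : E → (Fin 3 → Bool) := fun a i => decide ((a : W) i = 1)
  have hf : Function.Injective f := by
    intro a b h
    refine Subtype.ext (funext fun i => ?_)
    have hi : decide ((a : W) i = 1) = decide ((b : W) i = 1) := congrFun h i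
    rcases eq_or_ne ((a : W) i) 1 with ha | ha
    · rw [ha, decide_eq_true rfl] at hi
      rw [ha, of_decide_eq_true hi.symm]
    · rw [decide_eq_false ha] at hi
      exact hsame i a a.2 b b.2 ha (of_decide_eq_false hi.symm)
  have hbij : Function.Bijective f :=
    hf.bijective_of_nat_card_le (by rw [hcard]; simp)
  have hex : ∀ i : Fin 3, ∃ s : Perm (Fin 3), s ≠ 1 ∧ Pi.mulSingle i s ∈ E := by
    intro i
    obtain ⟨a, ha⟩ := hbij.2 fun j => decide (j ≠ i)
    have hj : ∀ j, decide ((a : W) j = 1) = decide (j ≠ i) := congrFun ha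
    have hne : (a : W) i ≠ 1 := fun h => by simpa [h] using hj i
    refine ⟨(a : W) i, hne, ?_⟩
    have hsingle : Pi.mulSingle i ((a : W) i) = (a : W) := by
      funext j
      rcases eq_or_ne j i with rfl | h
      · rw [Pi.mulSingle_eq_same]
      · rw [Pi.mulSingle_eq_of_ne h]
        have := hj j
        rw [decide_eq_true h] at this
        exact (of_decide_eq_true this).symm
    rw [hsingle]
    exact a.2
  choose σ hσ using hex
  have hs : ∀ i, σ i * σ i = 1 := fun i => by
    have h := congrFun (hsq _ (hσ i).2) i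
    simpa using h
  refine ⟨σ, fun i => (hσ i).1, hs, fun i => (hσ i).2, fun x hx => ?_⟩
  have hxi : ∀ i, x i = 1 ∨ x i = σ i := by
    intro i
    refine perm_cent (σ i) (x i) (hσ i).1 (hs i) ?_
    have hm := hx _ (hσ i).2
    have hval : (x * Pi.mulSingle i (σ i) * x⁻¹ : W) i = x i * σ i * (x i)⁻¹ := by simp
    have hne : (x * Pi.mulSingle i (σ i) * x⁻¹ : W) i ≠ 1 := by
      rw [hval, ne_eq, mul_inv_eq_one]
      exact fun h => (hσ i).1 (mul_left_cancel (h.trans (mul_one (x i)).symm))
    have heq := hsame i _ hm _ (hσ i).2 hne (by simpa using (hσ i).1)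
    rw [hval, Pi.mulSingle_eq_same] at heq
    exact mul_inv_eq_iff_eq_mul.1 heq
  obtain ⟨a, ha⟩ := hbij.2 fun j => decide (x j = 1)
  have : (a : W) = x := by
    funext i
    have hi : decide ((a : W) i = 1) = decide (x i = 1) := congrFun ha i
    rcases hxi i with h | h
    · rw [h, decide_eq_true rfl] at hi
      rw [h]
      exact of_decide_eq_true hi
    · rw [decide_eq_false (p := x i = 1) (h ▸ (hσ i).1)] at hi
      rw [h]
      have h' := hsame i a a.2 _ (hσ i).2 (of_decide_eq_false hi) (by simpa using (hσ i).1)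
      rwa [Pi.mulSingle_eq_same] at h'
  exact this ▸ a.2

end CfsgLib.DFour.PairPerm
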