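import Cfsg.Agent.Lib.DFour.Defs
import Cfsg.Agent.Lib.DFour.PairPerm
import Cfsg.Agent.Lib.PGroups.Extraspecial

/-!
# A conjugate of the involution in the core: orders (S3345)
-/

set_option autoImplicit false
set_option linter.unusedSectionVars false

namespace CfsgLib.DFour.Pair

open Subgroup PairPerm
open scoped commutatorElement

variable {G : Type*} [Group G] [Finite G] {t : G} (S : Setting t)

include S

theorem t_sq : t * t = 1 := by
  rw [← pow_two, ← S.invol]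
  exact pow_orderOf_eq_one t

theorem t_ne : t ≠ 1 := by
  intro h
  have := S.invol
  rw [h, orderOf_one] at this
  omega

theorem t_comm {a : G} (ha : a ∈ S.Q) : a * t = t * a :=
  mem_centralizer_singleton_iff.1 (S.Q_le ha)

theorem four {a : G} (ha : a ∈ S.Q) : a * a * (a * a) = 1 := by
  rcases S.sq a ha with h | h <;> simp [h, t_sq S]

theorem mem_center_iff' {z : ↥S.Q} :
    z ∈ center ↥S.Q ↔ (z : G) = 1 ∨ (z : G) = t := by
  rw [Subgroup.mem_center_iff]
  refine ⟨fun h => S.center z z.2 fun b hb =>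
    (congrArg Subtype.val (h ⟨b, hb⟩)).symm, fun h a => Subtype.ext ?_⟩
  show (a : G) * z = z * a
  rcases h with h | h <;> rw [h]
  · simp
  · exact t_comm S a.2

theorem comm_center (a b : ↥S.Q) : ⁅a, b⁆ ∈ center ↥S.Q := by
  rw [mem_center_iff' S, commutatorElement_def]
  exact S.comm a a.2 b b.2

theorem center_eq : center ↥S.Q = zpowers (⟨t, S.t_mem⟩ : ↥S.Q) := by
  refine le_antisymm (fun z hz => ?_) (zpowers_le.2 ((mem_center_iff' S).2 (Or.inr rfl)))
  rcases (mem_center_iff' S).1 hz with h | h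
  · exact (Subtype.ext h : z = 1) ▸ one_mem _
  · exact (Subtype.ext h : z = ⟨t, S.t_mem⟩) ▸ mem_zpowers _

theorem orderOf_tQ : orderOf (⟨t, S.t_mem⟩ : ↥S.Q) = 2 :=
  ((orderOf_injective S.Q.subtype S.Q.subtype_injective ⟨t, S.t_mem⟩).symm).trans S.invol

theorem card_center : Nat.card (center ↥S.Q) = 2 := by
  rw [center_eq S, Nat.card_zpowers, orderOf_tQ S]

theorem isPGroup : IsPGroup 2 ↥S.Q := IsPGroup.of_card S.Q_card

/-- An abelian subgroup of the core has order at most `32`. -/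
theorem abelian_le {A : Subgroup G} (hA : A ≤ S.Q) (hab : ∀ a ∈ A, ∀ b ∈ A, a * b = b * a) :
    Nat.card A ≤ 32 := by
  have : Fact (Nat.Prime 2) := ⟨Nat.prime_two⟩
  set B : Subgroup ↥S.Q := A.subgroupOf S.Q ⊔ center ↥S.Q
  have hAc : A.subgroupOf S.Q ≤ centralizer (A.subgroupOf S.Q : Set ↥S.Q) := fun a ha b hb =>
    Subtype.ext (hab _ hb _ ha)
  have hB : B ≤ centralizer (B : Set ↥S.Q) := by
    refine sup_le ?_ (center_le_centralizer _)
    rw [Subgroup.le_centralizer_iff]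
    exact sup_le hAc (center_le_centralizer _)
  have h := CfsgLib.PGroups.relIndex_centralizer_le (p := 2) (le_refl (center ↥S.Q))
    (card_center S).le (L := (⊤ : Subgroup ↥S.Q)) ((isPGroup S).to_subgroup _)
    (fun g x _ => comm_center S g x) (K := B) le_top
  rw [Subgroup.coe_top, Subgroup.centralizer_univ, Subgroup.relIndex_top_right] at h
  have h1 : (center ↥S.Q).relIndex B ≤
      (center ↥S.Q).relIndex (centralizer (B : Set ↥S.Q)) :=
    Subgroup.relIndex_le_of_le_right hB Subgroup.FiniteIndex.index_ne_zero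
  have e1 : 2 * (center ↥S.Q).relIndex B = Nat.card B := by
    rw [← card_center S, ← Subgroup.relIndex_bot_left (center ↥S.Q),
      Subgroup.relIndex_mul_relIndex ⊥ _ _ bot_le le_sup_right, Subgroup.relIndex_bot_left]
  have e2 : Nat.card B * B.index = 512 := by
    rw [mul_comm, Subgroup.index_mul_card, S.Q_card]; norm_num
  have h2 : Nat.card A ≤ Nat.card B := by
    rw [← Nat.card_congr (Subgroup.subgroupOfEquivOfLe hA).toEquiv]
    exact Subgroup.card_le_of_le le_sup_left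
  have h3 : Nat.card B * (center ↥S.Q).relIndex B ≤ Nat.card B * B.index :=
    Nat.mul_le_mul_left _ (h1.trans h)
  have h4 : Nat.card B * Nat.card B ≤ 1024 := by
    calc Nat.card B * Nat.card B = 2 * (Nat.card B * (center ↥S.Q).relIndex B) := by
          rw [← e1]; ring
      _ ≤ 2 * (Nat.card B * B.index) := Nat.mul_le_mul_left _ h3
      _ = 1024 := by rw [e2]
  nlinarith

variable {g : G} (hq : g * t * g⁻¹ ∈ S.Q) (hne : g * t * g⁻¹ ≠ t)

omit [Finite G] in
theorem mem_Qc {x : G} : x ∈ S.Qc g ↔ g⁻¹ * x * g ∈ S.Q := by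
  refine ⟨fun ⟨y, hy, hyx⟩ => ?_, fun h => ⟨_, h, ?_⟩⟩
  · rw [← hyx]
    simpa [mul_assoc] using hy
  · simp [mul_assoc]

omit S [Finite G] in
theorem mem_cent_conj {g x : G} : x ∈ centralizer ({g * t * g⁻¹} : Set G) ↔
    g⁻¹ * x * g ∈ centralizer ({t} : Set G) := by
  simp only [mem_centralizer_singleton_iff]
  constructor <;> intro h
  · calc g⁻¹ * x * g * t = g⁻¹ * (x * (g * t * g⁻¹)) * g := by simp [mul_assoc]
      _ = g⁻¹ * (g * t * g⁻¹ * x) * g := by rw [h]
      _ = t * (g⁻¹ * x * g) := by simp [mul_assoc]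
  · calc x * (g * t * g⁻¹) = g * (g⁻¹ * x * g * t) * g⁻¹ := by simp [mul_assoc]
      _ = g * (t * (g⁻¹ * x * g)) * g⁻¹ := by rw [h]
      _ = g * t * g⁻¹ * x := by simp [mul_assoc]

theorem Qc_le : S.Qc g ≤ centralizer ({g * t * g⁻¹} : Set G) := fun _ hx =>
  mem_cent_conj.2 (S.Q_le ((mem_Qc S).1 hx))

theorem q_ne_one : g * t * g⁻¹ ≠ 1 := fun h => t_ne S (conj_eq_one_iff.1 h)

include hq hne

theorem exists_moves : ∃ b ∈ S.Q, b * (g * t * g⁻¹) * b⁻¹ = g * t * g⁻¹ * t := by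
  by_contra! hno
  refine Or.elim (S.center _ hq fun b hb => ?_) (fun h => q_ne_one S h) (fun h => hne h)
  rcases S.comm b hb _ hq with h | h
  · exact ((commutatorElement_eq_one_iff_mul_comm (g₁ := b)).1 h).symm
  · refine absurd ?_ (hno b hb)
    calc b * (g * t * g⁻¹) * b⁻¹
        = b * (g * t * g⁻¹) * b⁻¹ * (g * t * g⁻¹)⁻¹ * (g * t * g⁻¹) :=
          (inv_mul_cancel_right _ _).symm
      _ = g * t * g⁻¹ * t := by rw [h, t_comm S hq]

theorem card_centQ : Nat.card (S.Q ⊓ centralizer ({g * t * g⁻¹} : Set G) : Subgroup G) = 256 := by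
  set x : ↥S.Q := ⟨g * t * g⁻¹, hq⟩
  have hi := CfsgLib.PGroups.index_centralizer_singleton_le (le_refl (center ↥S.Q)) (x := x)
    fun a => comm_center S a x
  rw [card_center S] at hi
  have hi1 : (centralizer ({x} : Set ↥S.Q)).index ≠ 1 := by
    intro h
    obtain ⟨b, hb, hbq⟩ := exists_moves S hq hne
    have hm : (⟨b, hb⟩ : ↥S.Q) ∈ centralizer ({x} : Set ↥S.Q) :=
      (Subgroup.index_eq_one.1 h) ▸ mem_top _
    have h' : b * (g * t * g⁻¹) = g * t * g⁻¹ * b :=
      congrArg Subtype.val (mem_centralizer_singleton_iff.1 hm)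
    rw [h', mul_inv_cancel_right] at hbq
    exact t_ne S (mul_left_cancel (hbq.symm.trans (mul_one _).symm))
  have h0 : (centralizer ({x} : Set ↥S.Q)).index ≠ 0 := Subgroup.FiniteIndex.index_ne_zero
  have hc := Subgroup.index_mul_card (centralizer ({x} : Set ↥S.Q))
  rw [show (centralizer ({x} : Set ↥S.Q)).index = 2 by omega, S.Q_card] at hc
  have he : (S.Q ⊓ centralizer ({g * t * g⁻¹} : Set G) : Subgroup G) =
      (centralizer ({x} : Set ↥S.Q)).map S.Q.subtype := by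
    ext a
    constructor
    · rintro ⟨ha, hac⟩
      exact ⟨⟨a, ha⟩, mem_centralizer_singleton_iff.2
        (Subtype.ext (mem_centralizer_singleton_iff.1 hac)), rfl⟩
    · rintro ⟨a, ha, rfl⟩
      exact ⟨a.2, mem_centralizer_singleton_iff.2
        (congrArg Subtype.val (mem_centralizer_singleton_iff.1 ha))⟩
  rw [he, Subgroup.card_map_of_injective S.Q.subtype_injective]
  omega

omit hq hne

/-- The image in the Levi complement of `C_Q(q)`, seen from `q`. -/
def imgQ (g : G) : ↥(S.Q ⊓ centralizer ({g * t * g⁻¹} : Set G) : Subgroup G) →* W :=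
  S.φ.comp (((MulAut.conj g⁻¹).toMonoidHom.comp (Subgroup.subtype _)).codRestrict _
    fun a => by simpa using mem_cent_conj.1 a.2.2)

theorem imgQ_sq {x : W} (hx : x ∈ (imgQ S g).range) : x * x = 1 := by
  obtain ⟨a, rfl⟩ := hx
  refine sq_of_four ?_
  rw [← map_mul, ← map_mul]
  have ha : a * a * (a * a) = 1 := Subtype.ext (four S a.2.1)
  rw [ha, map_one]

include hq hne

theorem t_mem : t ∈ S.Qc g := by
  set K := (S.Q ⊓ centralizer ({g * t * g⁻¹} : Set G) : Subgroup G)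
  have hK : ∃ a ∈ K, ∃ b ∈ K, a * b ≠ b * a := by
    by_contra! h
    have := abelian_le S (inf_le_left : K ≤ S.Q) h
    rw [card_centQ S hq hne] at this
    omega
  obtain ⟨a, ha, b, hb, hab⟩ := hK
  have hc : a * b * a⁻¹ * b⁻¹ = t :=
    (S.comm a ha.1 b hb.1).resolve_left fun h =>
      hab ((commutatorElement_eq_one_iff_mul_comm (g₁ := a)).1 h)
  have h1 : imgQ S g (⟨a, ha⟩ * ⟨b, hb⟩ * ⟨a, ha⟩⁻¹ * ⟨b, hb⟩⁻¹) = 1 := by
    rw [map_mul, map_mul, map_mul, map_inv, map_inv,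
      comm_of_sq (fun x hx => imgQ_sq S hx) ⟨⟨a, ha⟩, rfl⟩ ⟨⟨b, hb⟩, rfl⟩]
    group
  have h2 := (S.ker _).1 h1
  have h3 : g⁻¹ * (a * b * a⁻¹ * b⁻¹) * g ∈ S.Q := by simpa [mul_assoc] using h2
  rw [mem_Qc S]
  rwa [hc] at h3

theorem meet_le_cent : S.Q ⊓ S.Qc g ≤ centralizer ({g * t * g⁻¹} : Set G) :=
  inf_le_right.trans (Qc_le S)

theorem meet_sq : ∀ a ∈ S.Q ⊓ S.Qc g, a * a = 1 := by
  intro a ha
  rcases S.sq a ha.1 with h | h
  · exact h
  · exfalso
    have e : g⁻¹ * a * g * (g⁻¹ * a * g) = g⁻¹ * t * g := by rw [← h]; simp [mul_assoc]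
    rcases S.sq _ ((mem_Qc S).1 ha.2) with h' | h'
    · rw [e] at h'
      exact t_ne S (by simpa [mul_assoc] using congrArg (fun x => g * x * g⁻¹) h')
    · rw [e] at h'
      exact hne (by simpa [mul_assoc] using (congrArg (fun x => g * x * g⁻¹) h').symm)

theorem meet_comm : ∀ a ∈ S.Q ⊓ S.Qc g, ∀ b ∈ S.Q ⊓ S.Qc g, a * b = b * a := by
  intro a ha b hb
  have i : ∀ x ∈ S.Q ⊓ S.Qc g, x⁻¹ = x := fun x hx =>
    inv_eq_of_mul_eq_one_right (meet_sq S hq hne x hx)
  calc a * b = (a * b)⁻¹ := (i _ (mul_mem ha hb)).symm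
    _ = b⁻¹ * a⁻¹ := mul_inv_rev a b
    _ = b * a := by rw [i a ha, i b hb]

theorem meet_card : Nat.card (S.Q ⊓ S.Qc g : Subgroup G) = 32 := by
  refine le_antisymm (abelian_le S inf_le_left (meet_comm S hq hne)) ?_
  set f := imgQ S g
  have hker : Nat.card f.ker ≤ Nat.card (S.Q ⊓ S.Qc g : Subgroup G) :=
    Nat.card_le_card_of_injective
      (fun a : f.ker => (⟨((a : ↥(S.Q ⊓ centralizer ({g * t * g⁻¹} : Set G) : Subgroup G)) : G),
        a.1.2.1, (mem_Qc S).2 (by simpa [mul_assoc] using (S.ker _).1 (MonoidHom.mem_ker.1 a.2))⟩ :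
          ↥(S.Q ⊓ S.Qc g : Subgroup G)))
      fun a b h => Subtype.ext (Subtype.ext
        (congrArg (fun x : ↥(S.Q ⊓ S.Qc g : Subgroup G) => (x : G)) h))
  have hr : Nat.card f.range ≤ 8 := card_le_eight fun x hx => imgQ_sq S hx
  have h := f.ker.card_mul_index
  rw [Subgroup.index_ker, card_centQ S hq hne] at h
  nlinarith

theorem card_centQc : Nat.card (S.Qc g ⊓ centralizer ({t} : Set G) : Subgroup G) = 256 := by
  have h1 : g⁻¹ * t * (g⁻¹)⁻¹ ∈ S.Q := by simpa using (mem_Qc S).1 (t_mem S hq hne)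
  have h2 : g⁻¹ * t * (g⁻¹)⁻¹ ≠ t := fun h => hne (by
    calc g * t * g⁻¹ = g * (g⁻¹ * t * (g⁻¹)⁻¹) * g⁻¹ := by rw [h]
      _ = t := by simp [mul_assoc])
  have hc : centralizer ({g⁻¹ * t * (g⁻¹)⁻¹} : Set G) =
      (centralizer ({t} : Set G)).map (MulAut.conj g⁻¹).toMonoidHom := by
    ext x
    rw [mem_cent_conj, Subgroup.map_equiv_eq_comap_symm', Subgroup.mem_comap]
    simp
  have e : (S.Qc g ⊓ centralizer ({t} : Set G) : Subgroup G) =
      (S.Q ⊓ centralizer ({g⁻¹ * t * (g⁻¹)⁻¹} : Set G) : Subgroup G).map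
        (MulAut.conj g).toMonoidHom := by
    rw [Subgroup.map_inf _ _ _ (MulAut.conj g).injective, hc, Subgroup.map_map]
    congr 1
    ext x
    simp [mul_assoc]
  rw [e, Subgroup.card_map_of_injective (K := (S.Q ⊓ centralizer ({g⁻¹ * t * (g⁻¹)⁻¹} : Set G)))
    (f := (MulAut.conj g).toMonoidHom) (MulAut.conj g).injective, card_centQ S h1 h2]

omit hq hne

/-- The image in the Levi complement of `C_{Q'}(t)`. -/
def imgQc (g : G) : ↥(S.Qc g ⊓ centralizer ({t} : Set G) : Subgroup G) →* W :=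
  S.φ.comp (Subgroup.inclusion inf_le_right)

theorem imgQc_sq {x : W} (hx : x ∈ (imgQc S g).range) : x * x = 1 := by
  obtain ⟨⟨a, ha⟩, rfl⟩ := hx
  refine sq_of_four ?_
  rw [← map_mul, ← map_mul]
  obtain ⟨b, hb, hba⟩ := ha.1
  have h4 : a * a * (a * a) = 1 := by
    rw [← hba, ← map_mul, ← map_mul]
    simp [four S hb]
  have : (⟨a, ha⟩ * ⟨a, ha⟩ * (⟨a, ha⟩ * ⟨a, ha⟩) :
      ↥(S.Qc g ⊓ centralizer ({t} : Set G) : Subgroup G)) = 1 := Subtype.ext h4
  rw [this, map_one]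

include hq hne

theorem card_range_imgQc : Nat.card (imgQc S g).range = 8 := by
  set f := imgQc S g
  have hker : Nat.card f.ker = Nat.card (S.Q ⊓ S.Qc g : Subgroup G) := by
    refine Nat.card_congr
      { toFun := fun a => ⟨((a : ↥(S.Qc g ⊓ centralizer ({t} : Set G) : Subgroup G)) : G),
          (S.ker _).1 (MonoidHom.mem_ker.1 a.2), a.1.2.1⟩
        invFun := fun a => ⟨⟨(a : G), a.2.2, S.Q_le a.2.1⟩,
          MonoidHom.mem_ker.2 ((S.ker _).2 a.2.1)⟩
        left_inv := fun a => rfl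
        right_inv := fun a => rfl }
  have h := f.ker.card_mul_index
  rw [Subgroup.index_ker, hker, meet_card S hq hne, card_centQc S hq hne] at h
  omega

/-- The stabilizer of `q` modulo `t` lies over the image of `C_{Q'}(t)`. -/
theorem stab_mem (c : ↥(centralizer ({t} : Set G)))
    (hc : (c : G) * (g * t * g⁻¹) * (c : G)⁻¹ = g * t * g⁻¹ ∨
      (c : G) * (g * t * g⁻¹) * (c : G)⁻¹ = g * t * g⁻¹ * t) :
    S.φ c ∈ (imgQc S g).range := by
  obtain ⟨σ, -, -, -, hnorm⟩ := sylow (fun x hx => imgQc_sq S (g := g) hx)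
    (card_range_imgQc S hq hne)
  -- it suffices to treat an element fixing `q`
  have main : ∀ d : ↥(centralizer ({t} : Set G)),
      (d : G) * (g * t * g⁻¹) * (d : G)⁻¹ = g * t * g⁻¹ → S.φ d ∈ (imgQc S g).range := by
    intro d hd
    refine hnorm _ ?_
    rintro _ ⟨a, rfl⟩
    have hdq : (d : G) ∈ centralizer ({g * t * g⁻¹} : Set G) :=
      mem_centralizer_singleton_iff.2 (mul_inv_eq_iff_eq_mul.1 hd)
    have hmem : (d : G) * (a : G) * (d : G)⁻¹ ∈ S.Qc g ⊓ centralizer ({t} : Set G) := by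
      refine ⟨(mem_Qc S).2 ?_, Subgroup.mul_mem _ (Subgroup.mul_mem _ d.2 a.2.2) (Subgroup.inv_mem _ d.2)⟩
      have h := S.normal _ (mem_cent_conj.1 hdq) _ ((mem_Qc S).1 a.2.1)
      simpa [mul_assoc] using h
    refine ⟨⟨_, hmem⟩, ?_⟩
    have e : (Subgroup.inclusion inf_le_right
        (⟨_, hmem⟩ : ↥(S.Qc g ⊓ centralizer ({t} : Set G) : Subgroup G))) =
        d * Subgroup.inclusion inf_le_right a * d⁻¹ := Subtype.ext rfl
    show S.φ _ = _
    rw [e, map_mul, map_mul, map_inv]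
    rfl
  rcases hc with hc | hc
  · exact main c hc
  · obtain ⟨b, hb, hbq⟩ := exists_moves S hq hne
    have hbC := S.Q_le hb
    have h := main (⟨b, hbC⟩⁻¹ * c) (by
      show b⁻¹ * (c : G) * (g * t * g⁻¹) * (b⁻¹ * (c : G))⁻¹ = g * t * g⁻¹
      calc b⁻¹ * (c : G) * (g * t * g⁻¹) * (b⁻¹ * (c : G))⁻¹
          = b⁻¹ * ((c : G) * (g * t * g⁻¹) * (c : G)⁻¹) * b := by simp [mul_assoc]
        _ = b⁻¹ * (b * (g * t * g⁻¹) * b⁻¹) * b := by rw [hc, hbq]
        _ = g * t * g⁻¹ := by simp [mul_assoc])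
    rw [map_mul, map_inv, (S.ker ⟨b, hbC⟩).2 hb, inv_one, one_mul] at h
    exact h

theorem cent_card :
    Nat.card (centralizer ({t, g * t * g⁻¹} : Set G)) = 2 ^ 11 := by
  set D := centralizer ({t, g * t * g⁻¹} : Set G) with hD
  have hDt : D ≤ centralizer ({t} : Set G) :=
    centralizer_le (Set.singleton_subset_iff.2 (Set.mem_insert _ _))
  have hDq : D ≤ centralizer ({g * t * g⁻¹} : Set G) :=
    centralizer_le (Set.singleton_subset_iff.2 (Set.mem_insert_of_mem _ rfl))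
  have hmem : ∀ x : G, x ∈ centralizer ({t} : Set G) →
      x ∈ centralizer ({g * t * g⁻¹} : Set G) → x ∈ D := by
    intro x h1 h2 y hy
    rcases hy with rfl | rfl
    · exact h1 y rfl
    · exact h2 _ rfl
  set f := S.φ.comp (Subgroup.inclusion hDt) with hf
  have hker : Nat.card f.ker =
      Nat.card (S.Q ⊓ centralizer ({g * t * g⁻¹} : Set G) : Subgroup G) :=
    Nat.card_congr
      { toFun := fun a => ⟨((a : ↥D) : G), (S.ker _).1 (MonoidHom.mem_ker.1 a.2), hDq a.1.2⟩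
        invFun := fun a => ⟨⟨(a : G), hmem _ (S.Q_le a.2.1) a.2.2⟩,
          MonoidHom.mem_ker.2 ((S.ker _).2 a.2.1)⟩
        left_inv := fun a => rfl
        right_inv := fun a => rfl }
  have hr : f.range = (imgQc S g).range := by
    refine le_antisymm ?_ ?_
    · rintro _ ⟨d, rfl⟩
      refine stab_mem S hq hne _ (Or.inl ?_)
      exact mul_inv_eq_iff_eq_mul.2 (mem_centralizer_singleton_iff.1 (hDq d.2))
    · rintro _ ⟨a, rfl⟩
      exact ⟨⟨(a : G), hmem _ a.2.2 (Qc_le S a.2.1)⟩, rfl⟩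
  have h := f.ker.card_mul_index
  rw [Subgroup.index_ker, hker, hr, card_centQ S hq hne, card_range_imgQc S hq hne] at h
  omega

end CfsgLib.DFour.Pair
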